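import Mathlib
import Cfsg.Agent.S0639
import Cfsg.Agent.S1447
import Cfsg.Agent.Lib.helper26.S1454F
import Cfsg.Agent.Lib.helper8.S1454T
import Cfsg.Agent.Lib.helper12.S1456M2
import Cfsg.Agent.Lib.helper14.Trace

set_option autoImplicit false

namespace Cfsg.Agent.Lib.helper14.S1454AB

open scoped commutatorElement

/-- If all elements of order dividing `p` of the `p`-group `R` (`p > 3`) lie in a subgroup of order
at most `p ^ 2` and `R = [R, A]` for a `p'`-group `A` normalizing `R`, then `R` is abelian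
(Huppert's criterion S0639 + the metacyclic coprime action theorem S1447). -/
theorem abelian_of_omega_small {G : Type*} [Group G] [Finite G] (p : ℕ) [Fact p.Prime] (hp3 : 3 < p)
    (R A : Subgroup G) (hR : IsPGroup p R) (hA : A ≤ Subgroup.normalizer (R : Set G))
    (hcop : (Nat.card A).Coprime p) (hRA : ⁅R, A⁆ = R)
    (D : Subgroup G) (hDcard : Nat.card D ≤ p ^ 2) (hΩ : ∀ x ∈ R, x ^ p = 1 → x ∈ D) :
    IsMulCommutative R := by
  have hle : Cfsg.omegaOne p (⊤ : Subgroup ↥R) ≤ D.subgroupOf R := by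
    unfold Cfsg.omegaOne
    rw [Subgroup.closure_le]
    rintro x ⟨-, hx⟩
    rw [SetLike.mem_coe, Subgroup.mem_subgroupOf]
    apply hΩ _ x.2
    have := congrArg Subtype.val hx
    simpa using this
  have hO : Nat.card ↥(Cfsg.omegaOne p (⊤ : Subgroup ↥R)) ≤ p ^ 2 := by
    refine le_trans ?_ hDcard
    refine le_trans (Subgroup.card_le_of_le hle) ?_
    refine Nat.card_le_card_of_injective
      (fun x : ↥(D.subgroupOf R) => (⟨(x : ↥R), Subgroup.mem_subgroupOf.mp x.2⟩ : ↥D)) ?_
    intro x y hxy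
    apply Subtype.ext
    apply Subtype.ext
    exact congrArg (fun z : ↥D => (z : G)) hxy
  have hm : Cfsg.IsMetacyclic ↥R := Cfsg.Agent.S0639.result hp3 hR hO
  have h := (Cfsg.Agent.S1447.result p (by omega) R A hR hm hA hcop).1
  rw [hRA] at h
  exact h

/-- Rank transfer: abelian subgroups of exponent `p` inside `R` have order at most `p ^ 2`. -/
theorem rank_le_sq {G : Type*} [Group G] (p : ℕ) (R : Subgroup G) (hr : Cfsg.PRankLE p 2 R)
    (E : Subgroup G) (hER : E ≤ R) (hEc : ∀ x ∈ E, ∀ y ∈ E, x * y = y * x)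
    (hEp : ∀ x ∈ E, x ^ p = 1) : Nat.card E ≤ p ^ 2 := by
  have h1 : IsMulCommutative ↥(E.subgroupOf R) := by
    refine ⟨⟨fun a b => ?_⟩⟩
    apply Subtype.ext
    apply Subtype.ext
    exact hEc _ (Subgroup.mem_subgroupOf.mp a.2) _ (Subgroup.mem_subgroupOf.mp b.2)
  have h2 : ∀ a ∈ E.subgroupOf R, a ^ p = 1 := by
    intro a ha
    apply Subtype.ext
    exact hEp _ (Subgroup.mem_subgroupOf.mp ha)
  have h3 := hr (E.subgroupOf R) h1 h2
  rwa [Nat.card_congr (Subgroup.subgroupOfEquivOfLe hER).toEquiv] at h3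

/-- An abelian subgroup generated by two subgroups of exponent `p` has exponent `p`. -/
theorem exp_sup_zpowers {G : Type*} [Group G] (p : ℕ) (D : Subgroup G) (x : G)
    (hc : ∀ a ∈ D ⊔ Subgroup.zpowers x, ∀ b ∈ D ⊔ Subgroup.zpowers x, a * b = b * a)
    (hexp : ∀ d ∈ D, d ^ p = 1) (hx : x ^ p = 1) :
    ∀ y ∈ D ⊔ Subgroup.zpowers x, y ^ p = 1 := by
  let T : Subgroup G :=
    { carrier := {g | g ∈ D ⊔ Subgroup.zpowers x ∧ g ^ p = 1}
      mul_mem' := by
        rintro a b ⟨ha1, ha2⟩ ⟨hb1, hb2⟩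
        refine ⟨Subgroup.mul_mem _ ha1 hb1, ?_⟩
        have hcm : Commute a b := hc a ha1 b hb1
        rw [hcm.mul_pow, ha2, hb2, one_mul]
      one_mem' := ⟨Subgroup.one_mem _, one_pow p⟩
      inv_mem' := by
        rintro a ⟨ha1, ha2⟩
        exact ⟨Subgroup.inv_mem _ ha1, by rw [inv_pow, ha2, inv_one]⟩ }
  have hT : D ⊔ Subgroup.zpowers x ≤ T := by
    refine sup_le ?_ ?_
    · intro a ha
      exact ⟨Subgroup.mem_sup_left ha, hexp a ha⟩
    · rw [Subgroup.zpowers_le]
      exact ⟨Subgroup.mem_sup_right (Subgroup.mem_zpowers x), hx⟩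
  intro y hy
  exact (hT hy).2

theorem normalizer_bot_mem {G : Type*} [Group G] (g : G) :
    g ∈ Subgroup.normalizer (((⊥ : Subgroup G) : Subgroup G) : Set G) := by
  rw [Subgroup.mem_normalizer_iff]
  intro h
  rw [Subgroup.mem_bot, Subgroup.mem_bot]
  constructor
  · intro hh; rw [hh]; group
  · intro hh
    have : g * h = g := by
      have := mul_inv_eq_one.mp hh
      exact this
    exact mul_eq_left.mp this

/-- The case of an abelian critical subgroup `D`: then `R` is abelian. -/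
theorem abelian_case {G : Type*} [Group G] [Finite G] (p : ℕ) [Fact p.Prime] (hp : p ≠ 2)
    (R A D : Subgroup G) (hR : IsPGroup p R) (hr : Cfsg.PRankLE p 2 R)
    (hA : A ≤ Subgroup.normalizer (R : Set G)) (hq : (Nat.card A).Prime)
    (hqp : ¬ Nat.card A ∣ p * (p - 1)) (hRA : ⁅R, A⁆ = R) (hDR : D ≤ R)
    (hexp : ∀ d ∈ D, d ^ p = 1)
    (hND : Subgroup.normalizer (R : Set G) ≤ Subgroup.normalizer (D : Set G))
    (hcrit : ∀ a ∈ Subgroup.normalizer (R : Set G), (orderOf a).Coprime p →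
      a ∈ Subgroup.centralizer (D : Set G) → a ∈ Subgroup.centralizer (R : Set G))
    (hDab : ∀ x ∈ D, ∀ y ∈ D, x * y = y * x) : IsMulCommutative R := by
  classical
  have hpp : p.Prime := Fact.out
  have hp2 : 2 < p := lt_of_le_of_ne hpp.two_le (Ne.symm hp)
  have htriv : A ≤ Subgroup.centralizer (R : Set G) → IsMulCommutative R := by
    intro hAC
    have h1 : ⁅R, A⁆ = ⊥ := by
      rw [Subgroup.commutator_eq_bot_iff_le_centralizer, Subgroup.le_centralizer_iff]
      exact hAC
    have hRbot : R = ⊥ := by rw [← hRA, h1]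
    refine ⟨⟨fun a b => ?_⟩⟩
    have ha : (a : G) = 1 := Subgroup.mem_bot.mp (hRbot ▸ a.2)
    have hb : (b : G) = 1 := Subgroup.mem_bot.mp (hRbot ▸ b.2)
    apply Subtype.ext
    show (a : G) * (b : G) = (b : G) * (a : G)
    rw [ha, hb]
  have hq_ne_p : Nat.card A ≠ p := by
    intro h
    exact hqp (h ▸ Dvd.intro _ rfl)
  have hq_ndvd : ¬ Nat.card A ∣ p - 1 := fun h => hqp (Dvd.dvd.mul_left h p)
  have hq_ne2 : Nat.card A ≠ 2 := by
    intro h
    apply hq_ndvd
    rw [h]
    rcases hpp.eq_two_or_odd with h2 | h2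
    · exact absurd h2 hp
    · omega
  have hAodd : Odd (Nat.card A) := hq.odd_of_ne_two hq_ne2
  have hcopp : (Nat.card A).Coprime p := (Nat.coprime_primes hq hpp).mpr hq_ne_p
  have hcopp1 : (Nat.card A).Coprime (p - 1) := (Nat.Prime.coprime_iff_not_dvd hq).mpr hq_ndvd
  have hAord : ∀ a ∈ A, orderOf a ∣ Nat.card A := by
    intro a ha
    have h1 : orderOf (⟨a, ha⟩ : ↥A) ∣ Nat.card A := orderOf_dvd_natCard _
    rwa [Subgroup.orderOf_mk] at h1
  have hAcop_p : ∀ a ∈ A, (orderOf a).Coprime p :=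
    fun a ha => Nat.Coprime.coprime_dvd_left (hAord a ha) hcopp
  have hAcop_p1 : ∀ a ∈ A, (orderOf a).Coprime (p - 1) :=
    fun a ha => Nat.Coprime.coprime_dvd_left (hAord a ha) hcopp1
  by_cases hAC : A ≤ Subgroup.centralizer (R : Set G)
  · exact htriv hAC
  have hkey : (∀ a ∈ A, a ∈ Subgroup.centralizer (D : Set G)) → IsMulCommutative R := by
    intro h
    apply htriv
    intro a ha
    exact hcrit a (hA ha) (hAcop_p a ha) (h a ha)
  have hRND : R ≤ Subgroup.normalizer (D : Set G) := Subgroup.le_normalizer.trans hND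
  have hAND : A ≤ Subgroup.normalizer (D : Set G) := hA.trans hND
  have hDp : IsPGroup p D := hR.to_le hDR
  have hDcard : Nat.card D ≤ p ^ 2 := rank_le_sq p R hr D hDR hDab hexp
  obtain ⟨D₁, hD₁⟩ : ∃ D₁ : Subgroup G, D₁ = ⁅D, R⁆ := ⟨_, rfl⟩
  have hD₁D : D₁ ≤ D := by
    rw [hD₁, Subgroup.commutator_le]
    intro d hd r hr'
    have h1 : r * d⁻¹ * r⁻¹ ∈ D :=
      (Subgroup.mem_normalizer_iff.mp (hRND hr') d⁻¹).mp (D.inv_mem hd)
    have h2 : ⁅d, r⁆ = d * (r * d⁻¹ * r⁻¹) := by rw [commutatorElement_def]; group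
    rw [h2]
    exact D.mul_mem hd h1
  have hAD₁ : A ≤ Subgroup.normalizer (D₁ : Set G) := by
    rw [hD₁]
    exact Cfsg.Agent.Lib.helper14.le_normalizer_commutator D R A hAND hA
  have hDD₁ : D ≤ Subgroup.normalizer (D₁ : Set G) := by
    rw [hD₁]
    exact Cfsg.Agent.Lib.helper14.le_normalizer_commutator D R D Subgroup.le_normalizer
      (hDR.trans Subgroup.le_normalizer)
  by_cases hD₁bot : D₁ = ⊥
  · have hcen : ∀ d ∈ D, ∀ r ∈ R, d * r = r * d := by
      intro d hd r hr'
      have h1 : ⁅d, r⁆ ∈ D₁ := hD₁ ▸ Subgroup.commutator_mem_commutator hd hr'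
      rw [hD₁bot, Subgroup.mem_bot, commutatorElement_eq_one_iff_mul_comm] at h1
      exact h1
    by_cases hDp' : Nat.card D ≤ p
    · apply hkey
      intro a ha
      have h1 := Cfsg.Agent.Lib.helper26.S1454F.rel_coprime_acts_trivially p D ⊥ bot_le hDp
        (fun x _ => normalizer_bot_mem x) (by rw [Subgroup.card_bot, mul_one]; exact hDp') a
        (hAND ha) (normalizer_bot_mem a) (hAcop_p1 a ha)
      rw [Subgroup.mem_centralizer_iff]
      intro d hd
      have h2 := h1 d hd
      rw [Subgroup.mem_bot] at h2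
      have h3 : a * d * a⁻¹ = d := mul_inv_eq_one.mp h2
      calc d * a = a * d * a⁻¹ * a := by rw [h3]
        _ = a * d := by group
    · have hfaith : A ⊓ Subgroup.centralizer (R : Set G) = ⊥ := by
        have hdvd : Nat.card ↥(A ⊓ Subgroup.centralizer (R : Set G)) ∣ Nat.card A :=
          Subgroup.card_dvd_of_le inf_le_left
        rcases (Nat.dvd_prime hq).mp hdvd with h1 | h1
        · exact Subgroup.card_eq_one.mp h1
        · exfalso
          have h2 := Subgroup.eq_of_le_of_card_ge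
            (inf_le_left : A ⊓ Subgroup.centralizer (R : Set G) ≤ A) (le_of_eq h1.symm)
          have h3 : A ⊓ Subgroup.centralizer (R : Set G) ≤ Subgroup.centralizer (R : Set G) :=
            inf_le_right
          rw [h2] at h3
          exact hAC h3
      have h3a := Cfsg.Agent.Lib.helper8.S1454T.part_three_a p hp R A hR hr hA hAodd hfaith hq hqp
      have hp3 : 3 < p := by
        have h6 : 2 * Nat.card A ≤ p + 1 := Nat.le_of_dvd (by omega) h3a
        have h7 := hq.two_le
        omega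
      apply abelian_of_omega_small p hp3 R A hR hA hcopp hRA D hDcard
      intro x hx hxp
      by_contra hxD
      have hEc := Cfsg.Agent.Lib.helper12.S1456M2.sup_zpowers_comm D x hDab
        (fun a ha => hcen a ha x hx)
      have hEexp := exp_sup_zpowers p D x hEc hexp hxp
      have hER : D ⊔ Subgroup.zpowers x ≤ R := sup_le hDR ((Subgroup.zpowers_le).mpr hx)
      have hEcard := rank_le_sq p R hr _ hER hEc hEexp
      have hlt : D < D ⊔ Subgroup.zpowers x := by
        refine lt_of_le_of_ne le_sup_left ?_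
        intro h
        apply hxD
        rw [h]
        exact Subgroup.mem_sup_right (Subgroup.mem_zpowers x)
      have h5 := Cfsg.Agent.Lib.helper12.S1456M2.card_mul_le_of_lt p D _ hlt hEexp
      apply hDp'
      refine Nat.le_of_mul_le_mul_left ?_ hpp.pos
      calc p * Nat.card D ≤ Nat.card ↥(D ⊔ Subgroup.zpowers x) := h5
        _ ≤ p ^ 2 := hEcard
        _ = p * p := sq p
  · apply hkey
    intro a ha
    have hD₁p : IsPGroup p D₁ := hDp.to_le hD₁D
    have hD₁ne : D₁ ≠ D := by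
      intro h
      have h1 := Cfsg.Agent.Lib.helper26.S1456M3.eq_bot_of_comm_eq p R D hR hDR (by rw [← hD₁, h])
      exact hD₁bot (by rw [h, h1])
    have hlt : D₁ < D := lt_of_le_of_ne hD₁D hD₁ne
    have h5 := Cfsg.Agent.Lib.helper12.S1456M2.card_mul_le_of_lt p D₁ D hlt hexp
    have hD₁card_ge : p ≤ Nat.card D₁ := by
      obtain ⟨k, hk⟩ := hD₁p.exists_card_eq
      rcases k with _ | k
      · exfalso
        rw [pow_zero] at hk
        exact hD₁bot (Subgroup.card_eq_one.mp hk)
      · rw [hk]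
        calc p = p ^ 1 := (pow_one p).symm
          _ ≤ p ^ (k + 1) := Nat.pow_le_pow_right hpp.pos (by omega)
    have hD₁card_le : Nat.card D₁ ≤ p := by
      refine Nat.le_of_mul_le_mul_left ?_ hpp.pos
      calc p * Nat.card D₁ ≤ Nat.card D := h5
        _ ≤ p ^ 2 := hDcard
        _ = p * p := sq p
    have hDcard' : Nat.card D ≤ p * Nat.card D₁ := by
      calc Nat.card D ≤ p ^ 2 := hDcard
        _ = p * p := sq p
        _ ≤ p * Nat.card D₁ := Nat.mul_le_mul_left p hD₁card_ge
    have h1 := Cfsg.Agent.Lib.helper26.S1454F.rel_coprime_acts_trivially p D D₁ hD₁D hDp hDD₁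
      hDcard' a (hAND ha) (hAD₁ ha) (hAcop_p1 a ha)
    have h2 := Cfsg.Agent.Lib.helper26.S1454F.rel_coprime_acts_trivially p D₁ ⊥ bot_le hD₁p
      (fun x _ => normalizer_bot_mem x) (by rw [Subgroup.card_bot, mul_one]; exact hD₁card_le) a
      (hAD₁ ha) (normalizer_bot_mem a) (hAcop_p1 a ha)
    have h2' : ∀ m ∈ D₁, a * m = m * a := by
      intro m hm
      have h3 := h2 m hm
      rw [Subgroup.mem_bot] at h3
      have h4 : a * m * a⁻¹ = m := mul_inv_eq_one.mp h3
      calc a * m = a * m * a⁻¹ * a := by group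
        _ = m * a := by rw [h4]
    have h4 := Cfsg.Agent.Lib.helper26.S1456M3.stab_trivial p D D₁ hD₁p a (hAcop_p a ha) h1 h2'
    rw [Subgroup.mem_centralizer_iff]
    intro d hd
    exact (h4 d hd).symm

end Cfsg.Agent.Lib.helper14.S1454AB
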