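import Mathlib
import Cfsg.Prelude.Def_Local
import Cfsg.Agent.Lib.helper7.QS

set_option autoImplicit false
set_option linter.unusedSimpArgs false
set_option linter.style.haveILetI false

namespace Cfsg.Agent.Lib.helper14

open Equiv Equiv.Perm

section altstd

theorem mem_normalizer_iff_map_conj_eq {G : Type*} [Group G] (H : Subgroup G) (g : G) :
    g ∈ Subgroup.normalizer (H : Set G) ↔ H.map (MulAut.conj g).toMonoidHom = H := by
  rw [Subgroup.mem_normalizer_iff]
  constructor
  · intro hg
    ext x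
    rw [Subgroup.mem_map]
    constructor
    · rintro ⟨h, hh, rfl⟩
      exact (hg h).mp hh
    · intro hx
      refine ⟨g⁻¹ * x * g, (hg _).mpr ?_, ?_⟩
      · have e : g * (g⁻¹ * x * g) * g⁻¹ = x := by group
        rw [e]
        exact hx
      · show g * (g⁻¹ * x * g) * g⁻¹ = x
        group
  · intro heq h
    constructor
    · intro hh
      rw [← heq]
      exact Subgroup.mem_map.mpr ⟨h, hh, rfl⟩
    · intro hh
      rw [← heq] at hh
      obtain ⟨h', hh', he⟩ := Subgroup.mem_map.mp hh
      have e : h' = h := by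
        have he' : g * h' * g⁻¹ = g * h * g⁻¹ := he
        simpa using he'
      exact e ▸ hh'

theorem alt_qs {α : Type*} [Fintype α] [DecidableEq α] (h5 : 5 ≤ Nat.card α) :
    Cfsg.IsQuasisimple (alternatingGroup α) := by
  rw [helper7.qs_iff]
  haveI := alternatingGroup.isSimpleGroup h5
  refine ⟨commutator_alternatingGroup_eq_top h5, inferInstance, ?_⟩
  intro N hN
  rcases hN.eq_bot_or_eq_top with h | h
  · right
    rw [h]
    exact bot_le
  · left
    exact h

variable {n : ℕ}

/-- Elements of the alternating group supported in `s`. -/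
def altR (s : Finset (Fin n)) : Subgroup (alternatingGroup (Fin n)) :=
  (alternatingGroup.ofSubtype s).range

theorem mem_altR {s : Finset (Fin n)} {k : alternatingGroup (Fin n)} :
    k ∈ altR s ↔ ∀ x, x ∉ s → (k : Perm (Fin n)) x = x := by
  rw [altR, alternatingGroup.mem_range_ofSubtype_iff]
  constructor
  · intro h x hx
    by_contra hne
    exact hx (h (Equiv.Perm.mem_support.mpr hne))
  · intro h x hx
    by_contra hxs
    exact (Equiv.Perm.mem_support.mp hx) (h x hxs)

theorem altR_inf (s s' : Finset (Fin n)) : altR s ⊓ altR s' = altR (s ∩ s') := by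
  ext k
  rw [Subgroup.mem_inf, mem_altR, mem_altR, mem_altR]
  constructor
  · rintro ⟨h1, h2⟩ x hx
    by_cases hxs : x ∈ s
    · exact h2 x (fun h => hx (Finset.mem_inter.mpr ⟨hxs, h⟩))
    · exact h1 x hxs
  · intro h
    exact ⟨fun x hx => h x (fun h' => hx (Finset.mem_inter.mp h').1),
      fun x hx => h x (fun h' => hx (Finset.mem_inter.mp h').2)⟩

theorem altR_conj (s : Finset (Fin n)) (g : alternatingGroup (Fin n)) :
    (altR s).map (MulAut.conj g).toMonoidHom = altR (s.map (g : Perm (Fin n)).toEmbedding) := by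
  ext k
  rw [Subgroup.mem_map, mem_altR]
  constructor
  · rintro ⟨k', hk', rfl⟩ x hx
    rw [Finset.mem_map_equiv] at hx
    have h1 := mem_altR.mp hk' _ hx
    show ((g * k' * g⁻¹ : alternatingGroup (Fin n)) : Perm (Fin n)) x = x
    rw [Subgroup.coe_mul, Subgroup.coe_mul, Subgroup.coe_inv, Perm.mul_apply, Perm.mul_apply]
    show (g : Perm (Fin n)) ((k' : Perm (Fin n)) ((g : Perm (Fin n)).symm x)) = x
    rw [h1, Equiv.apply_symm_apply]
  · intro h
    refine ⟨g⁻¹ * k * g, ?_, ?_⟩
    · rw [mem_altR]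
      intro x hx
      have h2 : (g : Perm (Fin n)) x ∉ s.map (g : Perm (Fin n)).toEmbedding := by
        rw [Finset.mem_map_equiv, Equiv.symm_apply_apply]
        exact hx
      have h3 := h _ h2
      show ((g⁻¹ * k * g : alternatingGroup (Fin n)) : Perm (Fin n)) x = x
      rw [Subgroup.coe_mul, Subgroup.coe_mul, Subgroup.coe_inv, Perm.mul_apply, Perm.mul_apply, h3]
      show (g : Perm (Fin n)).symm ((g : Perm (Fin n)) x) = x
      exact Equiv.symm_apply_apply _ x
    · show g * (g⁻¹ * k * g) * g⁻¹ = k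
      group

theorem c3_mem (p r r' : Fin n) (h1 : p ≠ r) (h2 : r ≠ r') :
    swap p r * swap r r' ∈ alternatingGroup (Fin n) := by
  rw [Equiv.Perm.mem_alternatingGroup, map_mul, Equiv.Perm.sign_swap h1, Equiv.Perm.sign_swap h2]
  rfl

theorem c3_apply_of_ne (p r r' x : Fin n) (h1 : x ≠ p) (h2 : x ≠ r) (h3 : x ≠ r') :
    (swap p r * swap r r') x = x := by
  rw [Perm.mul_apply, swap_apply_of_ne_of_ne h2 h3, swap_apply_of_ne_of_ne h1 h2]

theorem c3_apply_left (p r r' : Fin n) (h1 : p ≠ r) (h2 : p ≠ r') :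
    (swap p r * swap r r') p = r := by
  rw [Perm.mul_apply, swap_apply_of_ne_of_ne h1 h2, swap_apply_left]

theorem c3_apply_of_ne' (p r r' x : Fin n) (h1 : x ≠ p) (h2 : x ≠ r) (h3 : x ≠ r') :
    swap p r (swap r r' x) = x := by
  rw [swap_apply_of_ne_of_ne h2 h3, swap_apply_of_ne_of_ne h1 h2]

theorem c3_apply_left' (p r r' : Fin n) (h1 : p ≠ r) (h2 : p ≠ r') :
    swap p r (swap r r' p) = r := by
  rw [swap_apply_of_ne_of_ne h1 h2, swap_apply_left]

theorem c3_mem_altR {s : Finset (Fin n)} (p r r' : Fin n) (hp : p ∈ s) (hr : r ∈ s) (hr' : r' ∈ s)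
    (h1 : p ≠ r) (h2 : r ≠ r') :
    (⟨swap p r * swap r r', c3_mem p r r' h1 h2⟩ : alternatingGroup (Fin n)) ∈ altR s := by
  rw [mem_altR]
  intro x hx
  exact c3_apply_of_ne p r r' x (fun h => hx (h ▸ hp)) (fun h => hx (h ▸ hr))
    (fun h => hx (h ▸ hr'))

theorem altR_le {s s' : Finset (Fin n)} (h3 : 3 ≤ s.card) (h : altR s ≤ altR s') : s ⊆ s' := by
  intro x hx
  have h1 : 1 < (s.erase x).card := by
    rw [Finset.card_erase_of_mem hx]
    omega
  obtain ⟨y, hy, w, hw, hyw⟩ := Finset.one_lt_card.mp h1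
  have hyx : y ≠ x := Finset.ne_of_mem_erase hy
  have hwx : w ≠ x := Finset.ne_of_mem_erase hw
  have hys : y ∈ s := Finset.mem_of_mem_erase hy
  have hws : w ∈ s := Finset.mem_of_mem_erase hw
  have hc := mem_altR.mp (h (c3_mem_altR x y w hx hys hws hyx.symm hyw))
  by_contra hxs'
  have h5 : (swap x y * swap y w) x = x := hc x hxs'
  rw [c3_apply_left x y w hyx.symm hwx.symm] at h5
  exact hyx h5

theorem card_altR (s : Finset (Fin n)) : Nat.card (altR s) = Nat.card (alternatingGroup s) :=
  (Nat.card_congr (MonoidHom.ofInjective alternatingGroup.ofSubtype_injective).toEquiv).symm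

theorem card_coe_finset (s : Finset (Fin n)) : Nat.card (s : Type) = s.card := by
  rw [Nat.card_eq_fintype_card, Fintype.card_coe]

theorem odd_card_altR {s : Finset (Fin n)} (h : s.card ≤ 3) : Odd (Nat.card (altR s)) := by
  rw [card_altR]
  by_cases h2 : s.card ≤ 2
  · have h3 : alternatingGroup s = ⊥ :=
      alternatingGroup.eq_bot_of_card_le_two (by rw [card_coe_finset]; exact h2)
    rw [h3, Subgroup.card_bot]
    exact odd_one
  · have h3 : s.card = 3 := by omega
    haveI : Nontrivial s := by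
      rw [← Fintype.one_lt_card_iff_nontrivial, Fintype.card_coe]
      omega
    rw [nat_card_alternatingGroup, card_coe_finset, h3]
    decide

theorem even_card_altR {s : Finset (Fin n)} (h : s.card = 4) : Even (Nat.card (altR s)) := by
  haveI : Nontrivial s := by
    rw [← Fintype.one_lt_card_iff_nontrivial, Fintype.card_coe]
    omega
  rw [card_altR, nat_card_alternatingGroup, card_coe_finset, h]
  decide

theorem altR_qs {s : Finset (Fin n)} (h5 : 5 ≤ s.card) : Cfsg.IsQuasisimple ↥(altR s) :=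
  helper7.qs_of_equiv (MonoidHom.ofInjective alternatingGroup.ofSubtype_injective)
    (alt_qs (by rw [card_coe_finset]; exact h5))

theorem altR_centralizer {s : Finset (Fin n)} (h5 : 5 ≤ s.card) :
    Subgroup.centralizer (altR s : Set (alternatingGroup (Fin n))) = altR sᶜ := by
  ext k
  rw [Subgroup.mem_centralizer_iff, mem_altR]
  constructor
  · intro h p hp
    have hps : p ∈ s := by simpa using hp
    by_contra hne
    obtain ⟨q, hq⟩ : ∃ q, q = (k : Perm (Fin n)) p := ⟨_, rfl⟩
    have hqp : q ≠ p := hq ▸ hne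
    have h1 : 1 < ((s.erase p).erase q).card := by
      have e1 := Finset.card_erase_of_mem hps
      have e2 := Finset.pred_card_le_card_erase (s := s.erase p) (a := q)
      omega
    obtain ⟨r, hr, r', hr', hrr'⟩ := Finset.one_lt_card.mp h1
    have hrq : r ≠ q := Finset.ne_of_mem_erase hr
    have hr2 := Finset.mem_of_mem_erase hr
    have hrp : r ≠ p := Finset.ne_of_mem_erase hr2
    have hrs : r ∈ s := Finset.mem_of_mem_erase hr2
    have hr'q : r' ≠ q := Finset.ne_of_mem_erase hr'
    have hr'2 := Finset.mem_of_mem_erase hr'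
    have hr'p : r' ≠ p := Finset.ne_of_mem_erase hr'2
    have hr's : r' ∈ s := Finset.mem_of_mem_erase hr'2
    have hτ := c3_mem_altR (s := s) p r r' hps hrs hr's hrp.symm hrr'
    have hcomm := h _ hτ
    have h2 := congrArg (fun σ : alternatingGroup (Fin n) => (σ : Perm (Fin n)) p) hcomm
    simp only [Subgroup.coe_mul, Perm.mul_apply] at h2
    rw [← hq, c3_apply_of_ne' p r r' q hqp hrq.symm hr'q.symm,
      c3_apply_left' p r r' hrp.symm hr'p.symm] at h2
    exact hrp ((k : Perm (Fin n)).injective (h2.symm.trans hq))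
  · intro h τ hτ
    have hτ' := mem_altR.mp hτ
    apply Subtype.ext
    rw [Subgroup.coe_mul, Subgroup.coe_mul]
    apply Equiv.Perm.Disjoint.commute
    intro x
    by_cases hx : x ∈ s
    · right
      exact h x (by simpa using hx)
    · left
      exact hτ' x hx

theorem altR_comm_ne_bot {s s' : Finset (Fin n)} (h5 : 5 ≤ s.card) (hc : s.card = s'.card)
    (hne : s ≠ s') (hi : (s ∩ s').Nonempty) : ⁅altR s, altR s'⁆ ≠ ⊥ := by
  intro hbot
  have h1 : ¬ s ⊆ s' := fun h => hne (Finset.eq_of_subset_of_card_le h (by omega))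
  have h2 : ¬ s' ⊆ s := fun h => hne (Finset.eq_of_subset_of_card_le h (by omega)).symm
  obtain ⟨e, hes, hes'⟩ := Finset.not_subset.mp h1
  obtain ⟨d, hds', hds⟩ := Finset.not_subset.mp h2
  obtain ⟨p, hp⟩ := hi
  rw [Finset.mem_inter] at hp
  obtain ⟨q, hqs, hqp, hqe⟩ : ∃ q ∈ s, q ≠ p ∧ q ≠ e := by
    have h3 : 0 < ((s.erase p).erase e).card := by
      have e1 := Finset.card_erase_of_mem hp.1
      have e2 := Finset.pred_card_le_card_erase (s := s.erase p) (a := e)
      omega
    obtain ⟨q, hq⟩ := Finset.card_pos.mp h3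
    exact ⟨q, Finset.mem_of_mem_erase (Finset.mem_of_mem_erase hq),
      Finset.ne_of_mem_erase (Finset.mem_of_mem_erase hq), Finset.ne_of_mem_erase hq⟩
  obtain ⟨q', hq's, hq'p, hq'd⟩ : ∃ q ∈ s', q ≠ p ∧ q ≠ d := by
    have h3 : 0 < ((s'.erase p).erase d).card := by
      have e1 := Finset.card_erase_of_mem hp.2
      have e2 := Finset.pred_card_le_card_erase (s := s'.erase p) (a := d)
      omega
    obtain ⟨q, hq⟩ := Finset.card_pos.mp h3
    exact ⟨q, Finset.mem_of_mem_erase (Finset.mem_of_mem_erase hq),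
      Finset.ne_of_mem_erase (Finset.mem_of_mem_erase hq), Finset.ne_of_mem_erase hq⟩
  have hpe : p ≠ e := fun h => hes' (h ▸ hp.2)
  have hpd : p ≠ d := fun h => hds (h ▸ hp.1)
  have hde : d ≠ e := fun h => hds (h ▸ hes)
  have hdq : d ≠ q := fun h => hds (h ▸ hqs)
  have heq' : e ≠ q' := fun h => hes' (h ▸ hq's)
  have hx := c3_mem_altR (s := s) p e q hp.1 hes hqs hpe hqe.symm
  have hy := c3_mem_altR (s := s') p d q' hp.2 hds' hq's hpd hq'd.symm
  have hcomm := Subgroup.commutator_mem_commutator hx hy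
  rw [hbot, Subgroup.mem_bot, commutatorElement_eq_one_iff_mul_comm] at hcomm
  have h3 := congrArg (fun σ : alternatingGroup (Fin n) => (σ : Perm (Fin n)) p) hcomm
  simp only [Subgroup.coe_mul, Perm.mul_apply] at h3
  rw [c3_apply_left' p d q' hpd hq'p.symm, c3_apply_of_ne' p e q d hpd.symm hde hdq,
    c3_apply_left' p e q hpe hqp.symm, c3_apply_of_ne' p d q' e hpe.symm hde.symm heq'] at h3
  exact hde h3

theorem altR_normalizer {s : Finset (Fin n)} (h3 : 3 ≤ s.card) (g : alternatingGroup (Fin n)) :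
    g ∈ Subgroup.normalizer (altR s : Set (alternatingGroup (Fin n))) ↔
      s.map (g : Perm (Fin n)).toEmbedding = s := by
  rw [mem_normalizer_iff_map_conj_eq, altR_conj]
  constructor
  · intro h
    exact Finset.Subset.antisymm (altR_le (by rw [Finset.card_map]; exact h3) (le_of_eq h))
      (altR_le h3 (le_of_eq h.symm))
  · intro h
    rw [h]

/-- The four points `0, 1, 2, 3`. -/
def altD (h4 : 4 ≤ n) : Finset (Fin n) := Finset.univ.image (Fin.castLE h4)

theorem card_altD (h4 : 4 ≤ n) : (altD h4).card = 4 := by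
  rw [altD, Finset.card_image_of_injective _ (Fin.castLE_injective h4), Finset.card_univ,
    Fintype.card_fin]

theorem stab_eq_altR (h4 : 4 ≤ n) :
    (⨅ i : Fin 4, MulAction.stabilizer ↥(alternatingGroup (Fin n)) (Fin.castLE h4 i : Fin n)) =
      altR (altD h4)ᶜ := by
  ext k
  rw [Subgroup.mem_iInf, mem_altR]
  constructor
  · intro h x hx
    have hx' : x ∈ altD h4 := by simpa using hx
    obtain ⟨i, -, rfl⟩ := Finset.mem_image.mp hx'
    exact MulAction.mem_stabilizer_iff.mp (h i)
  · intro h i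
    rw [MulAction.mem_stabilizer_iff]
    exact h _ (by simp [altD])

theorem altstd_result (n : ℕ) (h4 : 4 ≤ n) (hn : 9 ≤ n) :
    Cfsg.IsStandardSubgroup (⨅ i : Fin 4,
      MulAction.stabilizer ↥(alternatingGroup (Fin n)) (Fin.castLE h4 i : Fin n)) := by
  rw [stab_eq_altR h4]
  obtain ⟨D, hD⟩ : ∃ D, D = altD h4 := ⟨_, rfl⟩
  rw [← hD]
  have hD4 : D.card = 4 := hD ▸ card_altD h4
  have hs5 : 5 ≤ (Dᶜ).card := by
    rw [Finset.card_compl, Fintype.card_fin, hD4]
    omega
  have hC : Subgroup.centralizer (altR Dᶜ : Set (alternatingGroup (Fin n))) = altR D := by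
    rw [altR_centralizer hs5, compl_compl]
  refine ⟨altR_qs hs5, ?_, ?_, ?_⟩
  · rw [hC]
    refine ⟨even_card_altR hD4, ?_⟩
    intro g hg
    rw [altR_conj, altR_inf]
    apply odd_card_altR
    by_contra hcon
    push Not at hcon
    apply hg
    rw [altR_normalizer (by omega)]
    have hsub : D ∩ D.map (g : Perm (Fin n)).toEmbedding ⊆ D := Finset.inter_subset_left
    have heq : D ∩ D.map (g : Perm (Fin n)).toEmbedding = D :=
      Finset.eq_of_subset_of_card_le hsub (by omega)
    have hsub2 : D ⊆ D.map (g : Perm (Fin n)).toEmbedding := Finset.inter_eq_left.mp heq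
    exact (Finset.eq_of_subset_of_card_le hsub2 (by rw [Finset.card_map])).symm
  · intro g hg
    rw [altR_conj] at hg ⊢
    apply altR_comm_ne_bot hs5 (by rw [Finset.card_map])
    · intro h
      exact hg (by rw [← h])
    · rw [← Finset.card_pos]
      have e1 := Finset.card_union_add_card_inter Dᶜ (Dᶜ.map (g : Perm (Fin n)).toEmbedding)
      have e2 := Finset.card_le_univ (Dᶜ ∪ Dᶜ.map (g : Perm (Fin n)).toEmbedding)
      rw [Fintype.card_fin] at e2
      rw [Finset.card_map] at e1
      have e3 : (Dᶜ).card = n - 4 := by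
        rw [Finset.card_compl, Fintype.card_fin, hD4]
      omega
  · rw [hC]
    ext g
    rw [altR_normalizer (by omega), altR_normalizer (by omega)]
    have e : Dᶜ.map (g : Perm (Fin n)).toEmbedding = (D.map (g : Perm (Fin n)).toEmbedding)ᶜ := by
      ext x
      simp [Finset.mem_map_equiv]
    rw [e, compl_inj_iff]

end altstd

end Cfsg.Agent.Lib.helper14
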