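import Cfsg.Agent.Lib.helper14.PMinComp

set_option autoImplicit false
set_option linter.unusedSectionVars false
set_option linter.unusedVariables false

namespace Cfsg.Agent.Lib.helper14

open Cfsg
open scoped commutatorElement Pointwise

universe u

/-- **S2925** -/
theorem component_abelian_sylow_of_not_normalized {X : Type u} [Group X] [Finite X]
    (K : Subgroup X) (hK : IsComponent K) (T : Sylow 2 X) (Y : Subgroup X)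
    (hYT : Y ≤ (T : Subgroup X)) (hYn : (Y.subgroupOf (T : Subgroup X)).Normal)
    (hYab : IsMulCommutative ↥Y) (hnot : ¬ Y ≤ Subgroup.normalizer (K : Set X))
    (P : Sylow 2 (↥K ⧸ Subgroup.center ↥K)) :
    IsMulCommutative ↥(P : Subgroup (↥K ⧸ Subgroup.center ↥K)) := by
  have : Fact (Nat.Prime 2) := ⟨Nat.prime_two⟩
  obtain ⟨y, hy, hyK⟩ := SetLike.not_le_iff_exists.1 hnot
  have hTY : (T : Subgroup X) ≤ Subgroup.normalizer (Y : Set X) :=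
    (Subgroup.normal_subgroupOf_iff_le_normalizer hYT).1 hYn
  have hne : K.map (MulAut.conj y).toMonoidHom ≠ K :=
    fun e => hyK (mem_normalizer_of_map_conj_eq K e)
  have hK' : K.map (MulAut.conj y).toMonoidHom ≤ Subgroup.centralizer (K : Set X) := by
    have := Cfsg.Agent.Lib.helper7.comp_comm_of_ne
      (Cfsg.Agent.Lib.helper7.comp_map_equiv (MulAut.conj y) hK) hK hne
    rwa [Subgroup.commutator_eq_bot_iff_le_centralizer] at this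
  have key : ∀ x₁ ∈ (T : Subgroup X) ⊓ K, ∀ x₂ ∈ (T : Subgroup X) ⊓ K,
      x₁⁻¹ * x₂⁻¹ * x₁ * x₂ ∈ Subgroup.centralizer (K : Set X) := by
    intro x₁ hx₁ x₂ hx₂
    obtain ⟨hx₁T, hx₁K⟩ := Subgroup.mem_inf.1 hx₁
    obtain ⟨hx₂T, hx₂K⟩ := Subgroup.mem_inf.1 hx₂
    have hb₁ : y * x₁⁻¹ * y⁻¹ ∈ K.map (MulAut.conj y).toMonoidHom := ⟨x₁⁻¹, K.inv_mem hx₁K, rfl⟩
    have hb₂ : y * x₂⁻¹ * y⁻¹ ∈ K.map (MulAut.conj y).toMonoidHom := ⟨x₂⁻¹, K.inv_mem hx₂K, rfl⟩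
    have hu₁ : x₁ * (y * x₁⁻¹ * y⁻¹) ∈ Y := by
      have h1 : x₁ * y * x₁⁻¹ ∈ Y := (Subgroup.mem_normalizer_iff.1 (hTY hx₁T) y).1 hy
      have e : x₁ * (y * x₁⁻¹ * y⁻¹) = x₁ * y * x₁⁻¹ * y⁻¹ := by group
      rw [e]; exact Y.mul_mem h1 (Y.inv_mem hy)
    have hu₂ : x₂ * (y * x₂⁻¹ * y⁻¹) ∈ Y := by
      have h1 : x₂ * y * x₂⁻¹ ∈ Y := (Subgroup.mem_normalizer_iff.1 (hTY hx₂T) y).1 hy
      have e : x₂ * (y * x₂⁻¹ * y⁻¹) = x₂ * y * x₂⁻¹ * y⁻¹ := by group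
      rw [e]; exact Y.mul_mem h1 (Y.inv_mem hy)
    have hcomm : x₁ * (y * x₁⁻¹ * y⁻¹) * (x₂ * (y * x₂⁻¹ * y⁻¹)) =
        x₂ * (y * x₂⁻¹ * y⁻¹) * (x₁ * (y * x₁⁻¹ * y⁻¹)) := by
      have := hYab.is_comm.comm (⟨_, hu₁⟩ : ↥Y) ⟨_, hu₂⟩
      exact congrArg Subtype.val this
    have c1 : x₂ * (y * x₁⁻¹ * y⁻¹) = (y * x₁⁻¹ * y⁻¹) * x₂ :=
      Subgroup.mem_centralizer_iff.1 (hK' hb₁) x₂ hx₂K
    have c2 : x₁ * (y * x₂⁻¹ * y⁻¹) = (y * x₂⁻¹ * y⁻¹) * x₁ :=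
      Subgroup.mem_centralizer_iff.1 (hK' hb₂) x₁ hx₁K
    obtain ⟨b₁, hb₁e⟩ : ∃ b₁, b₁ = y * x₁⁻¹ * y⁻¹ := ⟨_, rfl⟩
    obtain ⟨b₂, hb₂e⟩ : ∃ b₂, b₂ = y * x₂⁻¹ * y⁻¹ := ⟨_, rfl⟩
    rw [← hb₁e] at hcomm c1 hb₁
    rw [← hb₂e] at hcomm c2 hb₂
    have h : x₁ * x₂ * (b₁ * b₂) = x₂ * x₁ * (b₂ * b₁) := by
      have l1 : x₁ * b₁ * (x₂ * b₂) = x₁ * (b₁ * x₂) * b₂ := by group
      have l2 : x₂ * b₂ * (x₁ * b₁) = x₂ * (b₂ * x₁) * b₁ := by group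
      rw [l1, l2, ← c1, ← c2] at hcomm
      have l3 : x₁ * (x₂ * b₁) * b₂ = x₁ * x₂ * (b₁ * b₂) := by group
      have l4 : x₂ * (x₁ * b₂) * b₁ = x₂ * x₁ * (b₂ * b₁) := by group
      rw [l3, l4] at hcomm
      exact hcomm
    have e : x₁⁻¹ * x₂⁻¹ * x₁ * x₂ = b₂ * b₁ * b₂⁻¹ * b₁⁻¹ := by
      calc x₁⁻¹ * x₂⁻¹ * x₁ * x₂ = x₁⁻¹ * x₂⁻¹ * (x₁ * x₂ * (b₁ * b₂)) * (b₁ * b₂)⁻¹ := by group
        _ = x₁⁻¹ * x₂⁻¹ * (x₂ * x₁ * (b₂ * b₁)) * (b₁ * b₂)⁻¹ := by rw [h]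
        _ = b₂ * b₁ * b₂⁻¹ * b₁⁻¹ := by group
    rw [e]
    apply hK'
    exact Subgroup.mul_mem _ (Subgroup.mul_mem _ (Subgroup.mul_mem _ hb₂ hb₁)
      (Subgroup.inv_mem _ hb₂)) (Subgroup.inv_mem _ hb₁)
  have hsyl : SylIn 2 K ((T : Subgroup X) ⊓ K) := sylIn_inf_subnormal T K hK.1
  obtain ⟨R, hR⟩ := (sylIn_iff_exists_sylow inf_le_right).2 hsyl
  have hπ : Function.Surjective (QuotientGroup.mk' (Subgroup.center ↥K)) :=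
    QuotientGroup.mk'_surjective _
  obtain ⟨g, hg⟩ := sylow_conj_eq (R.mapSurjective hπ) P
  have hRc : ∀ a ∈ (R : Subgroup ↥K), ∀ b ∈ (R : Subgroup ↥K),
      QuotientGroup.mk' (Subgroup.center ↥K) a * QuotientGroup.mk' (Subgroup.center ↥K) b =
      QuotientGroup.mk' (Subgroup.center ↥K) b * QuotientGroup.mk' (Subgroup.center ↥K) a := by
    intro a ha b hb
    rw [hR, Subgroup.mem_subgroupOf] at ha hb
    rw [← map_mul, ← map_mul]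
    symm
    show (QuotientGroup.mk (b * a) : ↥K ⧸ Subgroup.center ↥K) = QuotientGroup.mk (a * b)
    rw [QuotientGroup.eq, Subgroup.mem_center_iff]
    intro k
    apply Subtype.ext
    have h1 := key (a : X) ha (b : X) hb
    have h2 := Subgroup.mem_centralizer_iff.1 h1 (k : X) k.2
    simp only [Subgroup.coe_mul, InvMemClass.coe_inv, mul_inv_rev]
    rw [show (k : X) * ((a : X)⁻¹ * (b : X)⁻¹ * ((a : X) * (b : X))) =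
      (k : X) * ((a : X)⁻¹ * (b : X)⁻¹ * (a : X) * (b : X)) by group, h2]
    group
  refine ⟨⟨fun a b => Subtype.ext ?_⟩⟩
  obtain ⟨a0, ha0⟩ : ∃ a0 : ↥K ⧸ Subgroup.center ↥K, a0 = (a : ↥K ⧸ Subgroup.center ↥K) :=
    ⟨_, rfl⟩
  obtain ⟨b0, hb0⟩ : ∃ b0 : ↥K ⧸ Subgroup.center ↥K, b0 = (b : ↥K ⧸ Subgroup.center ↥K) :=
    ⟨_, rfl⟩
  have ha : a0 ∈ (P : Subgroup (↥K ⧸ Subgroup.center ↥K)) := by rw [ha0]; exact a.2
  have hb : b0 ∈ (P : Subgroup (↥K ⧸ Subgroup.center ↥K)) := by rw [hb0]; exact b.2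
  rw [hg] at ha hb
  obtain ⟨a', ha', hae⟩ := ha
  obtain ⟨b', hb', hbe⟩ := hb
  obtain ⟨a'', ha'', rfl⟩ := ha'
  obtain ⟨b'', hb'', rfl⟩ := hb'
  show (a : ↥K ⧸ Subgroup.center ↥K) * b = b * a
  rw [← ha0, ← hb0, ← hae, ← hbe, ← map_mul, ← map_mul (MulEquiv.toMonoidHom (MulAut.conj g)), hRc a'' ha'' b'' hb'']

end Cfsg.Agent.Lib.helper14
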