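import Cfsg.Agent.Lib.helper14.ThompsonNPC3
import Cfsg.Prelude.Def_ConjugacyFunctors
import Cfsg.Prelude.Def_CaseTheorems

/-!
# Normal `p`-complement criteria in functor form: reduction to sections (library, seat helper14)
-/

set_option autoImplicit false
set_option linter.style.haveILetI false
set_option linter.unusedVariables false
set_option linter.unusedSectionVars false

namespace Cfsg.Agent.Lib.helper14

open Cfsg

universe u

theorem involves_trans {A : Type*} {B : Type*} {C : Type*} [Group A] [Group B] [Group C]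
    (h1 : Cfsg.Involves A B) (h2 : Cfsg.Involves B C) : Cfsg.Involves A C := by
  obtain ⟨K, R, hR, ⟨e⟩⟩ := h2
  haveI := hR
  have h3 : Cfsg.Involves A ↥K :=
    involves_of_surjective_hom (e.toMonoidHom.comp (QuotientGroup.mk' (R.subgroupOf K)))
      (e.surjective.comp (QuotientGroup.mk'_surjective _)) h1
  exact involves_of_injective K.subtype K.subtype_injective h3

theorem involves_self (A : Type*) [Group A] : Cfsg.Involves A A :=
  involves_of_surjective (⊤ : Subgroup A) (⊤ : Subgroup A).subtype
    (fun a => ⟨⟨a, Subgroup.mem_top a⟩, rfl⟩)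

/-- the class of groups involved in `G` -/
def InvIn (G : Type u) [Group G] : Cfsg.Agent.Lib.helper1.Hered.{u} where
  C := fun G' _ => Cfsg.Involves G' G
  sub := fun G' _ _ M h =>
    involves_trans (involves_of_injective M.subtype M.subtype_injective (involves_self M)) h
  quot := fun G' _ _ N _ h =>
    involves_trans (involves_of_surjective_hom (QuotientGroup.mk' N)
      (QuotientGroup.mk'_surjective N) (involves_self (G' ⧸ N))) h

theorem induced_map {p : ℕ} {W : ∀ (Q : Type u) [Group Q], Subgroup Q}
    (hW : Cfsg.IsCharPFunctor.{u} p W) {G Q : Type u} [Group G] [Group Q] [Finite G]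
    (f : G →* Q) (S : Subgroup G) (hS : IsPGroup p S) (hinj : ∀ x ∈ S, f x = 1 → x = 1) :
    Cfsg.inducedFunctor W (S.map f) = (Cfsg.inducedFunctor W S).map f := by
  have hbij : Function.Bijective (f.subgroupMap S) := by
    refine ⟨?_, f.subgroupMap_surjective S⟩
    rw [injective_iff_map_eq_one]
    intro x hx
    have h1 : f (x : G) = 1 := congrArg Subtype.val hx
    exact Subtype.ext (hinj x x.2 h1)
  let φ : ↥S ≃* ↥(S.map f) := MulEquiv.ofBijective (f.subgroupMap S) hbij
  have h1 := hW.2 ↥S ↥(S.map f) hS φ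
  unfold Cfsg.inducedFunctor
  rw [← h1, Subgroup.map_map, Subgroup.map_map]
  congr 1

open Classical in
/-- the `p`-functor attached to an isomorphism-invariant functor on `p`-groups -/
noncomputable def WF (p : ℕ) (W : ∀ (Q : Type u) [Group Q], Subgroup Q)
    (hW : Cfsg.IsCharPFunctor.{u} p W) : Cfsg.Agent.Lib.helper1.PFun.{u} p where
  W := fun G _ S => if IsPGroup p S then Cfsg.inducedFunctor W S else ⊥
  le := fun G _ _ S => by
    split_ifs with h
    · exact Subgroup.map_subtype_le _
    · exact bot_le
  map := fun G Q _ _ _ _ f S hS => by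
    have hinj : ∀ x ∈ S, f x = 1 → x = 1 := fun x hx hfx => by
      have h1 : x ∈ S ⊓ f.ker := ⟨hx, hfx⟩
      rw [hS] at h1
      exact Subgroup.mem_bot.1 h1
    by_cases h : IsPGroup p S
    · have h' : IsPGroup p (S.map f) := h.map f
      rw [if_pos h, if_pos h']
      exact induced_map hW f S h hinj
    · have h' : ¬ IsPGroup p (S.map f) := by
        intro h'
        apply h
        refine h'.of_injective (f.subgroupMap S) ?_
        rw [injective_iff_map_eq_one]
        intro x hx
        have h1 : f (x : G) = 1 := congrArg Subtype.val hx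
        exact Subtype.ext (hinj x x.2 h1)
      rw [if_neg h, if_neg h', Subgroup.map_bot]
  ne_bot := fun G _ _ S hS hS1 => by
    rw [if_pos hS]
    haveI : Nontrivial S := (Subgroup.nontrivial_iff_ne_bot S).2 hS1
    have h1 := hW.1 ↥S hS inferInstance
    intro h2
    apply h1
    unfold Cfsg.inducedFunctor at h2
    exact (Subgroup.map_eq_bot_iff_of_injective _ S.subtype_injective).1 h2

theorem WF_apply {p : ℕ} (W : ∀ (Q : Type u) [Group Q], Subgroup Q)
    (hW : Cfsg.IsCharPFunctor.{u} p W) {X : Type u} [Group X] (S : Subgroup X)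
    (hS : IsPGroup p S) : (WF p W hW).W X S = Cfsg.inducedFunctor W S := by
  classical
  show (if IsPGroup p S then Cfsg.inducedFunctor W S else ⊥) = _
  rw [if_pos hS]

/-- transport of the minimal configuration to the section `Γ ≃* G'`: the data needed by the
functor-form criteria. -/
theorem mincex_section {p : ℕ} [Fact p.Prime] (W : ∀ (Q : Type u) [Group Q], Subgroup Q)
    (hW : Cfsg.IsCharPFunctor.{u} p W) (𝒞 : Cfsg.Agent.Lib.helper1.Hered.{u})
    {G' : Type u} [Group G'] [Finite G'] (P : Sylow p G') (H K : Subgroup G')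
    (h : Cfsg.Agent.Lib.helper1.MinCex p (WF p W hW) (WF p W hW) 𝒞 G' P H K)
    {Γ : Type u} [Group Γ] [Finite Γ] (e : Γ ≃* G') :
    Cfsg.pCore p Γ = H.comap e.toMonoidHom ∧
    Subgroup.centralizer ((Cfsg.pCore p Γ : Subgroup Γ) : Set Γ) ≤ Cfsg.pCore p Γ ∧
    Cfsg.HasNormalPComplement p (Γ ⧸ Cfsg.pCore p Γ) ∧
    ∃ T : Sylow p Γ, (T : Subgroup Γ) = (P : Subgroup G').comap e.toMonoidHom ∧
      IsCoatom (T : Subgroup Γ) ∧ ¬ (Cfsg.inducedFunctor W (T : Subgroup Γ)).Normal := by
  have hp' : p.Prime := Fact.out
  haveI hHn := h.H_normal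
  haveI hKn := h.K_normal
  have hcore : Cfsg.pCore p Γ = H.comap e.toMonoidHom := by
    apply le_antisymm
    · apply sSup_le
      rintro N ⟨hNn, hNp⟩
      intro x hx
      have h1 : N.map e.toMonoidHom ≤ H :=
        h.core _ (hNn.map e.toMonoidHom e.surjective) (hNp.map _)
      exact h1 ⟨x, hx, rfl⟩
    · apply le_sSup
      refine ⟨hHn.comap _, ?_⟩
      exact h.H_pgroup.comap_of_injective e.toMonoidHom e.injective
  have hcent : Subgroup.centralizer ((Cfsg.pCore p Γ : Subgroup Γ) : Set Γ) ≤ Cfsg.pCore p Γ := by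
    intro x hx
    rw [hcore]
    apply h.cent_le
    rw [Subgroup.mem_centralizer_iff]
    intro y hy
    have h1 : e.symm y ∈ Cfsg.pCore p Γ := by
      rw [hcore]; show e (e.symm y) ∈ H; rw [MulEquiv.apply_symm_apply]; exact hy
    have h2 := Subgroup.mem_centralizer_iff.1 hx _ h1
    have h3 := congrArg e h2
    rw [map_mul, map_mul, MulEquiv.apply_symm_apply] at h3
    exact h3
  have hq : Cfsg.HasNormalPComplement p (G' ⧸ H) := by
    rw [Cfsg.Agent.S0072.hasNormalPComplement_iff]
    obtain ⟨a, ha⟩ := h.K_index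
    obtain ⟨q, hq, hqp, hKq⟩ := h.K_q
    refine ⟨K.map (QuotientGroup.mk' H), hKn.map _ (QuotientGroup.mk'_surjective H), ?_, a, ?_⟩
    · apply coprime_card_of_forall_pow_eq_one' (K.map (QuotientGroup.mk' H)) (q ^ Nat.card G')
        (Nat.Coprime.pow_left _ ((Nat.coprime_primes hq hp').2 hqp))
      rintro _ ⟨k, hk, rfl⟩
      rw [← map_pow]
      exact (QuotientGroup.eq_one_iff _).2 (uniform_exp H K q hq hKq k hk)
    · rw [Subgroup.index_map_eq _ (QuotientGroup.mk'_surjective H)
        (by rw [QuotientGroup.ker_mk']; exact h.H_le_K)]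
      exact ha
  have hq' : Cfsg.HasNormalPComplement p (Γ ⧸ Cfsg.pCore p Γ) := by
    let f : G' ⧸ H →* Γ ⧸ Cfsg.pCore p Γ :=
      QuotientGroup.lift H ((QuotientGroup.mk' (Cfsg.pCore p Γ)).comp e.symm.toMonoidHom)
        (fun x hx => by
          show QuotientGroup.mk' (Cfsg.pCore p Γ) (e.symm x) = 1
          refine (QuotientGroup.eq_one_iff _).2 ?_
          rw [hcore]; show e (e.symm x) ∈ H; rw [MulEquiv.apply_symm_apply]; exact hx)
    have hf : Function.Surjective f := by
      intro y
      obtain ⟨γ, rfl⟩ := QuotientGroup.mk'_surjective _ y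
      refine ⟨QuotientGroup.mk' H (e γ), ?_⟩
      show QuotientGroup.mk' (Cfsg.pCore p Γ) (e.symm (e γ)) = _
      rw [MulEquiv.symm_apply_apply]
    exact Cfsg.Agent.Lib.lead.hasNPC_of_surjective f hf hq
  refine ⟨hcore, hcent, hq', ?_⟩
  have hrange : (P : Subgroup G') ≤ e.toMonoidHom.range := by
    intro x _
    exact ⟨e.symm x, MulEquiv.apply_symm_apply e x⟩
  have hinj : Function.Injective e.toMonoidHom := e.injective
  obtain ⟨T, hT⟩ : ∃ T : Sylow p Γ, (T : Subgroup Γ) = (P : Subgroup G').comap e.toMonoidHom :=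
    ⟨P.comapOfInjective e.toMonoidHom hinj hrange, Sylow.coe_comapOfInjective _ _ _ _⟩
  refine ⟨T, hT, ?_, ?_⟩
  · rw [hT]
    constructor
    · intro htop
      apply h.P_ne_top
      rw [eq_top_iff]
      intro x _
      have : e.symm x ∈ (P : Subgroup G').comap e.toMonoidHom := by rw [htop]; trivial
      have h2 : e (e.symm x) ∈ (P : Subgroup G') := this
      rwa [MulEquiv.apply_symm_apply] at h2
    · intro M hM
      have h1 : (P : Subgroup G') ≤ M.map e.toMonoidHom := by
        intro x hx
        refine ⟨e.symm x, hM.le ?_, MulEquiv.apply_symm_apply e x⟩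
        show e (e.symm x) ∈ (P : Subgroup G')
        rw [MulEquiv.apply_symm_apply]; exact hx
      rcases h.P_max _ h1 with h2 | h2
      · exfalso
        apply hM.ne
        apply le_antisymm hM.le
        intro x hx
        show e x ∈ (P : Subgroup G')
        rw [← h2]; exact ⟨x, hx, rfl⟩
      · rw [eq_top_iff]
        intro x _
        have h3 : e x ∈ M.map e.toMonoidHom := by rw [h2]; trivial
        obtain ⟨y, hy, hyx⟩ := h3
        have : y = x := e.injective hyx
        rw [← this]; exact hy
  · intro hnorm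
    rw [hT] at hnorm
    have hTp : IsPGroup p ((P : Subgroup G').comap e.toMonoidHom) :=
      P.2.comap_of_injective e.toMonoidHom e.injective
    have hmap : ((P : Subgroup G').comap e.toMonoidHom).map e.toMonoidHom = P :=
      Subgroup.map_comap_eq_self_of_surjective e.surjective _
    have h1 := induced_map hW e.toMonoidHom ((P : Subgroup G').comap e.toMonoidHom) hTp
      (fun x _ hx => e.injective (by rw [map_one]; exact hx))
    rw [hmap] at h1
    have h2 : (Cfsg.inducedFunctor W (P : Subgroup G')).Normal := by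
      rw [h1]; exact hnorm.map e.toMonoidHom e.surjective
    have h3 := h.norm₁
    rw [WF_apply W hW _ P.2, Subgroup.normalizer_eq_top_iff.2 h2] at h3
    exact h.P_ne_top h3.symm

/-- the reduction for a single isomorphism-invariant functor: it suffices to refute the minimal
configurations among the groups involved in `G`. -/
theorem functor_npc_of_final {p : ℕ} [Fact p.Prime] {G : Type u} [Group G] [Finite G]
    (W : ∀ (Q : Type u) [Group Q], Subgroup Q) (hW : Cfsg.IsCharPFunctor.{u} p W) (S : Sylow p G)
    (hN : Cfsg.HasNormalPComplement p ↥(Subgroup.normalizer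
      ((Cfsg.inducedFunctor (G := G) W (S : Subgroup G) : Subgroup G) : Set G)))
    (hfinal : ∀ (G' : Type u) [Group G'] [Finite G'] (P : Sylow p G') (H K : Subgroup G'),
      Cfsg.Agent.Lib.helper1.MinCex p (WF p W hW) (WF p W hW) (InvIn G) G' P H K → False) :
    Cfsg.HasNormalPComplement p G := by
  refine Cfsg.Agent.Lib.helper1.thompson_reduction p (WF p W hW) (WF p W hW) (InvIn G) hfinal G S
    (involves_self G) ⟨?_, ?_⟩
  · rw [WF_apply W hW _ S.2]; exact hN
  · rw [WF_apply W hW _ S.2]
    exact hasNPC_mono (Subgroup.centralizer_le_normalizer _) hN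

end Cfsg.Agent.Lib.helper14
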