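import Cfsg.Agent.S3060
import Cfsg.Agent.Lib.helper15.QuadStab
import Cfsg.Agent.Lib.helper14.FunctorNPC

/-!
# An iterated `D*` construction (library, seat helper14)

`dK Q`: iterate `N ↦ preimage of D*(C_Q(N)N/N)` starting from the trivial subgroup.  For a finite
`p`-group it is a characteristic subgroup containing its centralizer.
-/

set_option autoImplicit false
set_option linter.style.haveILetI false
set_option linter.unusedVariables false
set_option linter.unusedSectionVars false

namespace Cfsg.Agent.Lib.helper14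

open Cfsg

universe u

/-- iso-invariance of the `D*` family -/
theorem dStarFamily_map {A B : Type*} [Group A] [Group B] (e : A ≃* B) (X : Subgroup A)
    (hX : X ∈ Cfsg.dStarFamily A) : X.map e.toMonoidHom ∈ Cfsg.dStarFamily B := by
  obtain ⟨hc, hx⟩ := hX
  refine ⟨Subgroup.map_isMulCommutative _ _, ?_⟩
  intro y hy b hb
  obtain ⟨a, ha, rfl⟩ := hb
  have hcl : ⁅⁅X ⊔ Subgroup.zpowers (e.symm y), X ⊔ Subgroup.zpowers (e.symm y)⁆,
      X ⊔ Subgroup.zpowers (e.symm y)⁆ = ⊥ := by
    apply Cfsg.Agent.S3060.class2_of_map e.toMonoidHom e.injective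
    rw [Subgroup.map_sup, MonoidHom.map_zpowers]
    have : e.toMonoidHom (e.symm y) = y := e.apply_symm_apply y
    rw [this]; exact hy
  have h1 := hx (e.symm y) hcl a ha
  have h2 := congrArg e h1
  simpa using h2

theorem dStar_map {A B : Type*} [Group A] [Group B] (e : A ≃* B) :
    (Cfsg.dStar A).map e.toMonoidHom = Cfsg.dStar B := by
  apply le_antisymm
  · rw [Subgroup.map_le_iff_le_comap]
    apply sSup_le
    intro X hX
    rw [← Subgroup.map_le_iff_le_comap]
    exact le_sSup (dStarFamily_map e X hX)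
  · apply sSup_le
    intro Y hY
    have h1 := dStarFamily_map e.symm Y hY
    have h2 : Y.map e.symm.toMonoidHom ≤ Cfsg.dStar A := le_sSup h1
    intro y hy
    exact ⟨e.symm y, h2 ⟨y, hy, rfl⟩, e.apply_symm_apply y⟩

theorem dStarOf_map {G G' : Type*} [Group G] [Group G'] (f : G →* G')
    (hf : Function.Injective f) (P : Subgroup G) :
    Cfsg.dStarOf (P.map f) = (Cfsg.dStarOf P).map f := by
  unfold Cfsg.dStarOf
  rw [← dStar_map (P.equivMapOfInjective f hf), Subgroup.map_map, Subgroup.map_map]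
  congr 1

theorem dStarOf_le {G : Type*} [Group G] (P : Subgroup G) : Cfsg.dStarOf P ≤ P :=
  Subgroup.map_subtype_le _

theorem dStarOf_conj {G : Type*} [Group G] (M : Subgroup G) (g : G)
    (hg : ∀ m ∈ M, g * m * g⁻¹ ∈ M) (hg' : ∀ m ∈ M, g⁻¹ * m * g ∈ M) :
    ∀ d ∈ Cfsg.dStarOf M, g * d * g⁻¹ ∈ Cfsg.dStarOf M := by
  intro d hd
  have h1 : M.map (MulAut.conj g).toMonoidHom = M := by
    apply le_antisymm
    · rintro _ ⟨m, hm, rfl⟩
      exact hg m hm
    · intro m hm
      exact ⟨g⁻¹ * m * g, hg' m hm, by simp [MulAut.conj_apply, mul_assoc]⟩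
  have h2 := dStarOf_map (MulAut.conj g).toMonoidHom (MulAut.conj g).injective M
  rw [h1] at h2
  rw [h2]
  exact ⟨d, hd, rfl⟩

theorem dStarOf_normal {G : Type*} [Group G] (M : Subgroup G) [hM : M.Normal] :
    (Cfsg.dStarOf M).Normal := by
  constructor
  intro d hd g
  exact dStarOf_conj M g (fun m hm => hM.conj_mem m hm g)
    (fun m hm => by have := hM.conj_mem m hm g⁻¹; simpa using this) d hd

/-- One step of the construction: the preimage of `D*(C_Q(N)N/N)`. -/
noncomputable def dStep {Q : Type*} [Group Q] (N : Subgroup Q) : Subgroup Q := by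
  classical
  exact if h : N.Normal then
    (Cfsg.dStarOf (((Subgroup.centralizer (N : Set Q)) ⊔ N).map
      (@QuotientGroup.mk' Q _ N h))).comap (@QuotientGroup.mk' Q _ N h)
  else N

theorem dStep_eq {Q : Type*} [Group Q] (N : Subgroup Q) [hN : N.Normal] :
    dStep N = (Cfsg.dStarOf (((Subgroup.centralizer (N : Set Q)) ⊔ N).map
      (QuotientGroup.mk' N))).comap (QuotientGroup.mk' N) := by
  unfold dStep
  rw [dif_pos hN]

theorem le_dStep {Q : Type*} [Group Q] (N : Subgroup Q) [hN : N.Normal] : N ≤ dStep N := by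
  rw [dStep_eq]
  intro x hx
  rw [Subgroup.mem_comap]
  have : QuotientGroup.mk' N x = 1 := (QuotientGroup.eq_one_iff x).2 hx
  rw [this]
  exact one_mem _

theorem dStep_normal {Q : Type*} [Group Q] (N : Subgroup Q) [hN : N.Normal] :
    (dStep N).Normal := by
  rw [dStep_eq]
  haveI : ((Subgroup.centralizer (N : Set Q)) ⊔ N).Normal := inferInstance
  haveI : (((Subgroup.centralizer (N : Set Q)) ⊔ N).map (QuotientGroup.mk' N)).Normal :=
    Subgroup.Normal.map inferInstance _ (QuotientGroup.mk'_surjective N)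
  haveI := dStarOf_normal (((Subgroup.centralizer (N : Set Q)) ⊔ N).map (QuotientGroup.mk' N))
  exact Subgroup.Normal.comap inferInstance _

theorem dStep_map {Q R : Type*} [Group Q] [Group R] (φ : Q ≃* R) (N : Subgroup Q) [hN : N.Normal]
    [hN' : (N.map φ.toMonoidHom).Normal] :
    (dStep N).map φ.toMonoidHom = dStep (N.map φ.toMonoidHom) := by
  rw [dStep_eq, dStep_eq]
  set ψ : Q ⧸ N ≃* R ⧸ (N.map φ.toMonoidHom) := QuotientGroup.congr N (N.map φ.toMonoidHom) φ rfl
    with hψ
  have hψmk : ∀ x : Q, ψ (QuotientGroup.mk' N x) = QuotientGroup.mk' (N.map φ.toMonoidHom) (φ x) :=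
    fun x => rfl
  have hcent : Subgroup.centralizer ((N.map φ.toMonoidHom : Subgroup R) : Set R) =
      (Subgroup.centralizer (N : Set Q)).map φ.toMonoidHom := by
    ext y
    constructor
    · intro hy
      have hmem : φ.symm y ∈ Subgroup.centralizer (N : Set Q) := by
        rw [Subgroup.mem_centralizer_iff]
        intro n hn
        have h1 := Subgroup.mem_centralizer_iff.1 hy (φ n) ⟨n, hn, rfl⟩
        apply φ.injective
        rw [map_mul, map_mul, φ.apply_symm_apply]
        exact h1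
      exact ⟨φ.symm y, hmem, φ.apply_symm_apply y⟩
    · rintro ⟨x, hx, rfl⟩
      rw [Subgroup.mem_centralizer_iff]
      rintro _ ⟨n, hn, rfl⟩
      have h1 := Subgroup.mem_centralizer_iff.1 hx n hn
      show φ n * φ x = φ x * φ n
      rw [← map_mul, ← map_mul, h1]
  have hM : ((Subgroup.centralizer ((N.map φ.toMonoidHom : Subgroup R) : Set R)) ⊔
      N.map φ.toMonoidHom).map (QuotientGroup.mk' (N.map φ.toMonoidHom)) =
      (((Subgroup.centralizer (N : Set Q)) ⊔ N).map (QuotientGroup.mk' N)).map ψ.toMonoidHom := by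
    rw [hcent, ← Subgroup.map_sup, Subgroup.map_map, Subgroup.map_map]
    congr 1
  rw [hM, dStarOf_map ψ.toMonoidHom ψ.injective]
  ext y
  constructor
  · rintro ⟨x, hx, rfl⟩
    have hx' : QuotientGroup.mk' N x ∈ Cfsg.dStarOf (((Subgroup.centralizer (N : Set Q)) ⊔ N).map
      (QuotientGroup.mk' N)) := hx
    rw [Subgroup.mem_comap]
    exact ⟨_, hx', hψmk x⟩
  · intro hy
    rw [Subgroup.mem_comap] at hy
    obtain ⟨z, hz, hzy⟩ := hy
    have hmem : φ.symm y ∈ (Cfsg.dStarOf (((Subgroup.centralizer (N : Set Q)) ⊔ N).map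
        (QuotientGroup.mk' N))).comap (QuotientGroup.mk' N) := by
      rw [Subgroup.mem_comap]
      have h1 : ψ (QuotientGroup.mk' N (φ.symm y)) = ψ z := by
        rw [hψmk, φ.apply_symm_apply]
        exact hzy.symm
      rw [ψ.injective h1]
      exact hz
    exact ⟨φ.symm y, hmem, φ.apply_symm_apply y⟩

/-- The iterated construction. -/
noncomputable def dK (Q : Type*) [Group Q] : Subgroup Q := (dStep^[Nat.card Q]) ⊥

theorem dIter_normal {Q : Type*} [Group Q] (n : ℕ) : ((dStep^[n]) (⊥ : Subgroup Q)).Normal := by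
  induction n with
  | zero => exact Subgroup.normal_bot
  | succ n ih =>
    rw [Function.iterate_succ_apply']
    haveI := ih
    exact dStep_normal _

theorem dIter_map {Q R : Type*} [Group Q] [Group R] (φ : Q ≃* R) (n : ℕ) :
    ((dStep^[n]) (⊥ : Subgroup Q)).map φ.toMonoidHom = (dStep^[n]) (⊥ : Subgroup R) := by
  induction n with
  | zero => simp
  | succ n ih =>
    rw [Function.iterate_succ_apply', Function.iterate_succ_apply']
    haveI := dIter_normal (Q := Q) n
    haveI : (((dStep^[n]) (⊥ : Subgroup Q)).map φ.toMonoidHom).Normal := by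
      rw [ih]; exact dIter_normal n
    rw [dStep_map φ, ih]

theorem dK_map {Q R : Type*} [Group Q] [Group R] (φ : Q ≃* R) :
    (dK Q).map φ.toMonoidHom = dK R := by
  unfold dK
  rw [Nat.card_congr φ.toEquiv]
  exact dIter_map φ _

theorem dK_characteristic (Q : Type*) [Group Q] : (dK Q).Characteristic :=
  Subgroup.characteristic_iff_map_eq.2 (fun φ => dK_map φ)

theorem dIter_mono {Q : Type*} [Group Q] {m n : ℕ} (h : m ≤ n) :
    (dStep^[m]) (⊥ : Subgroup Q) ≤ (dStep^[n]) (⊥ : Subgroup Q) := by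
  induction n with
  | zero =>
    have : m = 0 := by omega
    rw [this]
  | succ n ih =>
    rcases Nat.lt_or_ge m (n + 1) with h1 | h1
    · refine (ih (by omega)).trans ?_
      rw [Function.iterate_succ_apply']
      haveI := dIter_normal (Q := Q) n
      exact le_dStep _
    · have : m = n + 1 := by omega
      rw [this]

theorem lt_dStep {Q : Type*} [Group Q] [Finite Q] {p : ℕ} [Fact p.Prime] (hQ : IsPGroup p Q)
    (N : Subgroup Q) [hN : N.Normal] (h : ¬ Subgroup.centralizer (N : Set Q) ≤ N) :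
    N < dStep N := by
  refine lt_of_le_of_ne (le_dStep N) ?_
  intro heq
  obtain ⟨c, hc, hcN⟩ := SetLike.not_le_iff_exists.1 h
  set M : Subgroup (Q ⧸ N) := ((Subgroup.centralizer (N : Set Q)) ⊔ N).map (QuotientGroup.mk' N)
    with hM
  have hMp : IsPGroup p ↥M := (hQ.to_quotient N).to_subgroup M
  have hcM : QuotientGroup.mk' N c ∈ M := Subgroup.mem_map_of_mem _ (Subgroup.mem_sup_left hc)
  have hc1 : QuotientGroup.mk' N c ≠ 1 := fun h1 => hcN ((QuotientGroup.eq_one_iff c).1 h1)
  haveI : Nontrivial ↥M := ⟨⟨⟨_, hcM⟩, 1, fun h1 => hc1 (congrArg Subtype.val h1)⟩⟩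
  have hcen : Subgroup.center ↥M ≠ ⊥ := by
    haveI := hMp.center_nontrivial
    exact (Subgroup.nontrivial_iff_ne_bot _).1 inferInstance
  have hle : Subgroup.center ↥M ≤ Cfsg.dStar ↥M := (Cfsg.Agent.S3062.result hMp).1
  obtain ⟨z, hz1⟩ := (Subgroup.ne_bot_iff_exists_ne_one).1 hcen
  have hzD : ((z : ↥M) : Q ⧸ N) ∈ Cfsg.dStarOf M := ⟨(z : ↥M), hle z.2, rfl⟩
  obtain ⟨x, hx⟩ := QuotientGroup.mk'_surjective N ((z : ↥M) : Q ⧸ N)
  have hxS : x ∈ dStep N := by
    rw [dStep_eq, Subgroup.mem_comap, hx]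
    exact hzD
  rw [← heq] at hxS
  have h1 : QuotientGroup.mk' N x = 1 := (QuotientGroup.eq_one_iff x).2 hxS
  apply hz1
  apply Subtype.ext
  apply Subtype.ext
  rw [← hx, h1]
  rfl

theorem centralizer_dK_le {Q : Type*} [Group Q] [Finite Q] {p : ℕ} [Fact p.Prime]
    (hQ : IsPGroup p Q) : Subgroup.centralizer (dK Q : Set Q) ≤ dK Q := by
  have key : ∀ n : ℕ, (∃ j ≤ n, Subgroup.centralizer (((dStep^[j]) (⊥ : Subgroup Q) : Subgroup Q) : Set Q) ≤
      (dStep^[j]) (⊥ : Subgroup Q)) ∨ n + 1 ≤ Nat.card ↥((dStep^[n]) (⊥ : Subgroup Q)) := by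
    intro n
    induction n with
    | zero =>
      right
      simp
    | succ n ih =>
      rcases ih with ⟨j, hj, h⟩ | h
      · exact Or.inl ⟨j, by omega, h⟩
      · by_cases hc : Subgroup.centralizer (((dStep^[n]) (⊥ : Subgroup Q) : Subgroup Q) : Set Q) ≤
            (dStep^[n]) (⊥ : Subgroup Q)
        · exact Or.inl ⟨n, by omega, hc⟩
        · right
          haveI := dIter_normal (Q := Q) n
          have hlt := lt_dStep hQ _ hc
          rw [Function.iterate_succ_apply']
          have hle2 := Subgroup.card_le_of_le hlt.le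
          have hne2 : Nat.card ↥((dStep^[n]) (⊥ : Subgroup Q)) ≠
              Nat.card ↥(dStep ((dStep^[n]) (⊥ : Subgroup Q))) := by
            intro he
            exact hlt.ne (Subgroup.eq_of_le_of_card_ge hlt.le he.ge)
          omega
  rcases key (Nat.card Q) with ⟨j, hj, h⟩ | h
  · have hmono : (dStep^[j]) (⊥ : Subgroup Q) ≤ dK Q := dIter_mono hj
    exact (Subgroup.centralizer_le hmono).trans (h.trans hmono)
  · have := Subgroup.card_le_card_group ((dStep^[Nat.card Q]) (⊥ : Subgroup Q))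
    omega

theorem dK_isCharPFunctor (p : ℕ) [Fact p.Prime] :
    Cfsg.IsCharPFunctor.{u} p (fun (Q : Type u) [Group Q] => dK Q) := by
  constructor
  · intro Q _ _ hQ hnt h
    have h1 := centralizer_dK_le hQ
    have h' : dK Q = ⊥ := h
    rw [h'] at h1
    obtain ⟨x, hx⟩ := exists_ne (1 : Q)
    apply hx
    have : x ∈ Subgroup.centralizer (((⊥ : Subgroup Q) : Subgroup Q) : Set Q) := by
      rw [Subgroup.mem_centralizer_iff]
      intro y hy
      have : y = 1 := by simpa using hy
      rw [this]; simp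
    simpa using h1 this
  · intro Q R _ _ _ hQ φ
    exact dK_map φ

end Cfsg.Agent.Lib.helper14
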