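import Cfsg.Agent.Lib.helper14.DStarK

set_option autoImplicit false
set_option linter.style.haveILetI false
set_option linter.unusedVariables false
set_option linter.unusedSectionVars false

namespace Cfsg.Agent.Lib.helper14

open Cfsg
open scoped commutatorElement

universe u

theorem mem_of_pow_mem_coprime {G : Type*} [Group G] (D : Subgroup G) (x : G) (m n : ℕ)
    (hm : x ^ m ∈ D) (hn : x ^ n ∈ D) (hmn : Nat.Coprime m n) : x ∈ D := by
  have h1 : (x ^ ((m : ℤ) * Int.gcdA m n + (n : ℤ) * Int.gcdB m n)) ∈ D := by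
    rw [zpow_add, zpow_mul, zpow_mul]
    exact D.mul_mem (D.zpow_mem (by simpa using hm) _) (D.zpow_mem (by simpa using hn) _)
  rw [← Int.gcd_eq_gcd_ab] at h1
  have h2 : Int.gcd (m : ℤ) (n : ℤ) = 1 := by
    rw [Int.gcd_natCast_natCast]; exact hmn
  rw [h2] at h1
  simpa using h1

/-- From stability on the elements of a Sylow subgroup to the full stability predicate. -/
theorem isPStableOn_of_zstabOn {X : Type*} [Group X] [Finite X] {p : ℕ} [Fact p.Prime]
    (S : Sylow p X) (Q₀ : Subgroup X)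
    (h : Cfsg.Agent.Lib.helper15.ZStabOn p (S : Subgroup X) Q₀) (V : Subgroup X) [hVn : V.Normal]
    (hVQ : V ≤ Q₀) (hVp : IsPGroup p V) : Cfsg.IsPStableOn p V := by
  have hp : p.Prime := Fact.out
  intro a hquad
  obtain ⟨D, hDn, hCD, ⟨n, hn⟩, hD⟩ := h V hVn hVQ
  haveI := hDn
  set C : Subgroup X := Subgroup.centralizer (V : Set X) with hC
  have hq : ∀ b ∈ V, ∀ x ∈ Subgroup.zpowers a, ∀ y ∈ Subgroup.zpowers a, ⁅⁅b, x⁆, y⁆ = 1 := by
    intro b hb x hx y hy
    have : ⁅⁅b, x⁆, y⁆ ∈ ⁅⁅V, Subgroup.zpowers a⁆, Subgroup.zpowers a⁆ :=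
      Subgroup.commutator_mem_commutator (Subgroup.commutator_mem_commutator hb hx) hy
    rw [hquad] at this
    exact Subgroup.mem_bot.1 this
  have haD : a ∈ D := by
    obtain ⟨t, r, hr, hmr⟩ := Nat.exists_eq_pow_mul_and_not_dvd (orderOf_pos a).ne' p hp.ne_one
    have hcop : Nat.Coprime r (p ^ t) :=
      Nat.Coprime.pow_right t ((Nat.Prime.coprime_iff_not_dvd hp).mpr hr).symm
    apply mem_of_pow_mem_coprime D a r (p ^ t) _ _ hcop
    · -- a ^ r is a p-element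
      have h1 : (a ^ r) ^ p ^ t = 1 := by
        rw [← pow_mul, mul_comm, ← hmr, pow_orderOf_eq_one]
      have hz : Subgroup.zpowers (a ^ r) ≤ (Subgroup.zpowers a) :=
        Subgroup.zpowers_le.2 (Subgroup.pow_mem _ (Subgroup.mem_zpowers a) r)
      have hpz : IsPGroup p ↥(Subgroup.zpowers (a ^ r)) := by
        rintro ⟨y, hy⟩
        obtain ⟨k, rfl⟩ := Subgroup.mem_zpowers_iff.1 hy
        refine ⟨t, Subtype.ext ?_⟩
        show ((a ^ r) ^ k) ^ p ^ t = 1
        rw [← zpow_natCast, ← zpow_mul, mul_comm, zpow_mul, zpow_natCast, h1, one_zpow]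
      obtain ⟨S', hS'⟩ := hpz.exists_le_sylow
      obtain ⟨g, hg⟩ := MulAction.exists_smul_eq X S' S
      have hmem : g * a ^ r * g⁻¹ ∈ (S : Subgroup X) := by
        have h2 := Subgroup.smul_mem_pointwise_smul (a ^ r) (MulAut.conj g) (S' : Subgroup X)
          (hS' (Subgroup.mem_zpowers _))
        rw [← Sylow.coe_subgroup_smul, hg] at h2
        simpa [MulAut.smul_def] using h2
      have har : a ^ r ∈ Subgroup.zpowers a := Subgroup.pow_mem _ (Subgroup.mem_zpowers a) r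
      have hquad' : ∀ b ∈ V, ⁅⁅b, g * a ^ r * g⁻¹⁆, g * a ^ r * g⁻¹⁆ = 1 := by
        intro b hb
        have hb₀ : g⁻¹ * b * g ∈ V := by have := hVn.conj_mem b hb g⁻¹; simpa using this
        have h3 := hq _ hb₀ _ har _ har
        have h4 : ⁅⁅b, g * a ^ r * g⁻¹⁆, g * a ^ r * g⁻¹⁆ =
            (MulAut.conj g) ⁅⁅g⁻¹ * b * g, a ^ r⁆, a ^ r⁆ := by
          rw [map_commutatorElement, map_commutatorElement]
          have e1 : (MulAut.conj g) (g⁻¹ * b * g) = b := by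
            rw [MulAut.conj_apply]; group
          have e2 : (MulAut.conj g) (a ^ r) = g * a ^ r * g⁻¹ := by rw [MulAut.conj_apply]
          rw [e1, e2]
        rw [h4, h3, map_one]
      have h5 := hD _ hmem hquad'
      have h6 := hDn.conj_mem _ h5 g⁻¹
      have e3 : g⁻¹ * (g * a ^ r * g⁻¹) * g⁻¹⁻¹ = a ^ r := by group
      rwa [e3] at h6
    · apply hCD
      rw [hC, Subgroup.mem_centralizer_iff]
      intro b hb
      have hy : a ^ p ^ t ∈ Subgroup.zpowers a := Subgroup.pow_mem _ (Subgroup.mem_zpowers a) _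
      have hyr : (a ^ p ^ t) ^ r = 1 := by rw [← pow_mul, ← hmr, pow_orderOf_eq_one]
      have h3 := hq b hb _ hy _ hy
      obtain ⟨c, hcdef⟩ : ∃ c, c = a ^ p ^ t * b * (a ^ p ^ t)⁻¹ * b⁻¹ := ⟨_, rfl⟩
      have hcV : c ∈ V := by
        rw [hcdef]
        exact V.mul_mem (hVn.conj_mem b hb _) (V.inv_mem hb)
      obtain ⟨j, hj⟩ := hVp ⟨c, hcV⟩
      have hj' : c ^ p ^ j = 1 := by simpa using congrArg Subtype.val hj
      have hyc : a ^ p ^ t * c = c * a ^ p ^ t := by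
        have hcu : c = ⁅b, a ^ p ^ t⁆⁻¹ := by rw [hcdef, commutatorElement_def]; group
        have hcomm := commutatorElement_eq_one_iff_commute.1 h3
        rw [hcu]
        exact (hcomm.inv_left).eq.symm
      have h7 := Cfsg.Agent.Lib.helper15.comm_of_conj_pow (a ^ p ^ t) b c (by rw [hcdef]; group) hyc
        r (p ^ j) hyr hj' (Nat.Coprime.pow_right j ((Nat.Prime.coprime_iff_not_dvd hp).mpr hr).symm)
      exact h7.symm
  have hπ : Function.Surjective (QuotientGroup.mk' C) := QuotientGroup.mk'_surjective C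
  have hMp : IsPGroup p ↥(D.map (QuotientGroup.mk' C)) := by
    apply IsPGroup.of_card (n := n)
    have h2 := Subgroup.relIndex_ker D (QuotientGroup.mk' C)
    rw [QuotientGroup.ker_mk'] at h2
    rw [← h2, hn]
  have hle := Cfsg.Agent.Lib.helper15.le_pCore (hDn.map _ hπ) hMp
  exact hle (Subgroup.mem_map_of_mem _ haD)

/-- `D*(T)` is normal in a group of the shape `K₁ T` with `K₁` an abelian `q`-group modulo a
self-centralizing normal `p`-subgroup `Q₁ ≤ T`. -/
theorem dStarOf_normal_of_struct {X : Type u} [Group X] [Finite X] {p : ℕ} [Fact p.Prime]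
    (hp2 : p ≠ 2) (T Q₁ K₁ : Subgroup X) [hQn : Q₁.Normal] [hKn : K₁.Normal] (hT : IsPGroup p T)
    (hQT : Q₁ ≤ T) (hcent : Subgroup.centralizer (Q₁ : Set X) ≤ Q₁)
    (hKc : ∀ x ∈ K₁, ∀ y ∈ K₁, x * y * x⁻¹ * y⁻¹ ∈ Q₁)
    (q : ℕ) (hq : q.Prime) (hqp : q ≠ p) (hKq : ∀ k ∈ K₁, ∃ n : ℕ, k ^ q ^ n ∈ Q₁)
    (hKp : ∀ k ∈ K₁, ∀ n : ℕ, k ^ p ^ n = 1 → k ∈ Q₁)
    (hsup : K₁ ⊔ T = ⊤) : (Cfsg.dStarOf T).Normal := by
  obtain ⟨S, hS⟩ := hT.exists_le_sylow
  have hST : (S : Subgroup X) = T := by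
    apply le_antisymm _ hS
    intro s hs
    have h1 : s ∈ K₁ ⊔ T := by rw [hsup]; exact Subgroup.mem_top s
    obtain ⟨k, hk, t, ht, rfl⟩ := Subgroup.mem_sup_of_normal_left.mp h1
    have hkS : k ∈ (S : Subgroup X) := by
      have := S.mul_mem hs (S.inv_mem (hS ht))
      simpa using this
    obtain ⟨n, hn⟩ := S.2 ⟨k, hkS⟩
    have hn' : k ^ p ^ n = 1 := by simpa using congrArg Subtype.val hn
    exact T.mul_mem (hQT (hKp k hk n hn')) ht
  have hQp : IsPGroup p ↥Q₁ := hT.to_le hQT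
  have hQle : Q₁ ≤ Cfsg.pCore p X := Cfsg.Agent.Lib.helper15.le_pCore hQn hQp
  haveI := Cfsg.Agent.Lib.helper15.pCore_normal p X
  have hc : Subgroup.centralizer (Cfsg.pCore p X : Set X) ≤ Cfsg.pCore p X :=
    (Subgroup.centralizer_le hQle).trans (hcent.trans hQle)
  have hz : Cfsg.Agent.Lib.helper15.ZStabOn p (S : Subgroup X) (Cfsg.pCore p X) :=
    Cfsg.Agent.Lib.helper15.zstabOn_of_quad hp2 S (Cfsg.pCore p X) K₁
      (Cfsg.Agent.Lib.helper15.pCore_isPGroup p X) (fun x hx y hy => hQle (hKc x hx y hy)) q hq hqp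
      (fun k hk => by obtain ⟨n, hn⟩ := hKq k hk; exact ⟨n, hQle hn⟩) (by rw [hST]; exact hsup)
  have hst : ∀ (P : Subgroup X) [P.Normal], IsPGroup p P → Cfsg.IsPStableOn p P := by
    intro P hPn hPp
    exact isPStableOn_of_zstabOn S _ hz P (Cfsg.Agent.Lib.helper15.le_pCore hPn hPp) hPp
  have := Cfsg.Agent.S3060.result hp2 hc hst S
  rwa [hST] at this

end Cfsg.Agent.Lib.helper14
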