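import Cfsg.Agent.Lib.helper14.DStarK2

set_option autoImplicit false
set_option linter.style.haveILetI false
set_option linter.unusedVariables false
set_option linter.unusedSectionVars false

namespace Cfsg.Agent.Lib.helper14

open Cfsg
open scoped commutatorElement

universe u

/-- A `p'`-element normalizing the `p`-group `R`, centralizing `M ⊴ R` and `C_R(M)`,
centralizes `R`. -/
theorem cent_of_cent_normal {G : Type*} [Group G] {p : ℕ} [Fact p.Prime] (R M : Subgroup G)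
    (hR : IsPGroup p R) (hMR : M ≤ R) (hMn : ∀ r ∈ R, ∀ m ∈ M, r * m * r⁻¹ ∈ M) (y : G)
    (hyR : ∀ r ∈ R, y * r * y⁻¹ ∈ R) (hyM : ∀ m ∈ M, y * m = m * y)
    (hyC : ∀ r ∈ R, (∀ m ∈ M, r * m = m * r) → y * r = r * y) (k : ℕ) (hk : y ^ k = 1)
    (hkp : Nat.Coprime k p) : ∀ r ∈ R, y * r = r * y := by
  intro r hr
  obtain ⟨c, hcdef⟩ : ∃ c, c = y * r * y⁻¹ * r⁻¹ := ⟨_, rfl⟩
  have hcR : c ∈ R := by
    rw [hcdef]; exact R.mul_mem (hyR r hr) (R.inv_mem hr)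
  have hcm : ∀ m ∈ M, c * m = m * c := by
    intro m hm
    have hm₁ : r⁻¹ * m * r ∈ M := by have := hMn r⁻¹ (R.inv_mem hr) m hm; simpa using this
    have h1 : y⁻¹ * (r⁻¹ * m * r) * y = r⁻¹ * m * r := by
      have := hyM _ hm₁
      calc y⁻¹ * (r⁻¹ * m * r) * y = y⁻¹ * ((r⁻¹ * m * r) * y) := by group
        _ = y⁻¹ * (y * (r⁻¹ * m * r)) := by rw [this]
        _ = r⁻¹ * m * r := by group
    have h2 : y * m * y⁻¹ = m := by
      rw [hyM m hm]; group
    have h3 : c * m * c⁻¹ = m := by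
      calc c * m * c⁻¹ = y * r * (y⁻¹ * (r⁻¹ * m * r) * y) * r⁻¹ * y⁻¹ := by rw [hcdef]; group
        _ = y * r * (r⁻¹ * m * r) * r⁻¹ * y⁻¹ := by rw [h1]
        _ = y * m * y⁻¹ := by group
        _ = m := h2
    calc c * m = c * m * c⁻¹ * c := by group
      _ = m * c := by rw [h3]
  have hyc : y * c = c * y := hyC c hcR hcm
  obtain ⟨j, hj⟩ := hR ⟨c, hcR⟩
  have hj' : c ^ p ^ j = 1 := by simpa using congrArg Subtype.val hj
  exact Cfsg.Agent.Lib.helper15.comm_of_conj_pow y r c (by rw [hcdef]; group) hyc k (p ^ j) hk hj'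
    (Nat.Coprime.pow_right j hkp)

/-- In a group with self-centralizing `O_p = H`, the kernel of the action of `C(N)N` on
`(H ∩ C(N)N)/N` lies in `H`. -/
theorem mem_of_cent_section {Γ : Type*} [Group Γ] [Finite Γ] {p : ℕ} [Fact p.Prime]
    (H N : Subgroup Γ) [hHn : H.Normal] [hNn : N.Normal] (hHp : IsPGroup p H) (hNH : N ≤ H)
    (hcent : Subgroup.centralizer (H : Set Γ) ≤ H)
    (hcore : ∀ L : Subgroup Γ, L.Normal → IsPGroup p L → L ≤ H) :
    ∀ g ∈ Subgroup.centralizer (N : Set Γ) ⊔ N,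
      (∀ h ∈ H ⊓ (Subgroup.centralizer (N : Set Γ) ⊔ N), g * h * g⁻¹ * h⁻¹ ∈ N) → g ∈ H := by
  have hp : p.Prime := Fact.out
  set Γ₁ : Subgroup Γ := Subgroup.centralizer (N : Set Γ) ⊔ N with hΓ₁
  haveI hΓ₁n : Γ₁.Normal := by rw [hΓ₁]; infer_instance
  set π := QuotientGroup.mk' N with hπ
  haveI h1n : ((H ⊓ Γ₁).map π).Normal :=
    Subgroup.Normal.map inferInstance _ (QuotientGroup.mk'_surjective N)
  set Ct : Subgroup Γ := Γ₁ ⊓ (Subgroup.centralizer (((H ⊓ Γ₁).map π : Subgroup (Γ ⧸ N)) :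
    Set (Γ ⧸ N))).comap π with hCt
  haveI hCtn : Ct.Normal := by rw [hCt]; infer_instance
  have hmemN : ∀ x : Γ, π x = 1 ↔ x ∈ N := fun x => QuotientGroup.eq_one_iff x
  have hCtp : IsPGroup p ↥Ct := by
    rintro ⟨g, hg⟩
    obtain ⟨t, r, hr, hmr⟩ := Nat.exists_eq_pow_mul_and_not_dvd (orderOf_pos g).ne' p hp.ne_one
    have hrp : Nat.Coprime r p := ((Nat.Prime.coprime_iff_not_dvd hp).mpr hr).symm
    refine ⟨t, Subtype.ext ?_⟩
    show g ^ p ^ t = 1
    obtain ⟨y, hydef⟩ : ∃ y, y = g ^ p ^ t := ⟨_, rfl⟩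
    rw [← hydef]
    have hyCt : y ∈ Ct := by rw [hydef]; exact Ct.pow_mem hg _
    have hyr : y ^ r = 1 := by rw [hydef, ← pow_mul, ← hmr, pow_orderOf_eq_one]
    obtain ⟨c, hc, n, hn, hcn⟩ := Subgroup.mem_sup_of_normal_right.mp hyCt.1
    -- (1) y centralizes N
    have hy1 : ∀ m ∈ N, y * m = m * y := by
      have hconj : ∀ m ∈ N, y * m * y⁻¹ = n * m * n⁻¹ := by
        intro m hm
        have h2 : n * m * n⁻¹ ∈ N := hNn.conj_mem m hm n
        have h3 := Subgroup.mem_centralizer_iff.1 hc _ h2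
        rw [← hcn]
        calc c * n * m * (c * n)⁻¹ = c * (n * m * n⁻¹) * c⁻¹ := by group
          _ = (n * m * n⁻¹) * c * c⁻¹ := by rw [← h3]
          _ = n * m * n⁻¹ := by group
      have hpow : ∀ j : ℕ, ∀ m ∈ N, y ^ j * m * (y ^ j)⁻¹ = n ^ j * m * (n ^ j)⁻¹ := by
        intro j
        induction j with
        | zero => intro m hm; simp
        | succ j ih =>
          intro m hm
          have h2 : n * m * n⁻¹ ∈ N := hNn.conj_mem m hm n
          calc y ^ (j + 1) * m * (y ^ (j + 1))⁻¹ = y ^ j * (y * m * y⁻¹) * (y ^ j)⁻¹ := by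
                rw [pow_succ]; group
            _ = y ^ j * (n * m * n⁻¹) * (y ^ j)⁻¹ := by rw [hconj m hm]
            _ = n ^ j * (n * m * n⁻¹) * (n ^ j)⁻¹ := ih _ h2
            _ = n ^ (j + 1) * m * (n ^ (j + 1))⁻¹ := by rw [pow_succ]; group
      intro m hm
      obtain ⟨i, hi⟩ := (hHp.to_le hNH) ⟨n, hn⟩
      have hi' : n ^ p ^ i = 1 := by simpa using congrArg Subtype.val hi
      have h4 : y ^ p ^ i ∈ Subgroup.centralizer ({m} : Set Γ) := by
        rw [Subgroup.mem_centralizer_singleton_iff]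
        have h5 := hpow (p ^ i) m hm
        rw [hi'] at h5
        calc y ^ p ^ i * m = (y ^ p ^ i * m * (y ^ p ^ i)⁻¹) * y ^ p ^ i := by group
          _ = (1 * m * (1 : Γ)⁻¹) * y ^ p ^ i := by rw [h5]
          _ = m * y ^ p ^ i := by group
      have h6 : y ^ r ∈ Subgroup.centralizer ({m} : Set Γ) := by rw [hyr]; exact one_mem _
      have h7 := mem_of_pow_mem_coprime _ y (p ^ i) r h4 h6 (Nat.Coprime.pow_left i hrp.symm)
      exact Subgroup.mem_centralizer_singleton_iff.1 h7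
    -- (2) y centralizes H ⊓ Γ₁
    have hy2 : ∀ h ∈ H ⊓ Γ₁, y * h = h * y := by
      intro h hh
      obtain ⟨c', hc'def⟩ : ∃ c', c' = y * h * y⁻¹ * h⁻¹ := ⟨_, rfl⟩
      have hc'N : c' ∈ N := by
        rw [← hmemN, hc'def]
        have h2 := Subgroup.mem_centralizer_iff.1 (Subgroup.mem_comap.1 hyCt.2) (π h)
          (Subgroup.mem_map_of_mem _ hh)
        simp only [map_mul, map_inv]
        rw [← h2]; group
      obtain ⟨j, hj⟩ := (hHp.to_le hNH) ⟨c', hc'N⟩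
      have hj' : c' ^ p ^ j = 1 := by simpa using congrArg Subtype.val hj
      exact Cfsg.Agent.Lib.helper15.comm_of_conj_pow y h c' (by rw [hc'def]; group)
        (hy1 c' hc'N) r (p ^ j) hyr hj' (Nat.Coprime.pow_right j hrp)
    -- (3) y centralizes H
    have hy3 : ∀ h ∈ H, y * h = h * y := by
      apply cent_of_cent_normal H N hHp hNH (fun r _ m hm => hNn.conj_mem m hm r) y
        (fun r hr => hHn.conj_mem r hr y) hy1 _ r hyr hrp
      intro r' hr' hcomm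
      apply hy2 r' ⟨hr', _⟩
      apply Subgroup.mem_sup_left
      rw [Subgroup.mem_centralizer_iff]
      intro m hm
      exact (hcomm m hm).symm
    have hyH : y ∈ H := by
      apply hcent
      rw [Subgroup.mem_centralizer_iff]
      intro h hh
      exact (hy3 h hh).symm
    obtain ⟨j, hj⟩ := hHp ⟨y, hyH⟩
    have hj' : y ^ p ^ j = 1 := by simpa using congrArg Subtype.val hj
    exact Cfsg.Agent.Lib.helper1.eq_one_of_pow_coprime y (p ^ j) r hj' hyr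
      (Nat.Coprime.pow_left j hrp.symm)
  have hCtH : Ct ≤ H := hcore Ct hCtn hCtp
  intro g hg hgN
  apply hCtH
  refine Subgroup.mem_inf.2 ⟨hg, Subgroup.mem_comap.2 ?_⟩
  rw [Subgroup.mem_centralizer_iff]
  rintro _ ⟨h, hh, rfl⟩
  have h2 := (hmemN _).2 (hgN h hh)
  simp only [map_mul, map_inv] at h2
  have h3 : π g * π h = π g * π h * (π g)⁻¹ * (π h)⁻¹ * (π h * π g) := by group
  rw [h3, h2, one_mul]

/-- The inductive step: in the minimal configuration, `D*((C_P(N)N)/N)` is normal in `Γ/N`. -/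
theorem dstar_step_normal {Γ : Type u} [Group Γ] [Finite Γ] {p : ℕ} [Fact p.Prime] (hp2 : p ≠ 2)
    (P : Sylow p Γ) (H K : Subgroup Γ) [hHn : H.Normal] [hKn : K.Normal]
    (hHp : IsPGroup p H) (hHP : H ≤ P) (hcent : Subgroup.centralizer (H : Set Γ) ≤ H)
    (hcore : ∀ L : Subgroup Γ, L.Normal → IsPGroup p L → L ≤ H)
    (hKp : ∀ k ∈ K, ∀ n : ℕ, k ^ p ^ n = 1 → k ∈ H)
    (hKidx : ∃ a : ℕ, K.index = p ^ a)
    (hKc : ∀ a ∈ K, ∀ b ∈ K, a * b * a⁻¹ * b⁻¹ ∈ H)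
    (q : ℕ) (hq : q.Prime) (hqp : q ≠ p) (hKq : ∀ k ∈ K, ∃ n : ℕ, k ^ q ^ n ∈ H)
    (hmax : ∀ M : Subgroup Γ, (P : Subgroup Γ) ≤ M → M = P ∨ M = ⊤)
    (N : Subgroup Γ) [hNn : N.Normal] (hNP : N ≤ P) :
    (Cfsg.dStarOf ((((P : Subgroup Γ) ⊓ Subgroup.centralizer (N : Set Γ)) ⊔ N).map
      (QuotientGroup.mk' N))).Normal := by
  have hp : p.Prime := Fact.out
  have hNp : IsPGroup p ↥N := P.2.to_le hNP
  have hNH : N ≤ H := hcore N hNn hNp
  set C : Subgroup Γ := Subgroup.centralizer (N : Set Γ) with hC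
  haveI hCn : C.Normal := by rw [hC]; infer_instance
  set Γ₁ : Subgroup Γ := C ⊔ N with hΓ₁
  haveI hΓ₁n : Γ₁.Normal := by rw [hΓ₁]; infer_instance
  set T₁ : Subgroup Γ := ((P : Subgroup Γ) ⊓ C) ⊔ N with hT₁
  set π := QuotientGroup.mk' N with hπ
  have hπs : Function.Surjective π := QuotientGroup.mk'_surjective N
  have hT₁P : T₁ ≤ P := sup_le inf_le_left hNP
  have hT₁Γ : T₁ ≤ Γ₁ := sup_le_sup_right inf_le_right N
  have hmod : ∀ x ∈ (P : Subgroup Γ), x ∈ Γ₁ → x ∈ T₁ := by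
    intro x hxP hx
    obtain ⟨c, hc, n, hn, rfl⟩ := Subgroup.mem_sup_of_normal_right.mp hx
    have hcP : c ∈ (P : Subgroup Γ) := by
      have := (P : Subgroup Γ).mul_mem hxP ((P : Subgroup Γ).inv_mem (hNP hn))
      simpa using this
    exact Subgroup.mul_mem _ (Subgroup.mem_sup_left ⟨hcP, hc⟩) (Subgroup.mem_sup_right hn)
  by_cases hA : Γ₁ ⊓ K ≤ H
  · -- case A
    have hΓ₁p : IsPGroup p ↥Γ₁ := by
      obtain ⟨a, ha⟩ := hKidx
      rintro ⟨g, hg⟩
      have h1 : g ^ p ^ a ∈ K := by rw [← ha]; exact Subgroup.pow_index_mem K g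
      have h2 : g ^ p ^ a ∈ H := hA ⟨Γ₁.pow_mem hg _, h1⟩
      obtain ⟨j, hj⟩ := hHp ⟨_, h2⟩
      have hj' : (g ^ p ^ a) ^ p ^ j = 1 := by simpa using congrArg Subtype.val hj
      refine ⟨a + j, Subtype.ext ?_⟩
      show g ^ p ^ (a + j) = 1
      rw [pow_add, pow_mul]; exact hj'
    have hΓ₁H : Γ₁ ≤ H := hcore Γ₁ hΓ₁n hΓ₁p
    have hT₁eq : T₁ = Γ₁ := le_antisymm hT₁Γ (fun x hx => hmod x (hHP (hΓ₁H hx)) hx)
    rw [hT₁eq]
    haveI : (Γ₁.map π).Normal := Subgroup.Normal.map hΓ₁n _ hπs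
    exact dStarOf_normal _
  · -- case B
    haveI hΓKn : (Γ₁ ⊓ K).Normal := inferInstance
    have hsupP : (Γ₁ ⊓ K) ⊔ (P : Subgroup Γ) = ⊤ := by
      rcases hmax ((Γ₁ ⊓ K) ⊔ (P : Subgroup Γ)) le_sup_right with h1 | h1
      · exfalso
        apply hA
        intro k hk
        have hkP : k ∈ (P : Subgroup Γ) := by rw [← h1]; exact Subgroup.mem_sup_left hk
        obtain ⟨n, hn⟩ := P.2 ⟨k, hkP⟩
        exact hKp k hk.2 n (by simpa using congrArg Subtype.val hn)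
      · exact h1
    set Γb : Subgroup (Γ ⧸ N) := Γ₁.map π with hΓb
    set Tb : Subgroup (Γ ⧸ N) := T₁.map π with hTb
    have hTbΓb : Tb ≤ Γb := Subgroup.map_mono hT₁Γ
    set TX : Subgroup ↥Γb := Tb.subgroupOf Γb with hTX
    set QX : Subgroup ↥Γb := ((H ⊓ Γ₁).map π).subgroupOf Γb with hQX
    set KX : Subgroup ↥Γb := ((K ⊓ Γ₁).map π).subgroupOf Γb with hKX
    haveI hQXn : QX.Normal := by
      haveI : ((H ⊓ Γ₁).map π).Normal := Subgroup.Normal.map inferInstance _ hπs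
      rw [hQX]; infer_instance
    haveI hKXn : KX.Normal := by
      haveI : ((K ⊓ Γ₁).map π).Normal := Subgroup.Normal.map inferInstance _ hπs
      rw [hKX]; infer_instance
    have hTXp : IsPGroup p ↥TX := by
      have h1 : IsPGroup p ↥Tb := (P.2.to_le hT₁P).map π
      exact h1.comap_of_injective Γb.subtype Γb.subtype_injective
    have hQT : QX ≤ TX := by
      intro x hx
      rw [hQX, Subgroup.mem_subgroupOf] at hx
      rw [hTX, Subgroup.mem_subgroupOf]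
      obtain ⟨h, hh, hhx⟩ := hx
      exact ⟨h, hmod h (hHP hh.1) hh.2, hhx⟩
    have hcentX : Subgroup.centralizer (QX : Set ↥Γb) ≤ QX := by
      intro x hx
      obtain ⟨g, hg, hgx⟩ := x.2
      rw [hQX, Subgroup.mem_subgroupOf]
      have hgH : g ∈ H := by
        apply mem_of_cent_section H N hHp hNH hcent hcore g hg
        intro h hh
        have hmem : (⟨π h, Subgroup.mem_map_of_mem _ hh.2⟩ : ↥Γb) ∈ QX := by
          rw [hQX, Subgroup.mem_subgroupOf]; exact Subgroup.mem_map_of_mem _ hh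
        have h2 := Subgroup.mem_centralizer_iff.1 hx _ hmem
        have h3 : π h * π g = π g * π h := by
          have h4 := congrArg Subtype.val h2
          rw [Subgroup.coe_mul, Subgroup.coe_mul, ← hgx] at h4
          exact h4
        rw [← QuotientGroup.eq_one_iff]
        show π (g * h * g⁻¹ * h⁻¹) = 1
        simp only [map_mul, map_inv]
        rw [← h3]; group
      rw [← hgx]
      exact Subgroup.mem_map_of_mem _ ⟨hgH, hg⟩
    have hKcX : ∀ x ∈ KX, ∀ y ∈ KX, x * y * x⁻¹ * y⁻¹ ∈ QX := by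
      intro x hx y hy
      rw [hKX, Subgroup.mem_subgroupOf] at hx hy
      obtain ⟨k₁, hk₁, e₁⟩ := hx
      obtain ⟨k₂, hk₂, e₂⟩ := hy
      rw [hQX, Subgroup.mem_subgroupOf]
      refine ⟨k₁ * k₂ * k₁⁻¹ * k₂⁻¹, ⟨hKc k₁ hk₁.1 k₂ hk₂.1,
        Γ₁.mul_mem (Γ₁.mul_mem (Γ₁.mul_mem hk₁.2 hk₂.2) (Γ₁.inv_mem hk₁.2)) (Γ₁.inv_mem hk₂.2)⟩, ?_⟩
      simp only [map_mul, map_inv, e₁, e₂, Subgroup.coe_mul, Subgroup.coe_inv]
    have hKqX : ∀ k ∈ KX, ∃ n : ℕ, k ^ q ^ n ∈ QX := by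
      intro x hx
      rw [hKX, Subgroup.mem_subgroupOf] at hx
      obtain ⟨k, hk, e⟩ := hx
      obtain ⟨n, hn⟩ := hKq k hk.1
      refine ⟨n, ?_⟩
      rw [hQX, Subgroup.mem_subgroupOf]
      exact ⟨k ^ q ^ n, ⟨hn, Γ₁.pow_mem hk.2 _⟩, by rw [map_pow, e, Subgroup.coe_pow]⟩
    have hKpX : ∀ k ∈ KX, ∀ n : ℕ, k ^ p ^ n = 1 → k ∈ QX := by
      intro x hx n hxn
      rw [hKX, Subgroup.mem_subgroupOf] at hx
      obtain ⟨k, hk, e⟩ := hx
      have h1 : π (k ^ p ^ n) = 1 := by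
        rw [map_pow, e]
        have := congrArg Subtype.val hxn
        simpa using this
      have h2 : k ^ p ^ n ∈ N := (QuotientGroup.eq_one_iff _).1 h1
      obtain ⟨j, hj⟩ := hNp ⟨_, h2⟩
      have hj' : (k ^ p ^ n) ^ p ^ j = 1 := by simpa using congrArg Subtype.val hj
      have hkH : k ∈ H := hKp k hk.1 (n + j) (by rw [pow_add, pow_mul]; exact hj')
      rw [hQX, Subgroup.mem_subgroupOf]
      exact ⟨k, ⟨hkH, hk.2⟩, e⟩
    have hsupX : KX ⊔ TX = ⊤ := by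
      rw [eq_top_iff]
      intro x _
      obtain ⟨g, hg, hgx⟩ := x.2
      have h1 : g ∈ (Γ₁ ⊓ K) ⊔ (P : Subgroup Γ) := by rw [hsupP]; exact Subgroup.mem_top g
      obtain ⟨k, hk, s, hs, rfl⟩ := Subgroup.mem_sup_of_normal_left.mp h1
      have hsΓ : s ∈ Γ₁ := by
        have := Γ₁.mul_mem (Γ₁.inv_mem hk.1) hg
        simpa using this
      have hsT : s ∈ T₁ := hmod s hs hsΓ
      have hkX : (⟨π k, Subgroup.mem_map_of_mem _ hk.1⟩ : ↥Γb) ∈ KX := by
        rw [hKX, Subgroup.mem_subgroupOf]; exact Subgroup.mem_map_of_mem _ ⟨hk.2, hk.1⟩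
      have hsX : (⟨π s, Subgroup.mem_map_of_mem _ hsΓ⟩ : ↥Γb) ∈ TX := by
        rw [hTX, Subgroup.mem_subgroupOf]; exact Subgroup.mem_map_of_mem _ hsT
      have hx : x = (⟨π k, Subgroup.mem_map_of_mem _ hk.1⟩ : ↥Γb) *
          (⟨π s, Subgroup.mem_map_of_mem _ hsΓ⟩ : ↥Γb) := by
        apply Subtype.ext
        rw [← hgx, map_mul]; rfl
      rw [hx]
      exact Subgroup.mul_mem _ (Subgroup.mem_sup_left hkX) (Subgroup.mem_sup_right hsX)
    have hXn := dStarOf_normal_of_struct hp2 TX QX KX hTXp hQT hcentX hKcX q hq hqp hKqX hKpX hsupX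
    have hTXmap : TX.map Γb.subtype = Tb := Subgroup.map_subgroupOf_eq_of_le hTbΓb
    have hD : Cfsg.dStarOf Tb = (Cfsg.dStarOf TX).map Γb.subtype := by
      rw [← hTXmap]; exact dStarOf_map Γb.subtype Γb.subtype_injective TX
    constructor
    intro d hd gb
    obtain ⟨g, rfl⟩ := hπs gb
    have h1 : g ∈ (Γ₁ ⊓ K) ⊔ (P : Subgroup Γ) := by rw [hsupP]; exact Subgroup.mem_top g
    obtain ⟨k, hk, s, hs, rfl⟩ := Subgroup.mem_sup_of_normal_left.mp h1
    have hconjT : ∀ s' ∈ (P : Subgroup Γ), ∀ m ∈ Tb, π s' * m * (π s')⁻¹ ∈ Tb := by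
      rintro s' hs' _ ⟨t, ht, rfl⟩
      refine ⟨s' * t * s'⁻¹, ?_, by simp⟩
      exact hmod _ ((P : Subgroup Γ).mul_mem ((P : Subgroup Γ).mul_mem hs' (hT₁P ht))
        ((P : Subgroup Γ).inv_mem hs')) (hΓ₁n.conj_mem t (hT₁Γ ht) s')
    have hs1 : π s * d * (π s)⁻¹ ∈ Cfsg.dStarOf Tb := by
      apply dStarOf_conj Tb (π s) (hconjT s hs) _ d hd
      intro m hm
      have := hconjT s⁻¹ ((P : Subgroup Γ).inv_mem hs) m hm
      simpa using this
    rw [hD] at hs1 ⊢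
    obtain ⟨d', hd', hd'e⟩ := hs1
    have h5 := hXn.conj_mem d' hd' ⟨π k, Subgroup.mem_map_of_mem _ hk.1⟩
    refine ⟨_, h5, ?_⟩
    have h6 : Γb.subtype d' = π s * d * (π s)⁻¹ := hd'e
    simp only [map_mul, map_inv, h6]
    show π k * (π s * d * (π s)⁻¹) * (π k)⁻¹ = π k * π s * d * (π k * π s)⁻¹
    group

end Cfsg.Agent.Lib.helper14
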