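import Cfsg.Agent.Lib.helper14.DStarK3

set_option autoImplicit false
set_option linter.style.haveILetI false
set_option linter.unusedVariables false
set_option linter.unusedSectionVars false

namespace Cfsg.Agent.Lib.helper14

open Cfsg
open scoped commutatorElement

universe u

/-- Transport of one step from the Sylow subgroup (as a type) to the ambient group. -/
theorem dStep_map_subtype {Γ : Type*} [Group Γ] (P : Subgroup Γ) (NP : Subgroup ↥P)
    [hNPn : NP.Normal] [hNn : (NP.map P.subtype).Normal] :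
    (dStep NP).map P.subtype =
      (Cfsg.dStarOf (((P ⊓ Subgroup.centralizer ((NP.map P.subtype : Subgroup Γ) : Set Γ)) ⊔
        NP.map P.subtype).map (QuotientGroup.mk' (NP.map P.subtype)))).comap
        (QuotientGroup.mk' (NP.map P.subtype)) := by
  set N : Subgroup Γ := NP.map P.subtype with hN
  have hNP : N ≤ P := Subgroup.map_subtype_le _
  have hmemN : ∀ x : ↥P, (x : Γ) ∈ N ↔ x ∈ NP := by
    intro x
    constructor
    · rintro ⟨y, hy, hyx⟩
      have : y = x := Subtype.ext hyx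
      rw [← this]; exact hy
    · intro hx
      exact ⟨x, hx, rfl⟩
  have hle : NP ≤ N.comap P.subtype := fun x hx => (hmemN x).2 hx
  set j : ↥P ⧸ NP →* Γ ⧸ N := QuotientGroup.map NP N P.subtype hle with hj
  have hjmk : ∀ x : ↥P, j (QuotientGroup.mk' NP x) = QuotientGroup.mk' N (x : Γ) := fun x => rfl
  have hjinj : Function.Injective j := by
    rw [injective_iff_map_eq_one]
    intro y hy
    obtain ⟨x, rfl⟩ := QuotientGroup.mk'_surjective NP y
    rw [hjmk] at hy
    have h1 : (x : Γ) ∈ N := (QuotientGroup.eq_one_iff _).1 hy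
    exact (QuotientGroup.eq_one_iff x).2 ((hmemN x).1 h1)
  have hcent : (Subgroup.centralizer (NP : Set ↥P)).map P.subtype =
      P ⊓ Subgroup.centralizer (N : Set Γ) := by
    ext x
    constructor
    · rintro ⟨y, hy, rfl⟩
      refine Subgroup.mem_inf.2 ⟨y.2, ?_⟩
      rw [Subgroup.mem_centralizer_iff]
      rintro _ ⟨n, hn, rfl⟩
      have := Subgroup.mem_centralizer_iff.1 hy n hn
      exact congrArg Subtype.val this
    · rintro ⟨hxP, hxC⟩
      have hmem : (⟨x, hxP⟩ : ↥P) ∈ Subgroup.centralizer (NP : Set ↥P) := by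
        rw [Subgroup.mem_centralizer_iff]
        intro n hn
        apply Subtype.ext
        exact Subgroup.mem_centralizer_iff.1 hxC (n : Γ) ((hmemN n).2 hn)
      exact ⟨⟨x, hxP⟩, hmem, rfl⟩
  have hM : ((P ⊓ Subgroup.centralizer (N : Set Γ)) ⊔ N).map (QuotientGroup.mk' N) =
      (((Subgroup.centralizer (NP : Set ↥P)) ⊔ NP).map (QuotientGroup.mk' NP)).map j := by
    have e : (Subgroup.centralizer (NP : Set ↥P)).map P.subtype ⊔ N =
        ((Subgroup.centralizer (NP : Set ↥P)) ⊔ NP).map P.subtype := (Subgroup.map_sup _ _ _).symm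
    rw [← hcent, e, Subgroup.map_map, Subgroup.map_map]
    congr 1
  rw [hM, dStarOf_map j hjinj, dStep_eq]
  ext x
  constructor
  · rintro ⟨y, hy, rfl⟩
    have hy' : QuotientGroup.mk' NP y ∈ Cfsg.dStarOf (((Subgroup.centralizer (NP : Set ↥P)) ⊔
      NP).map (QuotientGroup.mk' NP)) := hy
    rw [Subgroup.mem_comap]
    exact ⟨_, hy', hjmk y⟩
  · intro hx
    rw [Subgroup.mem_comap] at hx
    obtain ⟨z, hz, hzx⟩ := hx
    obtain ⟨y, rfl⟩ := QuotientGroup.mk'_surjective NP z
    rw [hjmk] at hzx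
    have hzx' : QuotientGroup.mk' N (y : Γ) = QuotientGroup.mk' N x := hzx
    have h1 : (y : Γ)⁻¹ * x ∈ N := by
      rw [← QuotientGroup.eq_one_iff]
      show QuotientGroup.mk' N ((y : Γ)⁻¹ * x) = 1
      rw [map_mul, map_inv, hzx']; group
    have hxP : x ∈ P := by
      have := P.mul_mem y.2 (hNP h1)
      simpa using this
    have hmem : (⟨x, hxP⟩ : ↥P) ∈ (Cfsg.dStarOf (((Subgroup.centralizer (NP : Set ↥P)) ⊔
        NP).map (QuotientGroup.mk' NP))).comap (QuotientGroup.mk' NP) := by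
      rw [Subgroup.mem_comap]
      have h2 : j (QuotientGroup.mk' NP ⟨x, hxP⟩) = j (QuotientGroup.mk' NP y) := by
        rw [hjmk, hjmk]; exact hzx'.symm
      rw [hjinj h2]
      exact hz
    exact ⟨⟨x, hxP⟩, hmem, rfl⟩

/-- In the minimal configuration every term of the iteration on the Sylow subgroup is normal
in the whole group. -/
theorem dIter_normal_mincex {Γ : Type u} [Group Γ] [Finite Γ] {p : ℕ} [Fact p.Prime] (hp2 : p ≠ 2)
    (P : Sylow p Γ) (H K : Subgroup Γ) [hHn : H.Normal] [hKn : K.Normal]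
    (hHp : IsPGroup p H) (hHP : H ≤ P) (hcent : Subgroup.centralizer (H : Set Γ) ≤ H)
    (hcore : ∀ L : Subgroup Γ, L.Normal → IsPGroup p L → L ≤ H)
    (hKp : ∀ k ∈ K, ∀ n : ℕ, k ^ p ^ n = 1 → k ∈ H)
    (hKidx : ∃ a : ℕ, K.index = p ^ a)
    (hKc : ∀ a ∈ K, ∀ b ∈ K, a * b * a⁻¹ * b⁻¹ ∈ H)
    (q : ℕ) (hq : q.Prime) (hqp : q ≠ p) (hKq : ∀ k ∈ K, ∃ n : ℕ, k ^ q ^ n ∈ H)
    (hmax : ∀ M : Subgroup Γ, (P : Subgroup Γ) ≤ M → M = P ∨ M = ⊤) (n : ℕ) :
    (((dStep^[n]) (⊥ : Subgroup ↥(P : Subgroup Γ))).map (P : Subgroup Γ).subtype).Normal := by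
  induction n with
  | zero =>
    rw [Function.iterate_zero, id, Subgroup.map_bot]
    exact Subgroup.normal_bot
  | succ n ih =>
    rw [Function.iterate_succ_apply']
    haveI := dIter_normal (Q := ↥(P : Subgroup Γ)) n
    haveI := ih
    rw [dStep_map_subtype]
    haveI := dstar_step_normal hp2 P H K hHp hHP hcent hcore hKp hKidx hKc q hq hqp hKq hmax
      (((dStep^[n]) (⊥ : Subgroup ↥(P : Subgroup Γ))).map (P : Subgroup Γ).subtype)
      (Subgroup.map_subtype_le _)
    exact Subgroup.Normal.comap inferInstance _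

end Cfsg.Agent.Lib.helper14
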