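import Cfsg.Agent.Lib.helper14.DStarK4
import Cfsg.Agent.S0072

set_option autoImplicit false
set_option linter.style.haveILetI false
set_option linter.unusedVariables false
set_option linter.unusedSectionVars false

namespace Cfsg.Agent.Lib.helper14

open Cfsg
open scoped commutatorElement

universe u

/-- A `p`-subgroup of a subgroup `N` containing a Sylow `p`-subgroup `P` of the whole group
is conjugate into `P` by an element of `N`. -/
theorem exists_conj_mem_sylow_of_le {G : Type*} [Group G] [Finite G] {p : ℕ} [Fact p.Prime]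
    (P : Sylow p G) (N R : Subgroup G) (hPN : (P : Subgroup G) ≤ N) (hRN : R ≤ N)
    (hR : IsPGroup p R) : ∃ n ∈ N, ∀ r ∈ R, n * r * n⁻¹ ∈ (P : Subgroup G) := by
  have hRp : IsPGroup p ↥(R.subgroupOf N) := hR.comap_of_injective N.subtype N.subtype_injective
  obtain ⟨S', hS'⟩ := hRp.exists_le_sylow
  obtain ⟨g, hg⟩ := MulAction.exists_smul_eq ↥N S' (P.subtype hPN)
  refine ⟨g, g.2, ?_⟩
  intro r hr
  have h1 : (⟨r, hRN hr⟩ : ↥N) ∈ (S' : Subgroup ↥N) := hS' (Subgroup.mem_subgroupOf.2 hr)
  have h2 := Subgroup.smul_mem_pointwise_smul _ (MulAut.conj g) (S' : Subgroup ↥N) h1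
  rw [← Sylow.coe_subgroup_smul, hg, Sylow.coe_subtype, Subgroup.mem_subgroupOf] at h2
  simpa [MulAut.smul_def] using h2

/-- The characteristic subgroup `dK` decides the existence of a normal `p`-complement. -/
theorem dK_npc_iff {G : Type u} [Group G] [Finite G] {p : ℕ} [Fact p.Prime] (hp2 : p ≠ 2)
    (P : Sylow p G) :
    Cfsg.HasNormalPComplement p G ↔
      ∀ g ∈ Subgroup.normalizer ((((dK ↥(P : Subgroup G)).map (P : Subgroup G).subtype :
          Subgroup G)) : Set G), (orderOf g).Coprime p →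
        g ∈ Subgroup.centralizer ((((dK ↥(P : Subgroup G)).map (P : Subgroup G).subtype :
          Subgroup G)) : Set G) := by
  set KG : Subgroup G := (dK ↥(P : Subgroup G)).map (P : Subgroup G).subtype with hKG
  have hKGP : KG ≤ (P : Subgroup G) := Subgroup.map_subtype_le _
  have hKGp : IsPGroup p ↥KG := P.2.to_le hKGP
  constructor
  · intro h
    obtain ⟨K, hKn, hKc, a, ha⟩ := (Cfsg.Agent.S0072.hasNormalPComplement_iff p).1 h
    haveI := hKn
    have hF := Cfsg.Agent.Lib.lead.frob_of_core K hKc ha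
    exact fun g hg hcop => hF KG hKGp g hg hcop
  · intro hyp
    set N : Subgroup G := Subgroup.normalizer (KG : Set G) with hN
    have hKGN : KG ≤ N := Subgroup.le_normalizer
    haveI hdKn : (dK ↥(P : Subgroup G)).Normal := by
      haveI := dK_characteristic ↥(P : Subgroup G)
      infer_instance
    have hPN : (P : Subgroup G) ≤ N := by
      intro x hx
      rw [hN, Subgroup.mem_normalizer_iff]
      intro k
      constructor
      · rintro ⟨d, hd, rfl⟩
        exact ⟨⟨x, hx⟩ * d * ⟨x, hx⟩⁻¹, hdKn.conj_mem d hd _, rfl⟩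
      · rintro ⟨d, hd, hdk⟩
        refine ⟨⟨x, hx⟩⁻¹ * d * ⟨x, hx⟩, ?_, ?_⟩
        · have := hdKn.conj_mem d hd ⟨x, hx⟩⁻¹
          simpa using this
        · have : (P : Subgroup G).subtype (⟨x, hx⟩⁻¹ * d * ⟨x, hx⟩) = x⁻¹ * (d : G) * x := rfl
          rw [this]
          have hdk' : (d : G) = x * k * x⁻¹ := hdk
          rw [hdk']; group
    have hconjN : ∀ n ∈ N, ∀ m ∈ KG, n * m * n⁻¹ ∈ KG := fun n hn m hm =>
      (Subgroup.mem_normalizer_iff.1 hn m).1 hm
    -- C_P(KG) ≤ KG
    have hcP : ∀ x ∈ (P : Subgroup G), (∀ m ∈ KG, x * m = m * x) → x ∈ KG := by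
      intro x hx hcomm
      have h1 : (⟨x, hx⟩ : ↥(P : Subgroup G)) ∈
          Subgroup.centralizer (dK ↥(P : Subgroup G) : Set ↥(P : Subgroup G)) := by
        rw [Subgroup.mem_centralizer_iff]
        intro d hd
        apply Subtype.ext
        exact (hcomm (d : G) ⟨d, hd, rfl⟩).symm
      exact ⟨⟨x, hx⟩, centralizer_dK_le P.2 h1, rfl⟩
    have hFN : Cfsg.Agent.Lib.lead.Frob p ↥N := by
      intro Q hQ g hg hcop
      have hgc : (g : G) ∈ Subgroup.centralizer (KG : Set G) := by
        apply hyp (g : G) g.2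
        rwa [Subgroup.orderOf_coe]
      set Q' : Subgroup G := Q.map N.subtype with hQ'
      have hQ'N : Q' ≤ N := Subgroup.map_subtype_le _
      have hQ'p : IsPGroup p ↥Q' := hQ.map N.subtype
      set R : Subgroup G := Q' ⊔ KG with hR
      have hRN : R ≤ N := sup_le hQ'N hKGN
      have hRp : IsPGroup p ↥R := IsPGroup.to_sup_of_normal_right' hQ'p hKGp hQ'N
      have hyR : ∀ r ∈ R, (g : G) * r * (g : G)⁻¹ ∈ R := by
        have h1 : R.map (MulAut.conj (g : G)).toMonoidHom ≤ R := by
          rw [hR, Subgroup.map_sup]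
          apply sup_le_sup
          · rintro _ ⟨_, ⟨q, hq, rfl⟩, rfl⟩
            exact ⟨g * q * g⁻¹, (Subgroup.mem_normalizer_iff.1 hg q).1 hq, rfl⟩
          · rintro _ ⟨m, hm, rfl⟩
            exact hconjN _ g.2 m hm
        intro r hr
        exact h1 ⟨r, hr, rfl⟩
      have hyM : ∀ m ∈ KG, (g : G) * m = m * (g : G) := fun m hm =>
        (Subgroup.mem_centralizer_iff.1 hgc m hm).symm
      have hyC : ∀ r ∈ R, (∀ m ∈ KG, r * m = m * r) → (g : G) * r = r * (g : G) := by
        intro r hr hcomm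
        apply hyM
        obtain ⟨n, hn, hnR⟩ := exists_conj_mem_sylow_of_le P N R hPN hRN hRp
        have h1 : n * r * n⁻¹ ∈ KG := by
          apply hcP _ (hnR r hr)
          intro m hm
          have hm' : n⁻¹ * m * n ∈ KG := by
            have := hconjN n⁻¹ (N.inv_mem hn) m hm
            simpa using this
          have h2 := hcomm _ hm'
          calc n * r * n⁻¹ * m = n * (r * (n⁻¹ * m * n)) * n⁻¹ := by group
            _ = n * ((n⁻¹ * m * n) * r) * n⁻¹ := by rw [h2]
            _ = m * (n * r * n⁻¹) := by group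
        have h3 := hconjN n⁻¹ (N.inv_mem hn) _ h1
        have e : n⁻¹ * (n * r * n⁻¹) * n⁻¹⁻¹ = r := by group
        rwa [e] at h3
      have hall := cent_of_cent_normal R KG hRp le_sup_right
        (fun r hr m hm => hconjN r (hRN hr) m hm) (g : G) hyR hyM hyC (orderOf (g : G))
        (pow_orderOf_eq_one _) (by rwa [Subgroup.orderOf_coe])
      rw [Subgroup.mem_centralizer_iff]
      intro q hq
      apply Subtype.ext
      have := hall (q : G) (Subgroup.mem_sup_left ⟨q, hq, rfl⟩)
      exact this.symm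
    have hNnpc : Cfsg.HasNormalPComplement p ↥N := by
      obtain ⟨PN⟩ : Nonempty (Sylow p ↥N) := inferInstance
      obtain ⟨M, hMn, hMc⟩ := Cfsg.Agent.Lib.lead.frob_complement hFN PN
      exact ⟨PN, M, hMn, hMc⟩
    refine functor_npc_of_final (fun (Q : Type u) [Group Q] => dK Q) (dK_isCharPFunctor p) P hNnpc ?_
    intro G' _ _ P' H K h
    haveI := h.H_normal
    haveI := h.K_normal
    obtain ⟨q, hq, hqp, hKq⟩ := h.K_q
    have hnorm := dIter_normal_mincex hp2 P' H K h.H_pgroup h.H_le_P h.cent_le h.core h.K_p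
      h.K_index h.K_comm q hq hqp hKq h.P_max (Nat.card ↥(P' : Subgroup G'))
    have h1 := h.norm₁
    have hWF := WF_apply (p := p) (X := G') (fun (Q : Type u) [Group Q] => dK Q)
      (dK_isCharPFunctor p) (P' : Subgroup G') P'.2
    rw [hWF] at h1
    have h2 : Subgroup.normalizer ((Cfsg.inducedFunctor (fun (Q : Type u) [Group Q] => dK Q)
        (P' : Subgroup G') : Subgroup G') : Set G') = ⊤ := by
      have hn' : (Cfsg.inducedFunctor (fun (Q : Type u) [Group Q] => dK Q)
        (P' : Subgroup G')).Normal := hnorm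
      exact Subgroup.normalizer_eq_top_iff.mpr hn'
    rw [h2] at h1
    exact h.P_ne_top h1.symm

end Cfsg.Agent.Lib.helper14
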