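import Mathlib
import Cfsg.Prelude.Def_PLocal
import Cfsg.Prelude.Def_Transfer
import Cfsg.Agent.Lib.helper3.FFMin
import Cfsg.Agent.Lib.helper3.SL23Struct
import Cfsg.Agent.Lib.helper7.Sup
import Cfsg.Agent.Lib.helper10.LocalGlobal2
import Cfsg.Agent.Lib.helper14.Quadratic
import Cfsg.Agent.Lib.helper14.PStabQuot

/-!
# Failure of factorization: a transvection and a conjugate generate `SL₂(p)` (library, helper14)
-/

set_option autoImplicit false
set_option linter.style.haveILetI false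
set_option linter.unusedVariables false
set_option linter.unusedSectionVars false

namespace Cfsg.Agent.Lib.helper14

open scoped commutatorElement

/-- A finite group acting faithfully on an elementary abelian subgroup of order `p²` and generated
by elements of order dividing `p` embeds in `SL₂(p)`. -/
theorem exists_embed_sl2 {G : Type*} [Group G] [Finite G] {p : ℕ} [Fact p.Prime] (W L : Subgroup G)
    (hW : Cfsg.IsElementaryAbelian p W) (hcard : Nat.card W = p ^ 2)
    (hLW : L ≤ Subgroup.normalizer (W : Set G)) (hf : L ⊓ Subgroup.centralizer (W : Set G) = ⊥)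
    (S : Set G) (hS : L = Subgroup.closure S) (hSp : ∀ s ∈ S, s ^ p = 1) :
    ∃ φ : ↥L →* Matrix.SpecialLinearGroup (Fin 2) (ZMod p), Function.Injective φ := by
  classical
  have hp : p.Prime := Fact.out
  letI : CommGroup ↥W :=
    { (inferInstance : Group ↥W) with mul_comm := fun u v => hW.1.is_comm.comm u v }
  obtain ⟨α, hα⟩ : ∃ α : ↥L →* MulAut ↥W,
      ∀ (h : ↥L) (v : ↥W), ((α h v : ↥W) : G) = (h : G) * v * (h : G)⁻¹ :=
    ⟨(Subgroup.normalizerMonoidHom W).comp (Subgroup.inclusion hLW), fun h v => rfl⟩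
  have hexp : ∀ v : ↥W, v ^ p = 1 := fun v =>
    Subtype.ext (by rw [Subgroup.coe_pow]; exact hW.2 v v.2)
  have hA : ∀ x : Additive ↥W, p • x = 0 := fun x => congrArg Additive.ofMul (hexp x.toMul)
  haveI : Module (ZMod p) (Additive ↥W) := AddCommGroup.zmodModule hA
  obtain ⟨ρ, hρ⟩ : ∃ ρ : ↥L →* Module.End (ZMod p) (Additive ↥W),
      ∀ (g : ↥L) (x : Additive ↥W), ρ g x = Additive.ofMul (α g x.toMul) := by
    refine ⟨{ toFun := fun g => (MonoidHom.toAdditive (α g).toMonoidHom).toZModLinearMap p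
              map_one' := ?_
              map_mul' := ?_ }, fun g x => rfl⟩
    · apply LinearMap.ext
      intro x
      show Additive.ofMul (α 1 x.toMul) = x
      rw [map_one]
      rfl
    · intro g h
      apply LinearMap.ext
      intro x
      show Additive.ofMul (α (g * h) x.toMul) = Additive.ofMul (α g (α h x.toMul))
      rw [map_mul]
      rfl
  haveI : Finite (Additive ↥W) := inferInstanceAs (Finite ↥W)
  have hfin : Module.finrank (ZMod p) (Additive ↥W) = 2 := by
    letI : Fintype (Additive ↥W) := Fintype.ofFinite _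
    have h1 : Fintype.card (Additive ↥W) = p ^ 2 := by
      rw [← Nat.card_eq_fintype_card]; exact hcard
    have h2 := Module.card_eq_pow_finrank (K := ZMod p) (V := Additive ↥W)
    rw [ZMod.card, h1] at h2
    exact (Nat.pow_right_injective hp.two_le h2).symm
  obtain ⟨bas⟩ : Nonempty (Module.Basis (Fin 2) (ZMod p) (Additive ↥W)) :=
    ⟨Module.finBasisOfFinrankEq (ZMod p) (Additive ↥W) hfin⟩
  obtain ⟨M, hM⟩ : ∃ M : ↥L →* Matrix (Fin 2) (Fin 2) (ZMod p),
      ∀ g : ↥L, M g = LinearMap.toMatrixAlgEquiv bas (ρ g) :=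
    ⟨(MonoidHomClass.toMonoidHom (LinearMap.toMatrixAlgEquiv bas)).comp ρ, fun g => rfl⟩
  have hdet : ∀ g : ↥L, (M g).det = 1 := by
    have key : ∀ x ∈ Subgroup.closure S, ∀ hx : x ∈ L, (M ⟨x, hx⟩).det = 1 := by
      intro x hx
      induction hx using Subgroup.closure_induction with
      | mem s hs =>
        intro hsL
        have h1 : (⟨s, hsL⟩ : ↥L) ^ p = 1 := Subtype.ext (by rw [Subgroup.coe_pow]; exact hSp s hs)
        have h2 : (M ⟨s, hsL⟩).det ^ p = 1 := by
          rw [← Matrix.det_pow, ← map_pow, h1, map_one, Matrix.det_one]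
        rw [ZMod.pow_card] at h2
        exact h2
      | one =>
        intro h1
        have : (⟨1, h1⟩ : ↥L) = 1 := rfl
        rw [this, map_one, Matrix.det_one]
      | mul y z hy hz ihy ihz =>
        intro hyz
        have hyL : y ∈ L := by rw [hS]; exact hy
        have hzL : z ∈ L := by rw [hS]; exact hz
        have : (⟨y * z, hyz⟩ : ↥L) = ⟨y, hyL⟩ * ⟨z, hzL⟩ := rfl
        rw [this, map_mul, Matrix.det_mul, ihy hyL, ihz hzL, one_mul]
      | inv y hy ihy =>
        intro hyi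
        have hyL : y ∈ L := by rw [hS]; exact hy
        have h3 : M ⟨y, hyL⟩ * M ⟨y⁻¹, hyi⟩ = 1 := by
          rw [← map_mul]
          have : (⟨y, hyL⟩ : ↥L) * ⟨y⁻¹, hyi⟩ = 1 := Subtype.ext (mul_inv_cancel y)
          rw [this, map_one]
        have h4 := congrArg Matrix.det h3
        rw [Matrix.det_mul, ihy hyL, one_mul, Matrix.det_one] at h4
        exact h4
    intro g
    exact key (g : G) (by rw [← hS]; exact g.2) g.2
  refine ⟨{ toFun := fun g => ⟨M g, hdet g⟩
            map_one' := Subtype.ext (map_one M)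
            map_mul' := fun g h => Subtype.ext (map_mul M g h) }, ?_⟩
  rw [injective_iff_map_eq_one]
  intro g hg
  have h1 : M g = 1 := congrArg Subtype.val hg
  have h2 : ρ g = 1 := by
    rw [hM] at h1
    have h1' : LinearMap.toMatrixAlgEquiv bas (ρ g) = LinearMap.toMatrixAlgEquiv bas 1 := by
      rw [h1, map_one]
    exact (LinearMap.toMatrixAlgEquiv bas).injective h1'
  have h3 : (g : G) ∈ L ⊓ Subgroup.centralizer (W : Set G) := by
    refine ⟨g.2, ?_⟩
    show (g : G) ∈ Subgroup.centralizer (W : Set G)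
    rw [Subgroup.mem_centralizer_iff]
    intro v hv
    have h4 := hρ g (Additive.ofMul (⟨v, hv⟩ : ↥W))
    rw [h2] at h4
    have h5 : (⟨v, hv⟩ : ↥W) = α g ⟨v, hv⟩ := congrArg Additive.toMul h4
    have h6 := congrArg Subtype.val h5
    rw [hα] at h6
    have h7 : v = (g : G) * v * (g : G)⁻¹ := h6
    calc v * (g : G) = ((g : G) * v * (g : G)⁻¹) * (g : G) := by rw [← h7]
      _ = (g : G) * v := by group
  rw [hf, Subgroup.mem_bot] at h3
  exact Subtype.ext h3

theorem card_sl2_zmod2 : Nat.card (Matrix.SpecialLinearGroup (Fin 2) (ZMod 2)) = 6 := by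
  rw [Nat.card_eq_fintype_card]
  decide

theorem conj_pow_of_commute_commutator {G : Type*} [Group G] (g v : G)
    (h : g * (g * v * g⁻¹ * v⁻¹) = (g * v * g⁻¹ * v⁻¹) * g) (n : ℕ) :
    g ^ n * v * (g ^ n)⁻¹ = (g * v * g⁻¹ * v⁻¹) ^ n * v := by
  induction n with
  | zero => simp
  | succ n ih =>
    have hc : Commute g ((g * v * g⁻¹ * v⁻¹) ^ n) :=
      (show Commute g (g * v * g⁻¹ * v⁻¹) from h).pow_right n
    calc g ^ (n + 1) * v * (g ^ (n + 1))⁻¹ = g * (g ^ n * v * (g ^ n)⁻¹) * g⁻¹ := by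
          rw [pow_succ', mul_inv_rev]; simp only [mul_assoc]
      _ = g * ((g * v * g⁻¹ * v⁻¹) ^ n * v) * g⁻¹ := by rw [ih]
      _ = (g * (g * v * g⁻¹ * v⁻¹) ^ n) * v * g⁻¹ := by simp only [mul_assoc]
      _ = ((g * v * g⁻¹ * v⁻¹) ^ n * g) * v * g⁻¹ := by rw [hc.eq]
      _ = (g * v * g⁻¹ * v⁻¹) ^ n * (g * v * g⁻¹ * v⁻¹) * v := by
          simp only [mul_assoc, inv_mul_cancel, mul_one]
      _ = (g * v * g⁻¹ * v⁻¹) ^ (n + 1) * v := by rw [pow_succ]

theorem le_normalizer_commutator_right' {G : Type*} [Group G] (V K : Subgroup G) :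
    K ≤ Subgroup.normalizer ((⁅V, K⁆ : Subgroup G) : Set G) := by
  rw [Subgroup.commutator_comm]
  exact le_normalizer_commutator_left K V

/-- An element of prime order `p` centralizes its commutator with `V` when that has order `p`. -/
theorem commute_of_card_commutator_prime {G : Type*} [Group G] [Finite G] {p : ℕ} [Fact p.Prime]
    (V : Subgroup G) (a : G) (hap : orderOf a = p)
    (hcomm : Nat.card ↥(⁅V, Subgroup.zpowers a⁆) = p) :
    ∀ u ∈ ⁅V, Subgroup.zpowers a⁆, a * u = u * a := by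
  have hp : p.Prime := Fact.out
  intro u hu
  have hAX : Subgroup.zpowers a ≤ Subgroup.normalizer ((⁅V, Subgroup.zpowers a⁆ : Subgroup G) : Set G) :=
    le_normalizer_commutator_right' V (Subgroup.zpowers a)
  have hcardA : Nat.card (Subgroup.zpowers a) = p := by rw [Nat.card_zpowers, hap]
  have h2 := Cfsg.Agent.Lib.helper7.card_sup_dvd_of_le_normalizer (⁅V, Subgroup.zpowers a⁆)
    (Subgroup.zpowers a) hAX
  rw [hcomm, hcardA, ← pow_two] at h2
  obtain ⟨j, hj, hj2⟩ := (Nat.dvd_prime_pow hp).mp h2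
  have haP : a ∈ ⁅V, Subgroup.zpowers a⁆ ⊔ Subgroup.zpowers a :=
    Subgroup.mem_sup_right (Subgroup.mem_zpowers a)
  have huP : u ∈ ⁅V, Subgroup.zpowers a⁆ ⊔ Subgroup.zpowers a := Subgroup.mem_sup_left hu
  interval_cases j
  · rw [pow_zero] at hj2
    have hbot := Subgroup.card_eq_one.mp hj2
    rw [hbot, Subgroup.mem_bot] at huP
    rw [huP, mul_one, one_mul]
  · rw [pow_one] at hj2
    have hle : Subgroup.zpowers a ≤ ⁅V, Subgroup.zpowers a⁆ ⊔ Subgroup.zpowers a := le_sup_right
    have heq := Subgroup.eq_of_le_of_card_ge hle (by rw [hj2, hcardA])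
    rw [← heq] at huP
    obtain ⟨k, rfl⟩ := Subgroup.mem_zpowers_iff.mp huP
    exact ((Commute.refl a).zpow_right k).eq
  · have hc := IsPGroup.commutative_of_card_eq_prime_sq hj2 ⟨a, haP⟩ ⟨u, huP⟩
    exact congrArg Subtype.val hc

set_option maxHeartbeats 1000000 in
/-- **Core of the `SL₂(p)` recognition** for a transvection `a` and its conjugate under an
element `x` of a normal `p'`-subgroup `Q` not centralizing `a`. -/
theorem ff_pair_core {G : Type*} [Group G] [Finite G] {p : ℕ} [Fact p.Prime] (V Q : Subgroup G)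
    (hV : Cfsg.IsElementaryAbelian p V) (a x : G)
    (haV : a ∈ Subgroup.normalizer (V : Set G)) (hxV : x ∈ Subgroup.normalizer (V : Set G))
    (hap : orderOf a = p)
    (hcomm : Nat.card ↥(⁅V, Subgroup.zpowers a⁆) = p)
    (hQ : (Nat.card Q).Coprime p) (hxQ : x ∈ Q) (haQ : a ∈ Subgroup.normalizer (Q : Set G))
    (hxa : x * a ≠ a * x)
    (L : Subgroup G)
    (hL : L = Subgroup.zpowers a ⊔ (Subgroup.zpowers a).map (MulAut.conj x).toMonoidHom)
    (hf : L ⊓ Subgroup.centralizer (V : Set G) = ⊥) :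
    (p = 2 ∨ p = 3) ∧ Nat.card ↥(⁅V, L⁆) = p ^ 2 ∧
      L ⊓ Subgroup.centralizer ((⁅V, L⁆ : Subgroup G) : Set G) = ⊥ ∧
      Nonempty (↥L ≃* Matrix.SpecialLinearGroup (Fin 2) (ZMod p)) := by
  classical
  have hp : p.Prime := Fact.out
  obtain ⟨A, hAdef⟩ : ∃ A : Subgroup G, A = Subgroup.zpowers a := ⟨_, rfl⟩
  obtain ⟨b, hb⟩ : ∃ b : G, b = x * a * x⁻¹ := ⟨_, rfl⟩
  obtain ⟨B, hBdef⟩ : ∃ B : Subgroup G, B = Subgroup.zpowers b := ⟨_, rfl⟩
  have hBmap : A.map (MulAut.conj x).toMonoidHom = B := by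
    rw [hAdef, MonoidHom.map_zpowers, hBdef, hb]; rfl
  rw [← hAdef, hBmap] at hL
  have hAL : A ≤ L := by rw [hL]; exact le_sup_left
  have hBL : B ≤ L := by rw [hL]; exact le_sup_right
  have haA : a ∈ A := by rw [hAdef]; exact Subgroup.mem_zpowers a
  have hbB : b ∈ B := by rw [hBdef]; exact Subgroup.mem_zpowers b
  have haL : a ∈ L := hAL haA
  have hbL : b ∈ L := hBL hbB
  have hLclos : L = Subgroup.closure ({a, b} : Set G) := by
    rw [hL, hAdef, hBdef, Subgroup.zpowers_eq_closure, Subgroup.zpowers_eq_closure,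
      ← Subgroup.closure_union, Set.singleton_union]
  have hcardA : Nat.card A = p := by rw [hAdef, Nat.card_zpowers, hap]
  have hap' : a ^ p = 1 := by rw [← hap]; exact pow_orderOf_eq_one a
  have hbp : b ^ p = 1 := by rw [hb, conj_pow, hap']; group
  have hobp : orderOf b = p := by
    rw [hb]
    have : x * a * x⁻¹ = MulAut.conj x a := rfl
    rw [this, MulEquiv.orderOf_eq, hap]
  have hcardB : Nat.card B = p := by rw [hBdef, Nat.card_zpowers, hobp]
  have hbV : b ∈ Subgroup.normalizer (V : Set G) := by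
    rw [hb]
    exact Subgroup.mul_mem _ (Subgroup.mul_mem _ hxV haV) (Subgroup.inv_mem _ hxV)
  have hAV : A ≤ Subgroup.normalizer (V : Set G) := by
    rw [hAdef]; exact Subgroup.zpowers_le.mpr haV
  have hBV : B ≤ Subgroup.normalizer (V : Set G) := by
    rw [hBdef]; exact Subgroup.zpowers_le.mpr hbV
  have hLV : L ≤ Subgroup.normalizer (V : Set G) := by
    rw [hL]; exact sup_le hAV hBV
  have ha1 : a ≠ 1 := by
    intro h
    rw [h, orderOf_one] at hap
    exact hp.one_lt.ne hap
  -- the element `c = b a⁻¹` of `Q ∩ L`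
  have hc : b * a⁻¹ ∈ Q := by
    have : b * a⁻¹ = x * (a * x⁻¹ * a⁻¹) := by rw [hb]; group
    rw [this]
    exact Q.mul_mem hxQ ((Subgroup.mem_normalizer_iff.mp haQ x⁻¹).mp (Q.inv_mem hxQ))
  have hcL : b * a⁻¹ ∈ L := L.mul_mem hbL (L.inv_mem haL)
  have hba : b ≠ a := by
    intro h
    apply hxa
    rw [hb] at h
    calc x * a = (x * a * x⁻¹) * x := by group
      _ = a * x := by rw [h]
  have hLnp : ¬ IsPGroup p L := by
    intro hLp
    have h1 := eq_one_of_mem_of_mem_coprime L Q hLp hQ hcL hc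
    exact hba (mul_inv_eq_one.mp h1)
  have hAQ : A ≤ Subgroup.normalizer (Q : Set G) := by
    rw [hAdef]; exact Subgroup.zpowers_le.mpr haQ
  have hLQA : L ≤ Q ⊔ A := by
    rw [hLclos, Subgroup.closure_le]
    intro z hz
    rcases hz with hz | hz
    · rw [hz]; exact Subgroup.mem_sup_right haA
    · rw [Set.mem_singleton_iff] at hz
      rw [hz]
      have : b = (b * a⁻¹) * a := by group
      rw [this]
      exact Subgroup.mul_mem _ (Subgroup.mem_sup_left hc) (Subgroup.mem_sup_right haA)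
  have hpsub : ∀ P : Subgroup G, P ≤ L → IsPGroup p P → Nat.card P ∣ p := by
    intro P hPL hP
    have h1 : Nat.card P ∣ Nat.card (Q ⊔ A : Subgroup G) :=
      Subgroup.card_dvd_of_le (hPL.trans hLQA)
    have h2 := Cfsg.Agent.Lib.helper7.card_sup_dvd_of_le_normalizer Q A hAQ
    rw [hcardA] at h2
    obtain ⟨k, hk⟩ := IsPGroup.iff_card.mp hP
    have h3 : Nat.card P ∣ Nat.card Q * p := h1.trans h2
    have h4 : (Nat.card P).Coprime (Nat.card Q) := by
      rw [hk]; exact Nat.Coprime.pow_left k hQ.symm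
    exact h4.dvd_of_dvd_mul_left h3
  -- the module `W`
  obtain ⟨W, hWdef⟩ : ∃ W : Subgroup G, W = ⁅V, L⁆ := ⟨_, rfl⟩
  rw [← hWdef]
  have hWV : W ≤ V := by rw [hWdef]; exact commutator_le_of_le_normalizer V L hLV
  have hLW : L ≤ Subgroup.normalizer (W : Set G) := by
    rw [hWdef]; exact le_normalizer_commutator_right' V L
  have hVab : ∀ u ∈ V, ∀ v ∈ V, u * v = v * u := fun u hu v hv =>
    congrArg Subtype.val (hV.1.is_comm.comm ⟨u, hu⟩ ⟨v, hv⟩)
  have hWea : Cfsg.IsElementaryAbelian p W :=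
    ⟨⟨⟨fun u v => Subtype.ext (hVab u (hWV u.2) v (hWV v.2))⟩⟩, fun w hw => hV.2 w (hWV hw)⟩
  -- the kernel of the action on `W`
  have hK0p : IsPGroup p ↥(L ⊓ Subgroup.centralizer (W : Set G)) := by
    rintro ⟨g, hg⟩
    refine ⟨1, Subtype.ext ?_⟩
    rw [pow_one, Subgroup.coe_pow, Subgroup.coe_one]
    have hgp : g ^ p ∈ L ⊓ Subgroup.centralizer (V : Set G) := by
      refine ⟨L.pow_mem hg.1 p, ?_⟩
      show g ^ p ∈ Subgroup.centralizer (V : Set G)
      rw [Subgroup.mem_centralizer_iff]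
      intro v hv
      have hw : g * v * g⁻¹ * v⁻¹ ∈ W := by
        rw [hWdef, Subgroup.commutator_comm]
        exact Subgroup.commutator_mem_commutator hg.1 hv
      have hgw : g * (g * v * g⁻¹ * v⁻¹) = (g * v * g⁻¹ * v⁻¹) * g :=
        (Subgroup.mem_centralizer_iff.mp hg.2 _ hw).symm
      have h1 := conj_pow_of_commute_commutator g v hgw p
      rw [hV.2 _ (hWV hw), one_mul] at h1
      calc v * g ^ p = (g ^ p * v * (g ^ p)⁻¹) * g ^ p := by rw [h1]
        _ = g ^ p * v := by group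
    rw [hf, Subgroup.mem_bot] at hgp
    exact hgp
  have hLK0 : L ≤ Subgroup.normalizer
      ((L ⊓ Subgroup.centralizer (W : Set G) : Subgroup G) : Set G) := by
    apply le_normalizer_of_conj_mem
    intro l hl k hk
    refine ⟨L.mul_mem (L.mul_mem hl hk.1) (L.inv_mem hl), ?_⟩
    show l * k * l⁻¹ ∈ Subgroup.centralizer (W : Set G)
    rw [Subgroup.mem_centralizer_iff]
    intro w hw
    have hw' : l⁻¹ * w * l ∈ W := by
      have := (Subgroup.mem_normalizer_iff.mp (hLW (L.inv_mem hl)) w).mp hw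
      simpa using this
    have h1 := Subgroup.mem_centralizer_iff.mp hk.2 _ hw'
    calc w * (l * k * l⁻¹) = l * ((l⁻¹ * w * l) * k) * l⁻¹ := by group
      _ = l * (k * (l⁻¹ * w * l)) * l⁻¹ := by rw [h1]
      _ = l * k * l⁻¹ * w := by group
  have hK0le : ∀ D : Subgroup G, D ≤ L → Nat.card D = p →
      L ⊓ Subgroup.centralizer (W : Set G) ≤ D := by
    intro D hDL hDcard
    have hDp : IsPGroup p D := IsPGroup.of_card (n := 1) (by rw [hDcard, pow_one])
    have hPp : IsPGroup p ↥(D ⊔ (L ⊓ Subgroup.centralizer (W : Set G))) :=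
      IsPGroup.to_sup_of_normal_right' hDp hK0p (hDL.trans hLK0)
    have h1 := hpsub _ (sup_le hDL inf_le_left) hPp
    have h2 : D = D ⊔ (L ⊓ Subgroup.centralizer (W : Set G)) :=
      Subgroup.eq_of_le_of_card_ge le_sup_left (by rw [hDcard]; exact Nat.le_of_dvd hp.pos h1)
    rw [h2]; exact le_sup_right
  have hprime_eq : ∀ D : Subgroup G, Nat.card D = p → ∀ k ∈ D, k ≠ 1 → Subgroup.zpowers k = D := by
    intro D hDcard k hk hk1
    have hle : Subgroup.zpowers k ≤ D := Subgroup.zpowers_le.mpr hk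
    have h1 : Nat.card (Subgroup.zpowers k) ∣ p := hDcard ▸ Subgroup.card_dvd_of_le hle
    rw [Nat.card_zpowers] at h1
    have h2 : orderOf k = p := by
      rcases (Nat.dvd_prime hp).mp h1 with h | h
      · exact absurd (orderOf_eq_one_iff.mp h) hk1
      · exact h
    exact Subgroup.eq_of_le_of_card_ge hle (by rw [Nat.card_zpowers, h2, hDcard])
  have hK0 : L ⊓ Subgroup.centralizer (W : Set G) = ⊥ := by
    rw [eq_bot_iff]
    intro k hk
    rw [Subgroup.mem_bot]
    by_contra hk1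
    have hkA := hK0le A hAL hcardA hk
    have hkB := hK0le B hBL hcardB hk
    have hAB : A = B := (hprime_eq A hcardA k hkA hk1).symm.trans (hprime_eq B hcardB k hkB hk1)
    apply hLnp
    rw [hL, ← hAB, sup_idem]
    exact IsPGroup.of_card (n := 1) (by rw [hcardA, pow_one])
  -- the order of `W`
  have hVA : ⁅V, A⁆ ≤ W := by rw [hWdef]; exact Subgroup.commutator_mono le_rfl hAL
  have hVB : ⁅V, B⁆ ≤ W := by rw [hWdef]; exact Subgroup.commutator_mono le_rfl hBL
  have hcA : Nat.card ↥(⁅V, A⁆) = p := by rw [hAdef]; exact hcomm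
  have hcB : Nat.card ↥(⁅V, B⁆) = p := by
    have h1 : ⁅V, B⁆ = (⁅V, A⁆).map (MulAut.conj x).toMonoidHom := by
      rw [Subgroup.map_commutator, map_conj_eq_of_mem_normalizer V hxV, hBmap]
    rw [h1, Subgroup.card_map_of_injective (MulAut.conj x).injective, hcA]
  have hWle : W ≤ ⁅V, A⁆ ⊔ ⁅V, B⁆ := by
    rw [hWdef, hL]; exact commutator_sup_le V A B hAV hBV
  have hWdvd : Nat.card W ∣ p ^ 2 := by
    have h1 : Nat.card W ∣ Nat.card (⁅V, A⁆ ⊔ ⁅V, B⁆ : Subgroup G) := Subgroup.card_dvd_of_le hWle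
    have hn : ⁅V, B⁆ ≤ Subgroup.normalizer ((⁅V, A⁆ : Subgroup G) : Set G) := by
      apply le_normalizer_of_conj_mem
      intro y hy u hu
      have hyV : y ∈ V := hWV (hVB hy)
      have huV : u ∈ V := hWV (hVA hu)
      have : y * u * y⁻¹ = u := by
        rw [hVab y hyV u huV]; group
      rw [this]; exact hu
    have h2 := Cfsg.Agent.Lib.helper7.card_sup_dvd_of_le_normalizer (⁅V, A⁆) (⁅V, B⁆) hn
    rw [hcA, hcB, ← pow_two] at h2
    exact h1.trans h2
  have hWcard : Nat.card W = p ^ 2 := by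
    obtain ⟨j, hj, hj2⟩ := (Nat.dvd_prime_pow hp).mp hWdvd
    interval_cases j
    · exfalso
      rw [pow_zero] at hj2
      have hbot := Subgroup.card_eq_one.mp hj2
      have h1 : ⁅V, A⁆ = ⊥ := by rw [eq_bot_iff, ← hbot]; exact hVA
      have h2 : Nat.card ↥(⁅V, A⁆) = 1 := by rw [h1]; exact Subgroup.card_bot
      rw [hcA] at h2
      exact hp.one_lt.ne' h2
    · exfalso
      rw [pow_one] at hj2
      have hA' : ⁅V, A⁆ = W := Subgroup.eq_of_le_of_card_ge hVA (by rw [hj2, hcA])
      have hB' : ⁅V, B⁆ = W := Subgroup.eq_of_le_of_card_ge hVB (by rw [hj2, hcB])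
      have haW : a ∈ Subgroup.centralizer (W : Set G) := by
        rw [Subgroup.mem_centralizer_iff]
        intro u hu
        rw [← hA', hAdef] at hu
        exact (commute_of_card_commutator_prime V a hap hcomm u hu).symm
      have hbW : b ∈ Subgroup.centralizer (W : Set G) := by
        rw [Subgroup.mem_centralizer_iff]
        intro u hu
        rw [← hB', hBdef] at hu
        exact (commute_of_card_commutator_prime V b hobp (by rw [← hBdef]; exact hcB) u hu).symm
      have haK : a ∈ L ⊓ Subgroup.centralizer (W : Set G) := ⟨haL, haW⟩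
      rw [hK0, Subgroup.mem_bot] at haK
      exact ha1 haK
    · exact hj2
  -- the embedding
  obtain ⟨φ, hφ⟩ := exists_embed_sl2 W L hWea hWcard hLW hK0 ({a, b} : Set G) hLclos (by
    intro s hs
    rcases hs with hs | hs
    · rw [hs]; exact hap'
    · rw [Set.mem_singleton_iff] at hs; rw [hs]; exact hbp)
  rcases eq_or_ne p 2 with h2 | h2
  · subst h2
    have h6 : Nat.card L ∣ 6 := by
      rw [← card_sl2_zmod2]; exact Subgroup.card_dvd_of_injective φ hφ
    have h2' : 2 ∣ Nat.card L := by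
      have := Subgroup.card_dvd_of_le hAL
      rwa [hcardA] at this
    have hne2 : Nat.card L ≠ 2 := fun h => hLnp (IsPGroup.of_card (n := 1) (by rw [h, pow_one]))
    have hcard6 : Nat.card L = 6 := by
      have hle : Nat.card L ≤ 6 := Nat.le_of_dvd (by norm_num) h6
      have hpos : 0 < Nat.card L := Nat.card_pos
      generalize Nat.card L = n at *
      interval_cases n <;> omega
    have hbij : Function.Bijective φ :=
      (Nat.bijective_iff_injective_and_card φ).mpr ⟨hφ, by rw [hcard6, card_sl2_zmod2]⟩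
    exact ⟨Or.inl rfl, hWcard, hK0, ⟨MulEquiv.ofBijective φ hbij⟩⟩
  · obtain ⟨a', ha'⟩ : ∃ a' : ↥L, (a' : G) = a := ⟨⟨a, haL⟩, rfl⟩
    obtain ⟨R', hR'def⟩ : ∃ R' : Subgroup (Matrix.SpecialLinearGroup (Fin 2) (ZMod p)),
        R' = ((Q ⊓ L).subgroupOf L).map φ := ⟨_, rfl⟩
    have ha'p : a' ^ p = 1 := Subtype.ext (by rw [Subgroup.coe_pow, ha', hap']; rfl)
    have haP : IsPGroup p ↥(Subgroup.zpowers (φ a')) := by
      rintro ⟨g, hg⟩
      obtain ⟨m, rfl⟩ := Subgroup.mem_zpowers_iff.mp hg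
      refine ⟨1, Subtype.ext ?_⟩
      rw [Subgroup.coe_pow, Subgroup.coe_one, pow_one]
      show (φ a' ^ m) ^ p = 1
      rw [← zpow_natCast, ← zpow_mul, mul_comm, zpow_mul, zpow_natCast, ← map_pow, ha'p, map_one,
        one_zpow]
    have hRc : (Nat.card R').Coprime p := by
      rw [hR'def, Subgroup.card_map_of_injective hφ]
      have h1 : Nat.card ((Q ⊓ L).subgroupOf L) = Nat.card (Q ⊓ L : Subgroup G) :=
        Nat.card_congr (Subgroup.subgroupOfEquivOfLe (inf_le_right : Q ⊓ L ≤ L)).toEquiv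
      rw [h1]
      exact Nat.Coprime.coprime_dvd_left (Subgroup.card_dvd_of_le inf_le_left) hQ
    have haN : a' ∈ Subgroup.normalizer (((Q ⊓ L).subgroupOf L : Subgroup ↥L) : Set ↥L) := by
      rw [Subgroup.mem_normalizer_iff]
      intro h
      rw [Subgroup.mem_subgroupOf, Subgroup.mem_subgroupOf]
      simp only [Subgroup.coe_mul, Subgroup.coe_inv, ha']
      constructor
      · rintro ⟨h1, h2⟩
        exact ⟨(Subgroup.mem_normalizer_iff.mp haQ _).mp h1,
          L.mul_mem (L.mul_mem haL h2) (L.inv_mem haL)⟩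
      · rintro ⟨h1, h2⟩
        exact ⟨(Subgroup.mem_normalizer_iff.mp haQ _).mpr h1, h.2⟩
    have haR : φ a' ∈ Subgroup.normalizer (R' : Set (Matrix.SpecialLinearGroup (Fin 2) (ZMod p))) := by
      rw [hR'def]
      exact Subgroup.le_normalizer_map φ ⟨a', haN, rfl⟩
    have hnt : ⁅R', Subgroup.zpowers (φ a')⁆ ≠ ⊥ := by
      intro hbot
      have hle := Subgroup.commutator_eq_bot_iff_le_centralizer.mp hbot
      have hcR : φ ⟨b * a⁻¹, hcL⟩ ∈ R' := by
        rw [hR'def]
        exact ⟨⟨b * a⁻¹, hcL⟩, Subgroup.mem_subgroupOf.mpr ⟨hc, hcL⟩, rfl⟩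
      have h1 := Subgroup.mem_centralizer_iff.mp (hle hcR) (φ a') (Subgroup.mem_zpowers _)
      rw [← map_mul, ← map_mul] at h1
      have h2 := congrArg Subtype.val (hφ h1)
      simp only [Subgroup.coe_mul, ha'] at h2
      -- `a` commutes with `c = b a⁻¹`
      have hcomm' : Commute (b * a⁻¹) a := h2.symm
      have hcp : (b * a⁻¹) ^ p = 1 := by
        have hba' : Commute b a⁻¹ := by
          have h3 : Commute b a := by
            have : b = (b * a⁻¹) * a := by group
            rw [this]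
            exact (hcomm'.mul_left (Commute.refl a))
          exact h3.inv_right
        rw [hba'.mul_pow, hbp, inv_pow, hap', inv_one, mul_one]
      have hzp : IsPGroup p ↥(Subgroup.zpowers (b * a⁻¹)) := by
        rintro ⟨g, hg⟩
        obtain ⟨m, rfl⟩ := Subgroup.mem_zpowers_iff.mp hg
        refine ⟨1, Subtype.ext ?_⟩
        rw [Subgroup.coe_pow, Subgroup.coe_one, pow_one]
        show ((b * a⁻¹) ^ m) ^ p = 1
        rw [← zpow_natCast, ← zpow_mul, mul_comm, zpow_mul, zpow_natCast, hcp, one_zpow]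
      have h4 := eq_one_of_mem_of_mem_coprime (Subgroup.zpowers (b * a⁻¹)) Q hzp hQ
        (Subgroup.mem_zpowers _) hc
      exact hba (mul_inv_eq_one.mp h4)
    obtain ⟨h3, -, ⟨e⟩⟩ := Cfsg.Agent.Lib.helper3.sl2_pprime_structure h2 (φ a') haP R' hRc haR hnt
    have hrange : R' ⊔ Subgroup.zpowers (φ a') = φ.range := by
      apply le_antisymm
      · refine sup_le ?_ (Subgroup.zpowers_le.mpr ⟨a', rfl⟩)
        rw [hR'def]; exact Subgroup.map_le_range φ _
      · rintro _ ⟨l, rfl⟩
        obtain ⟨a'', ha'', q, hq, hl⟩ :=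
          Cfsg.Agent.Lib.helper10.exists_mul_of_mem_sup_of_normalizes (A := A) (B := Q)
          (fun a₁ ha₁ q₁ hq₁ => by
            have := (Subgroup.mem_normalizer_iff.mp (hAQ (A.inv_mem ha₁)) q₁).mp hq₁
            simpa using this)
          (show (l : G) ∈ A ⊔ Q by rw [sup_comm]; exact hLQA l.2)
        have ha''L : a'' ∈ L := hAL ha''
        have hqL : q ∈ L := by
          have : q = a''⁻¹ * (l : G) := by rw [hl]; group
          rw [this]; exact L.mul_mem (L.inv_mem ha''L) l.2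
        have hl' : l = ⟨a'', ha''L⟩ * ⟨q, hqL⟩ := Subtype.ext hl
        rw [hl', map_mul]
        refine Subgroup.mul_mem _ (Subgroup.mem_sup_right ?_) (Subgroup.mem_sup_left ?_)
        · rw [hAdef] at ha''
          obtain ⟨k, hk⟩ := Subgroup.mem_zpowers_iff.mp ha''
          have : (⟨a'', ha''L⟩ : ↥L) = a' ^ k := Subtype.ext (by
            rw [Subgroup.coe_zpow, ha', hk])
          rw [this, map_zpow]
          exact Subgroup.zpow_mem _ (Subgroup.mem_zpowers _) k
        · rw [hR'def]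
          exact ⟨⟨q, hqL⟩, Subgroup.mem_subgroupOf.mpr ⟨hq, hqL⟩, rfl⟩
    subst h3
    exact ⟨Or.inr rfl, hWcard, hK0,
      ⟨((MonoidHom.ofInjective hφ).trans (MulEquiv.subgroupCongr hrange.symm)).trans e⟩⟩

end Cfsg.Agent.Lib.helper14
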