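import Mathlib
import Cfsg.Prelude.Def_PLocal
import Cfsg.Prelude.Def_Transfer
import Cfsg.Agent.Lib.helper14.FFSL2
import Cfsg.Agent.Lib.helper8.CoprimeAction
import Cfsg.Agent.Lib.helper3.HallSystem2

/-!
# Failure of factorization: the commutator of the `p'`-core with a transvection (library, helper14)
-/

set_option autoImplicit false
set_option linter.style.haveILetI false
set_option linter.unusedVariables false
set_option linter.unusedSectionVars false

namespace Cfsg.Agent.Lib.helper14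

open scoped commutatorElement

set_option maxRecDepth 100000 in
theorem sl23_noncomm : ∀ α γ : Matrix.SpecialLinearGroup (Fin 2) (ZMod 3), α ^ 3 = 1 → γ ^ 8 = 1 →
    (γ * α) ^ 3 = 1 → γ * (α * γ * α⁻¹) = (α * γ * α⁻¹) * γ → γ = 1 := by
  decide

/-- Coprime action of a cyclic group `⟨a⟩` on `Q`: if every commutator `[x, a]` (`x ∈ Q`) is a
`q`-element, then `[Q, ⟨a⟩]` lies in an `⟨a⟩`-invariant Sylow `q`-subgroup of `Q`. -/
theorem commutator_le_sylow_of_elts {G : Type*} [Group G] [Finite G] (q : ℕ) [Fact q.Prime]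
    (Q : Subgroup G) (a : G) (haQ : a ∈ Subgroup.normalizer (Q : Set G))
    (hcop : (orderOf a).Coprime (Nat.card Q))
    (hq : ∀ x ∈ Q, ∃ k : ℕ, (x * a * x⁻¹ * a⁻¹) ^ (q ^ k) = 1) :
    ∃ P : Sylow q Q, ⁅Q, Subgroup.zpowers a⁆ ≤ (P : Subgroup Q).map Q.subtype ∧
      Subgroup.zpowers a ≤ Subgroup.normalizer (((P : Subgroup Q).map Q.subtype : Subgroup G) : Set G) := by
  classical
  have hq' : q.Prime := Fact.out
  obtain ⟨A, hA⟩ : ∃ A : Subgroup G, A = Subgroup.zpowers a := ⟨_, rfl⟩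
  rw [← hA]
  have haA : a ∈ A := by rw [hA]; exact Subgroup.mem_zpowers a
  have hAQ : A ≤ Subgroup.normalizer (Q : Set G) := by rw [hA]; exact Subgroup.zpowers_le.mpr haQ
  have hcopA : (Nat.card A).Coprime (Nat.card Q) := by rw [hA, Nat.card_zpowers]; exact hcop
  have hsolvA : IsSolvable A := by
    rw [hA]
    exact isSolvable_of_comm (fun x y => by
      obtain ⟨x, hx⟩ := x
      obtain ⟨y, hy⟩ := y
      obtain ⟨m, rfl⟩ := Subgroup.mem_zpowers_iff.mp hx
      obtain ⟨n, rfl⟩ := Subgroup.mem_zpowers_iff.mp hy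
      exact Subtype.ext (by
        show a ^ m * a ^ n = a ^ n * a ^ m
        rw [← zpow_add, ← zpow_add, add_comm]))
  have hsolv : IsSolvable A ∨ IsSolvable Q := Or.inl hsolvA
  obtain ⟨C, hC⟩ : ∃ C : Subgroup G, C = Q ⊓ Subgroup.centralizer (A : Set G) := ⟨_, rfl⟩
  have hidx : ∀ r : ℕ, r.Prime → r ≠ q → ¬ r ∣ (C.subgroupOf Q).index := by
    intro r hr hrq hdvd
    haveI : Fact r.Prime := ⟨hr⟩
    obtain ⟨R, hR⟩ := Cfsg.Agent.Lib.helper8.exists_invariant_sylow (p := r) A Q hAQ hcopA hsolv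
    have hRC : (R : Subgroup Q) ≤ C.subgroupOf Q := by
      intro x hx
      rw [Subgroup.mem_subgroupOf, hC]
      refine ⟨x.2, ?_⟩
      have hxR : (x : G) ∈ (R : Subgroup Q).map Q.subtype := ⟨x, hx, rfl⟩
      have hxa : (x : G) * a * (x : G)⁻¹ * a⁻¹ ∈ (R : Subgroup Q).map Q.subtype := by
        have h1 : a * (x : G)⁻¹ * a⁻¹ ∈ (R : Subgroup Q).map Q.subtype :=
          (Subgroup.mem_normalizer_iff.mp (hR haA) _).mp (Subgroup.inv_mem _ hxR)
        have := Subgroup.mul_mem _ hxR h1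
        simpa [mul_assoc] using this
      obtain ⟨k, hk⟩ := hq x x.2
      have hRp : IsPGroup r ((R : Subgroup Q).map Q.subtype) := R.2.map _
      obtain ⟨j, hj⟩ := hRp ⟨_, hxa⟩
      have hj' : ((x : G) * a * (x : G)⁻¹ * a⁻¹) ^ (r ^ j) = 1 := by
        simpa using congrArg Subtype.val hj
      have h1 : orderOf ((x : G) * a * (x : G)⁻¹ * a⁻¹) ∣ Nat.gcd (r ^ j) (q ^ k) :=
        Nat.dvd_gcd (orderOf_dvd_of_pow_eq_one hj') (orderOf_dvd_of_pow_eq_one hk)
      have h2 : Nat.gcd (r ^ j) (q ^ k) = 1 :=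
        Nat.Coprime.pow _ _ ((Nat.coprime_primes hr hq').mpr hrq)
      rw [h2, Nat.dvd_one, orderOf_eq_one_iff] at h1
      have hcomm : (x : G) * a = a * x := by
        calc (x : G) * a = ((x : G) * a * (x : G)⁻¹ * a⁻¹) * (a * x) := by group
          _ = a * x := by rw [h1, one_mul]
      show (x : G) ∈ Subgroup.centralizer (A : Set G)
      rw [Subgroup.mem_centralizer_iff]
      intro y hy
      rw [hA] at hy
      obtain ⟨m, rfl⟩ := Subgroup.mem_zpowers_iff.mp hy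
      exact ((Commute.zpow_left (show Commute a (x : G) from hcomm.symm) m).eq)
    have h3 : (C.subgroupOf Q).index ∣ (R : Subgroup Q).index := Subgroup.index_dvd_of_le hRC
    exact R.not_dvd_index (hdvd.trans h3)
  obtain ⟨P, hP⟩ := Cfsg.Agent.Lib.helper8.exists_invariant_sylow (p := q) A Q hAQ hcopA hsolv
  have hcopidx : ((C.subgroupOf Q).index).Coprime (P : Subgroup Q).index := by
    refine Nat.coprime_of_dvd ?_
    intro r hr h1 h2
    by_cases hrq : r = q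
    · subst hrq; exact P.not_dvd_index h2
    · exact hidx r hr hrq h1
  refine ⟨P, ?_, hP⟩
  rw [Subgroup.commutator_le]
  intro x hx y hy
  obtain ⟨k, hk, h, hh, hxe⟩ := Cfsg.Agent.Lib.helper3.exists_mul_of_coprime_index
    (C.subgroupOf Q) (P : Subgroup Q) hcopidx ⟨x, hx⟩
  have hxe' : x = (k : G) * (h : G) := congrArg Subtype.val hxe
  have hhC : (h : G) ∈ Subgroup.centralizer (A : Set G) := by
    have := (Subgroup.mem_subgroupOf.mp hh)
    rw [hC] at this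
    exact this.2
  have hcomm : y * (h : G) = (h : G) * y := Subgroup.mem_centralizer_iff.mp hhC y hy
  have hkP : (k : G) ∈ (P : Subgroup Q).map Q.subtype := ⟨k, hk, rfl⟩
  have h1 : y * (k : G)⁻¹ * y⁻¹ ∈ (P : Subgroup Q).map Q.subtype :=
    (Subgroup.mem_normalizer_iff.mp (hP hy) _).mp (Subgroup.inv_mem _ hkP)
  have hcalc : ⁅x, y⁆ = (k : G) * (y * (k : G)⁻¹ * y⁻¹) := by
    rw [commutatorElement_def, hxe']
    have h2 : (h : G) * y * (h : G)⁻¹ = y := by rw [← hcomm]; group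
    calc (k : G) * h * y * ((k : G) * h)⁻¹ * y⁻¹
        = (k : G) * ((h : G) * y * (h : G)⁻¹) * (k : G)⁻¹ * y⁻¹ := by group
      _ = (k : G) * (y * (k : G)⁻¹ * y⁻¹) := by rw [h2]; group
  rw [hcalc]
  exact Subgroup.mul_mem _ hkP h1

set_option maxHeartbeats 1000000 in
/-- The commutator of a coprime normal subgroup `Q` with a transvection `a` acting nontrivially
on it is a `3`-group (`p = 2`) or a nonabelian `2`-group (`p = 3`). -/
theorem ff_commutator_pgroup {G : Type*} [Group G] [Finite G] {p : ℕ} [Fact p.Prime] (V Q : Subgroup G)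
    (hV : Cfsg.IsElementaryAbelian p V) (a : G)
    (haV : a ∈ Subgroup.normalizer (V : Set G)) (hQV : Q ≤ Subgroup.normalizer (V : Set G))
    (hap : orderOf a = p)
    (hcomm : Nat.card ↥(⁅V, Subgroup.zpowers a⁆) = p)
    (hQ : (Nat.card Q).Coprime p) (haQ : a ∈ Subgroup.normalizer (Q : Set G))
    (hf : (Q ⊔ Subgroup.zpowers a) ⊓ Subgroup.centralizer (V : Set G) = ⊥)
    (x₀ : G) (hx₀ : x₀ ∈ Q) (hx₀a : x₀ * a ≠ a * x₀) :
    (p = 2 ∧ IsPGroup 3 ↥(⁅Q, Subgroup.zpowers a⁆)) ∨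
      (p = 3 ∧ IsPGroup 2 ↥(⁅Q, Subgroup.zpowers a⁆) ∧
        ¬ IsMulCommutative ↥(⁅Q, Subgroup.zpowers a⁆)) := by
  classical
  have hp : p.Prime := Fact.out
  have key : ∀ x ∈ Q, x * a ≠ a * x →
      (p = 2 ∨ p = 3) ∧ ∃ (L : Subgroup G), a ∈ L ∧ x * a * x⁻¹ ∈ L ∧
        Nonempty (↥L ≃* Matrix.SpecialLinearGroup (Fin 2) (ZMod p)) := by
    intro x hx hxa
    have hLle : Subgroup.zpowers a ⊔ (Subgroup.zpowers a).map (MulAut.conj x).toMonoidHom ≤
        Q ⊔ Subgroup.zpowers a := by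
      refine sup_le le_sup_right ?_
      rintro _ ⟨y, hy, rfl⟩
      exact Subgroup.mul_mem _ (Subgroup.mul_mem _ (Subgroup.mem_sup_left hx)
        (Subgroup.mem_sup_right hy)) (Subgroup.inv_mem _ (Subgroup.mem_sup_left hx))
    have hfL : (Subgroup.zpowers a ⊔ (Subgroup.zpowers a).map (MulAut.conj x).toMonoidHom) ⊓
        Subgroup.centralizer (V : Set G) = ⊥ := by
      rw [eq_bot_iff, ← hf]; exact inf_le_inf_right _ hLle
    obtain ⟨h1, -, -, h4⟩ := ff_pair_core V Q hV a x haV (hQV hx) hap hcomm hQ hx haQ hxa _ rfl hfL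
    exact ⟨h1, _, Subgroup.mem_sup_left (Subgroup.mem_zpowers a),
      Subgroup.mem_sup_right (Subgroup.mem_map.mpr ⟨a, Subgroup.mem_zpowers a, rfl⟩), h4⟩
  obtain ⟨hp23, -⟩ := key x₀ hx₀ hx₀a
  have hcopa : (orderOf a).Coprime (Nat.card Q) := by rw [hap]; exact hQ.symm
  have hcQ : ∀ x ∈ Q, x * a * x⁻¹ * a⁻¹ ∈ Q := by
    intro x hx
    have : x * a * x⁻¹ * a⁻¹ = x * (a * x⁻¹ * a⁻¹) := by group
    rw [this]
    exact Q.mul_mem hx ((Subgroup.mem_normalizer_iff.mp haQ x⁻¹).mp (Q.inv_mem hx))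
  have hordQ : ∀ x ∈ Q, orderOf (x * a * x⁻¹ * a⁻¹) ∣ Nat.card Q := by
    intro x hx
    have := orderOf_dvd_natCard (⟨_, hcQ x hx⟩ : Q)
    rwa [Subgroup.orderOf_mk] at this
  rcases hp23 with h2 | h3
  · subst h2
    left
    refine ⟨rfl, ?_⟩
    haveI : Fact (Nat.Prime 3) := ⟨Nat.prime_three⟩
    obtain ⟨P, hP, -⟩ := commutator_le_sylow_of_elts 3 Q a haQ hcopa (by
      intro x hx
      by_cases hxa : x * a = a * x
      · refine ⟨0, ?_⟩
        rw [hxa]; group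
      · obtain ⟨-, L, haL, hbL, ⟨e⟩⟩ := key x hx hxa
        refine ⟨1, ?_⟩
        rw [pow_one]
        have hcL : x * a * x⁻¹ * a⁻¹ ∈ L := L.mul_mem hbL (L.inv_mem haL)
        have hcardL : Nat.card L = 6 := by rw [Nat.card_congr e.toEquiv, card_sl2_zmod2]
        have h6 : orderOf (x * a * x⁻¹ * a⁻¹) ∣ 2 * 3 := by
          have := orderOf_dvd_natCard (⟨_, hcL⟩ : L)
          rwa [Subgroup.orderOf_mk, hcardL] at this
        have hc2 : (orderOf (x * a * x⁻¹ * a⁻¹)).Coprime 2 :=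
          Nat.Coprime.coprime_dvd_left (hordQ x hx) hQ
        exact orderOf_dvd_iff_pow_eq_one.mp (hc2.dvd_of_dvd_mul_left h6))
    exact (P.2.map Q.subtype).to_le hP
  · subst h3
    right
    haveI : Fact (Nat.Prime 2) := ⟨Nat.prime_two⟩
    have hc8 : ∀ x ∈ Q, x * a ≠ a * x → (x * a * x⁻¹ * a⁻¹) ^ 8 = 1 := by
      intro x hx hxa
      obtain ⟨-, L, haL, hbL, ⟨e⟩⟩ := key x hx hxa
      have hcL : x * a * x⁻¹ * a⁻¹ ∈ L := L.mul_mem hbL (L.inv_mem haL)
      have h24 : orderOf (x * a * x⁻¹ * a⁻¹) ∣ 3 * 8 := by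
        have h1 := Cfsg.Agent.Lib.helper3.sl23_pow24 (e ⟨_, hcL⟩)
        rw [← map_pow] at h1
        have h2 : (⟨_, hcL⟩ : L) ^ 24 = 1 := e.injective (by rw [h1, map_one])
        have h3 := congrArg Subtype.val h2
        rw [Subgroup.coe_pow] at h3
        exact orderOf_dvd_of_pow_eq_one h3
      have hc3 : (orderOf (x * a * x⁻¹ * a⁻¹)).Coprime 3 :=
        Nat.Coprime.coprime_dvd_left (hordQ x hx) hQ
      exact orderOf_dvd_iff_pow_eq_one.mp (hc3.dvd_of_dvd_mul_left h24)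
    obtain ⟨P, hP, -⟩ := commutator_le_sylow_of_elts 2 Q a haQ hcopa (by
      intro x hx
      by_cases hxa : x * a = a * x
      · refine ⟨0, ?_⟩
        rw [hxa]; group
      · exact ⟨3, hc8 x hx hxa⟩)
    refine ⟨rfl, (P.2.map Q.subtype).to_le hP, ?_⟩
    intro hcommT
    obtain ⟨-, L, haL, hbL, ⟨e⟩⟩ := key x₀ hx₀ hx₀a
    have hcL : x₀ * a * x₀⁻¹ * a⁻¹ ∈ L := L.mul_mem hbL (L.inv_mem haL)
    have hcT : x₀ * a * x₀⁻¹ * a⁻¹ ∈ ⁅Q, Subgroup.zpowers a⁆ :=
      Subgroup.commutator_mem_commutator hx₀ (Subgroup.mem_zpowers a)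
    have hacT : a * (x₀ * a * x₀⁻¹ * a⁻¹) * a⁻¹ ∈ ⁅Q, Subgroup.zpowers a⁆ :=
      (Subgroup.mem_normalizer_iff.mp (le_normalizer_commutator_right' Q (Subgroup.zpowers a)
        (Subgroup.mem_zpowers a)) _).mp hcT
    have hcm := congrArg Subtype.val (hcommT.is_comm.comm ⟨_, hcT⟩ ⟨_, hacT⟩)
    have hγ := sl23_noncomm (e ⟨a, haL⟩) (e ⟨_, hcL⟩) ?_ ?_ ?_ ?_
    · have h1 : (⟨_, hcL⟩ : L) = 1 := e.injective (by rw [hγ, map_one])
      have h2 : x₀ * a * x₀⁻¹ * a⁻¹ = 1 := congrArg Subtype.val h1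
      apply hx₀a
      calc x₀ * a = (x₀ * a * x₀⁻¹ * a⁻¹) * (a * x₀) := by group
        _ = a * x₀ := by rw [h2, one_mul]
    · rw [← map_pow]
      have : (⟨a, haL⟩ : L) ^ 3 = 1 := Subtype.ext (by
        rw [Subgroup.coe_pow]
        show a ^ 3 = 1
        have := pow_orderOf_eq_one a
        rwa [hap] at this)
      rw [this, map_one]
    · rw [← map_pow]
      have : (⟨_, hcL⟩ : L) ^ 8 = 1 := Subtype.ext (by
        rw [Subgroup.coe_pow]; exact hc8 x₀ hx₀ hx₀a)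
      rw [this, map_one]
    · rw [← map_mul, ← map_pow]
      have : ((⟨_, hcL⟩ : L) * ⟨a, haL⟩) ^ 3 = 1 := Subtype.ext (by
        rw [Subgroup.coe_pow]
        show (x₀ * a * x₀⁻¹ * a⁻¹ * a) ^ 3 = 1
        have h1 : x₀ * a * x₀⁻¹ * a⁻¹ * a = x₀ * a * x₀⁻¹ := by group
        have h2 := pow_orderOf_eq_one a
        rw [hap] at h2
        rw [h1, conj_pow, h2]; group)
      rw [this, map_one]
    · rw [← map_inv, ← map_mul, ← map_mul, ← map_mul, ← map_mul]
      congr 1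
      exact Subtype.ext hcm

end Cfsg.Agent.Lib.helper14
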