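import Mathlib
import Cfsg.Prelude.Def_PLocal
import Cfsg.Prelude.Def_Transfer
import Cfsg.Agent.Lib.helper14.FFComm

/-!
# Failure of factorization: the `SL₂(p)` direct factors (library, helper14)
-/

set_option autoImplicit false
set_option linter.style.haveILetI false
set_option linter.unusedVariables false
set_option linter.unusedSectionVars false

namespace Cfsg.Agent.Lib.helper14

open scoped commutatorElement

/-- The matrix representation of the normalizer of an elementary abelian subgroup `W` of order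
`p²` on `W`. -/
theorem exists_mat_rep {G : Type*} [Group G] [Finite G] {p : ℕ} [Fact p.Prime] (W : Subgroup G)
    (hW : Cfsg.IsElementaryAbelian p W) (hcard : Nat.card W = p ^ 2) :
    ∃ M : ↥(Subgroup.normalizer (W : Set G)) →* Matrix (Fin 2) (Fin 2) (ZMod p),
      (∀ g, M g = 1 → (g : G) ∈ Subgroup.centralizer (W : Set G)) ∧
      (∀ g : ↥(Subgroup.normalizer (W : Set G)), (g : G) ^ p = 1 → (M g).det = 1) := by
  classical
  have hp : p.Prime := Fact.out
  letI : CommGroup ↥W :=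
    { (inferInstance : Group ↥W) with mul_comm := fun u v => hW.1.is_comm.comm u v }
  obtain ⟨α, hα⟩ : ∃ α : ↥(Subgroup.normalizer (W : Set G)) →* MulAut ↥W,
      ∀ (h : ↥(Subgroup.normalizer (W : Set G))) (v : ↥W),
        ((α h v : ↥W) : G) = (h : G) * v * (h : G)⁻¹ :=
    ⟨Subgroup.normalizerMonoidHom W, fun h v => rfl⟩
  have hexp : ∀ v : ↥W, v ^ p = 1 := fun v =>
    Subtype.ext (by rw [Subgroup.coe_pow]; exact hW.2 v v.2)
  have hA : ∀ x : Additive ↥W, p • x = 0 := fun x => congrArg Additive.ofMul (hexp x.toMul)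
  haveI : Module (ZMod p) (Additive ↥W) := AddCommGroup.zmodModule hA
  obtain ⟨ρ, hρ⟩ : ∃ ρ : ↥(Subgroup.normalizer (W : Set G)) →* Module.End (ZMod p) (Additive ↥W),
      ∀ (g : ↥(Subgroup.normalizer (W : Set G))) (x : Additive ↥W),
        ρ g x = Additive.ofMul (α g x.toMul) := by
    refine ⟨{ toFun := fun g => (MonoidHom.toAdditive (α g).toMonoidHom).toZModLinearMap p
              map_one' := ?_
              map_mul' := ?_ }, fun g x => rfl⟩
    · apply LinearMap.ext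
      intro x
      show Additive.ofMul (α 1 x.toMul) = x
      rw [map_one]
      rfl
    · intro g h
      apply LinearMap.ext
      intro x
      show Additive.ofMul (α (g * h) x.toMul) = Additive.ofMul (α g (α h x.toMul))
      rw [map_mul]
      rfl
  haveI : Finite (Additive ↥W) := inferInstanceAs (Finite ↥W)
  have hfin : Module.finrank (ZMod p) (Additive ↥W) = 2 := by
    letI : Fintype (Additive ↥W) := Fintype.ofFinite _
    have h1 : Fintype.card (Additive ↥W) = p ^ 2 := by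
      rw [← Nat.card_eq_fintype_card]; exact hcard
    have h2 := Module.card_eq_pow_finrank (K := ZMod p) (V := Additive ↥W)
    rw [ZMod.card, h1] at h2
    exact (Nat.pow_right_injective hp.two_le h2).symm
  obtain ⟨bas⟩ : Nonempty (Module.Basis (Fin 2) (ZMod p) (Additive ↥W)) :=
    ⟨Module.finBasisOfFinrankEq (ZMod p) (Additive ↥W) hfin⟩
  obtain ⟨M, hM⟩ : ∃ M : ↥(Subgroup.normalizer (W : Set G)) →* Matrix (Fin 2) (Fin 2) (ZMod p),
      ∀ g : ↥(Subgroup.normalizer (W : Set G)), M g = LinearMap.toMatrixAlgEquiv bas (ρ g) :=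
    ⟨(MonoidHomClass.toMonoidHom (LinearMap.toMatrixAlgEquiv bas)).comp ρ, fun g => rfl⟩
  refine ⟨M, ?_, ?_⟩
  · intro g h1
    have h2 : ρ g = 1 := by
      rw [hM] at h1
      have h1' : LinearMap.toMatrixAlgEquiv bas (ρ g) = LinearMap.toMatrixAlgEquiv bas 1 := by
        rw [h1, map_one]
      exact (LinearMap.toMatrixAlgEquiv bas).injective h1'
    rw [Subgroup.mem_centralizer_iff]
    intro v hv
    have h4 := hρ g (Additive.ofMul (⟨v, hv⟩ : ↥W))
    rw [h2] at h4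
    have h5 : (⟨v, hv⟩ : ↥W) = α g ⟨v, hv⟩ := congrArg Additive.toMul h4
    have h6 := congrArg Subtype.val h5
    rw [hα] at h6
    have h7 : v = (g : G) * v * (g : G)⁻¹ := h6
    calc v * (g : G) = ((g : G) * v * (g : G)⁻¹) * (g : G) := by rw [← h7]
      _ = (g : G) * v := by group
  · intro g hg
    have h1 : g ^ p = 1 := Subtype.ext (by rw [Subgroup.coe_pow]; exact hg)
    have h2 : (M g).det ^ p = 1 := by
      rw [← Matrix.det_pow, ← map_pow, h1, map_one, Matrix.det_one]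
    rwa [ZMod.pow_card] at h2

/-- If `E ≅ SL₂(p)` acts faithfully on the plane `W` and is generated by elements of order `p`,
every element `b` of order `p` normalizing `W` acts on `W` like some element of `E`. -/
theorem exists_mul_centralizer_of_sl2 {G : Type*} [Group G] [Finite G] {p : ℕ} [Fact p.Prime]
    (W E : Subgroup G) (hW : Cfsg.IsElementaryAbelian p W) (hcard : Nat.card W = p ^ 2)
    (hEW : E ≤ Subgroup.normalizer (W : Set G)) (hf : E ⊓ Subgroup.centralizer (W : Set G) = ⊥)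
    (S : Set G) (hS : E = Subgroup.closure S) (hSp : ∀ s ∈ S, s ^ p = 1)
    (hE : Nat.card E = Nat.card (Matrix.SpecialLinearGroup (Fin 2) (ZMod p)))
    (b : G) (hbW : b ∈ Subgroup.normalizer (W : Set G)) (hbp : b ^ p = 1) :
    ∃ e ∈ E, e⁻¹ * b ∈ Subgroup.centralizer (W : Set G) := by
  classical
  obtain ⟨M, hM1, hM2⟩ := exists_mat_rep W hW hcard
  have hdet : ∀ x ∈ Subgroup.closure S, ∀ hx : x ∈ Subgroup.normalizer (W : Set G),
      (M ⟨x, hx⟩).det = 1 := by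
    intro x hx
    induction hx using Subgroup.closure_induction with
    | mem s hs =>
      intro hsN
      exact hM2 ⟨s, hsN⟩ (hSp s hs)
    | one =>
      intro h1
      have : (⟨1, h1⟩ : ↥(Subgroup.normalizer (W : Set G))) = 1 := rfl
      rw [this, map_one, Matrix.det_one]
    | mul y z hy hz ihy ihz =>
      intro hyz
      have hyN : y ∈ Subgroup.normalizer (W : Set G) := hEW (by rw [hS]; exact hy)
      have hzN : z ∈ Subgroup.normalizer (W : Set G) := hEW (by rw [hS]; exact hz)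
      have : (⟨y * z, hyz⟩ : ↥(Subgroup.normalizer (W : Set G))) = ⟨y, hyN⟩ * ⟨z, hzN⟩ := rfl
      rw [this, map_mul, Matrix.det_mul, ihy hyN, ihz hzN, one_mul]
    | inv y hy ihy =>
      intro hyi
      have hyN : y ∈ Subgroup.normalizer (W : Set G) := hEW (by rw [hS]; exact hy)
      have h3 : M ⟨y, hyN⟩ * M ⟨y⁻¹, hyi⟩ = 1 := by
        rw [← map_mul]
        have : (⟨y, hyN⟩ : ↥(Subgroup.normalizer (W : Set G))) * ⟨y⁻¹, hyi⟩ = 1 :=
          Subtype.ext (mul_inv_cancel y)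
        rw [this, map_one]
      have h4 := congrArg Matrix.det h3
      rw [Matrix.det_mul, ihy hyN, one_mul, Matrix.det_one] at h4
      exact h4
  obtain ⟨φ, hφ⟩ : ∃ φ : ↥E → Matrix.SpecialLinearGroup (Fin 2) (ZMod p),
      ∀ e : ↥E, ((φ e : Matrix.SpecialLinearGroup (Fin 2) (ZMod p)) : Matrix (Fin 2) (Fin 2) (ZMod p))
        = M ⟨(e : G), hEW e.2⟩ :=
    ⟨fun e => ⟨M ⟨(e : G), hEW e.2⟩, hdet (e : G) (by rw [← hS]; exact e.2) (hEW e.2)⟩, fun e => rfl⟩
  have hinj : Function.Injective φ := by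
    intro e₁ e₂ h
    have h1 : M ⟨(e₁ : G), hEW e₁.2⟩ = M ⟨(e₂ : G), hEW e₂.2⟩ := by
      rw [← hφ, ← hφ, h]
    have h2 : M (⟨(e₁ : G), hEW e₁.2⟩⁻¹ * ⟨(e₂ : G), hEW e₂.2⟩) = 1 := by
      rw [map_mul, ← h1, ← map_mul, inv_mul_cancel, map_one]
    have h3 := hM1 _ h2
    have h4 : (e₁ : G)⁻¹ * (e₂ : G) ∈ E ⊓ Subgroup.centralizer (W : Set G) :=
      ⟨E.mul_mem (E.inv_mem e₁.2) e₂.2, h3⟩
    rw [hf, Subgroup.mem_bot] at h4
    exact Subtype.ext (inv_mul_eq_one.mp h4)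
  have hbij : Function.Bijective φ := (Nat.bijective_iff_injective_and_card φ).mpr ⟨hinj, hE⟩
  obtain ⟨e, he⟩ := hbij.2 ⟨M ⟨b, hbW⟩, hM2 ⟨b, hbW⟩ hbp⟩
  refine ⟨(e : G), e.2, ?_⟩
  have h1 : M ⟨(e : G), hEW e.2⟩ = M ⟨b, hbW⟩ := by
    rw [← hφ, he]
  have h2 : M (⟨(e : G), hEW e.2⟩⁻¹ * ⟨b, hbW⟩) = 1 := by
    rw [map_mul, ← h1, ← map_mul, inv_mul_cancel, map_one]
  exact hM1 _ h2

theorem mem_normalizer_inf_centralizer {G : Type*} [Group G] (V Z : Subgroup G) {g : G}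
    (hV : g ∈ Subgroup.normalizer (V : Set G)) (hZ : g ∈ Subgroup.normalizer (Z : Set G)) :
    g ∈ Subgroup.normalizer ((V ⊓ Subgroup.centralizer (Z : Set G) : Subgroup G) : Set G) := by
  have key : ∀ h : G, h ∈ Subgroup.normalizer (V : Set G) → h ∈ Subgroup.normalizer (Z : Set G) →
      ∀ x ∈ V ⊓ Subgroup.centralizer (Z : Set G),
        h * x * h⁻¹ ∈ V ⊓ Subgroup.centralizer (Z : Set G) := by
    intro h hV hZ x hx
    refine ⟨(Subgroup.mem_normalizer_iff.mp hV x).mp hx.1, ?_⟩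
    show h * x * h⁻¹ ∈ Subgroup.centralizer (Z : Set G)
    rw [Subgroup.mem_centralizer_iff]
    intro z hz
    have hz' : h⁻¹ * z * h ∈ Z := by
      have := (Subgroup.mem_normalizer_iff.mp (Subgroup.inv_mem _ hZ) z).mp hz
      simpa using this
    have h1 := Subgroup.mem_centralizer_iff.mp hx.2 _ hz'
    calc z * (h * x * h⁻¹) = h * ((h⁻¹ * z * h) * x) * h⁻¹ := by group
      _ = h * (x * (h⁻¹ * z * h)) * h⁻¹ := by rw [h1]
      _ = h * x * h⁻¹ * z := by group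
  rw [Subgroup.mem_normalizer_iff]
  intro x
  constructor
  · exact key g hV hZ x
  · intro hx
    have := key g⁻¹ (Subgroup.inv_mem _ hV) (Subgroup.inv_mem _ hZ) _ hx
    simpa [mul_assoc] using this

theorem mem_normalizer_commutator_of_mem {G : Type*} [Group G] (V Z : Subgroup G) {g : G}
    (hV : g ∈ Subgroup.normalizer (V : Set G)) (hZ : g ∈ Subgroup.normalizer (Z : Set G)) :
    g ∈ Subgroup.normalizer ((⁅V, Z⁆ : Subgroup G) : Set G) := by
  have h1 : (⁅V, Z⁆).map (MulAut.conj g).toMonoidHom = ⁅V, Z⁆ := by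
    rw [Subgroup.map_commutator, map_conj_eq_of_mem_normalizer V hV,
      map_conj_eq_of_mem_normalizer Z hZ]
  rw [Subgroup.mem_normalizer_iff]
  intro x
  constructor
  · intro hx
    rw [← h1]
    exact ⟨x, hx, rfl⟩
  · intro hx
    rw [← h1] at hx
    obtain ⟨y, hy, hxy⟩ := hx
    have h2 : g * y * g⁻¹ = g * x * g⁻¹ := hxy
    have h3 : y = x := by
      have := congrArg (fun t => g⁻¹ * t * g) h2
      simpa [mul_assoc] using this
    rw [← h3]; exact hy

theorem conj_mem_centralizer {G : Type*} [Group G] (Y : Subgroup G) {t c : G}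
    (ht : t ∈ Subgroup.normalizer (Y : Set G)) (hc : c ∈ Subgroup.centralizer (Y : Set G)) :
    t * c * t⁻¹ ∈ Subgroup.centralizer (Y : Set G) := by
  rw [Subgroup.mem_centralizer_iff]
  intro y hy
  have hy' : t⁻¹ * y * t ∈ Y := by
    have := (Subgroup.mem_normalizer_iff.mp (Subgroup.inv_mem _ ht) y).mp hy
    simpa using this
  have h1 := Subgroup.mem_centralizer_iff.mp hc _ hy'
  calc y * (t * c * t⁻¹) = t * ((t⁻¹ * y * t) * c) * t⁻¹ := by group
    _ = t * (c * (t⁻¹ * y * t)) * t⁻¹ := by rw [h1]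
    _ = t * c * t⁻¹ * y := by group

theorem le_centralizer_of_commutator_eq {G : Type*} [Group G] (T A Y : Subgroup G)
    (hTa : ⁅T, A⁆ = T) (hTY : T ≤ Subgroup.normalizer (Y : Set G))
    (hA : A ≤ Subgroup.centralizer (Y : Set G)) : T ≤ Subgroup.centralizer (Y : Set G) := by
  have h1 : ⁅T, A⁆ ≤ Subgroup.centralizer (Y : Set G) := by
    rw [Subgroup.commutator_le]
    intro t ht a' ha'
    rw [commutatorElement_def]
    exact Subgroup.mul_mem _ (conj_mem_centralizer Y (hTY ht) (hA ha'))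
      (Subgroup.inv_mem _ (hA ha'))
  rw [hTa] at h1
  exact h1

/-- **Dichotomy** for a transvection `a` and a nontrivial `p'`-subgroup `Z` normalized by
`M = T⟨a⟩` (with `T = [T, a]`): `M` centralizes `C_V(Z)` and `[V, M] ≤ [V, Z]`. -/
theorem ff_dichotomy {G : Type*} [Group G] [Finite G] {p : ℕ} [Fact p.Prime] (V T Z : Subgroup G)
    (hV : Cfsg.IsElementaryAbelian p V) (a : G)
    (haV : a ∈ Subgroup.normalizer (V : Set G)) (hTV : T ≤ Subgroup.normalizer (V : Set G))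
    (hcomm : Nat.card ↥(⁅V, Subgroup.zpowers a⁆) = p)
    (hT : (Nat.card T).Coprime p) (haT : a ∈ Subgroup.normalizer (T : Set G))
    (hTa : ⁅T, Subgroup.zpowers a⁆ = T)
    (hf : T ⊓ Subgroup.centralizer (V : Set G) = ⊥)
    (hZT : Z ≤ T) (hZ1 : Z ≠ ⊥) (hTZ : T ≤ Subgroup.normalizer (Z : Set G))
    (haZ : a ∈ Subgroup.normalizer (Z : Set G)) :
    T ⊔ Subgroup.zpowers a ≤
        Subgroup.centralizer ((V ⊓ Subgroup.centralizer (Z : Set G) : Subgroup G) : Set G) ∧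
      ⁅V, T ⊔ Subgroup.zpowers a⁆ ≤ ⁅V, Z⁆ := by
  classical
  have hp : p.Prime := Fact.out
  haveI : IsMulCommutative V := hV.1
  obtain ⟨A, hA⟩ : ∃ A : Subgroup G, A = Subgroup.zpowers a := ⟨_, rfl⟩
  rw [← hA] at hcomm hTa ⊢
  have hAV : A ≤ Subgroup.normalizer (V : Set G) := by rw [hA]; exact Subgroup.zpowers_le.mpr haV
  have hAZ : A ≤ Subgroup.normalizer (Z : Set G) := by rw [hA]; exact Subgroup.zpowers_le.mpr haZ
  have hZV : Z ≤ Subgroup.normalizer (V : Set G) := hZT.trans hTV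
  have hVp : IsPGroup p V := fun v =>
    ⟨1, Subtype.ext (by rw [pow_one, Subgroup.coe_pow]; exact hV.2 v v.2)⟩
  have hcopZ : (Nat.card Z).Coprime (Nat.card V) := by
    obtain ⟨k, hk⟩ := IsPGroup.iff_card.mp hVp
    rw [hk]
    exact Nat.Coprime.pow_right k (Nat.Coprime.coprime_dvd_left (Subgroup.card_dvd_of_le hZT) hT)
  obtain ⟨h1, h2⟩ := Cfsg.Agent.Lib.helper8.abelian_fixed_commutator Z V hZV hcopZ
  obtain ⟨X, hX⟩ : ∃ X : Subgroup G, X = V ⊓ Subgroup.centralizer (Z : Set G) := ⟨_, rfl⟩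
  obtain ⟨Y, hY⟩ : ∃ Y : Subgroup G, Y = ⁅V, Z⁆ := ⟨_, rfl⟩
  rw [← hX, ← hY] at h1 h2 ⊢
  have hXV : X ≤ V := by rw [hX]; exact inf_le_left
  have hYV : Y ≤ V := by rw [hY]; exact commutator_le_of_le_normalizer V Z hZV
  have hTX : T ≤ Subgroup.normalizer (X : Set G) := fun t ht => by
    rw [hX]; exact mem_normalizer_inf_centralizer V Z (hTV ht) (hTZ ht)
  have hTY : T ≤ Subgroup.normalizer (Y : Set G) := fun t ht => by
    rw [hY]; exact mem_normalizer_commutator_of_mem V Z (hTV ht) (hTZ ht)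
  have hAX : A ≤ Subgroup.normalizer (X : Set G) := fun t ht => by
    rw [hX]; exact mem_normalizer_inf_centralizer V Z (hAV ht) (hAZ ht)
  have hAY : A ≤ Subgroup.normalizer (Y : Set G) := fun t ht => by
    rw [hY]; exact mem_normalizer_commutator_of_mem V Z (hAV ht) (hAZ ht)
  obtain ⟨D, hD⟩ : ∃ D : Subgroup G, D = ⁅V, A⁆ := ⟨_, rfl⟩
  rw [← hD] at hcomm
  have hXD : ⁅X, A⁆ ≤ X ⊓ D :=
    le_inf (commutator_le_of_le_normalizer X A hAX) (by rw [hD]; exact Subgroup.commutator_mono hXV le_rfl)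
  have hYD : ⁅Y, A⁆ ≤ Y ⊓ D :=
    le_inf (commutator_le_of_le_normalizer Y A hAY) (by rw [hD]; exact Subgroup.commutator_mono hYV le_rfl)
  have hsub : ∀ K : Subgroup G, K ≤ D → K = ⊥ ∨ K = D := by
    intro K hK
    have h3 : Nat.card K ∣ p := hcomm ▸ Subgroup.card_dvd_of_le hK
    rcases (Nat.dvd_prime hp).mp h3 with h | h
    · left; exact Subgroup.card_eq_one.mp h
    · right; exact Subgroup.eq_of_le_of_card_ge hK (by rw [h, hcomm])
  have hD1 : D ≠ ⊥ := by
    intro h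
    rw [h, Subgroup.card_bot] at hcomm
    exact hp.one_lt.ne hcomm
  have hor : X ⊓ D = ⊥ ∨ Y ⊓ D = ⊥ := by
    rcases hsub (X ⊓ D) inf_le_right with h | h
    · exact Or.inl h
    · rcases hsub (Y ⊓ D) inf_le_right with h' | h'
      · exact Or.inr h'
      · exfalso
        apply hD1
        have hDX : D ≤ X := by rw [← h]; exact inf_le_left
        have hDY : D ≤ Y := by rw [← h']; exact inf_le_left
        rw [eq_bot_iff, ← h1]
        exact le_inf hDX hDY
  rcases hor with hXb | hYb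
  · have hAcX : A ≤ Subgroup.centralizer (X : Set G) := by
      have h3 : ⁅X, A⁆ = ⊥ := by rw [eq_bot_iff, ← hXb]; exact hXD
      exact Subgroup.le_centralizer_iff.mp (Subgroup.commutator_eq_bot_iff_le_centralizer.mp h3)
    have hTcX : T ≤ Subgroup.centralizer (X : Set G) :=
      le_centralizer_of_commutator_eq T A X hTa hTX hAcX
    have hMX : T ⊔ A ≤ Subgroup.centralizer (X : Set G) := sup_le hTcX hAcX
    refine ⟨hMX, ?_⟩
    rw [Subgroup.commutator_le]
    intro v hv m hm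
    have hv' : v ∈ X ⊔ Y := by rw [h2]; exact hv
    obtain ⟨x, hx, y, hy, rfl⟩ :=
      Cfsg.Agent.Lib.helper10.exists_mul_of_mem_sup_of_normalizes (A := X) (B := Y)
      (fun x hx y hy => by
        have hc : x * y = y * x :=
          congrArg Subtype.val (hV.1.is_comm.comm ⟨x, hXV hx⟩ ⟨y, hYV hy⟩)
        have : x⁻¹ * y * x = y := by
          calc x⁻¹ * y * x = x⁻¹ * (y * x) := by group
            _ = x⁻¹ * (x * y) := by rw [hc]
            _ = y := by group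
        rw [this]; exact hy) hv'
    have hmN : m ∈ Subgroup.normalizer (Y : Set G) := (sup_le hTY hAY) hm
    have hmx : x * m = m * x := Subgroup.mem_centralizer_iff.mp (hMX hm) x hx
    have h5 : m * y⁻¹ * m⁻¹ ∈ Y := (Subgroup.mem_normalizer_iff.mp hmN _).mp (Y.inv_mem hy)
    have h6 : y * (m * y⁻¹ * m⁻¹) ∈ Y := Y.mul_mem hy h5
    have hxc : x * (y * (m * y⁻¹ * m⁻¹)) = (y * (m * y⁻¹ * m⁻¹)) * x :=
      congrArg Subtype.val (hV.1.is_comm.comm ⟨x, hXV hx⟩ ⟨_, hYV h6⟩)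
    have e1 : x⁻¹ * m⁻¹ = m⁻¹ * x⁻¹ := by rw [← mul_inv_rev, ← mul_inv_rev, hmx]
    have e2 : ⁅x * y, m⁆ = y * (m * y⁻¹ * m⁻¹) := by
      rw [commutatorElement_def]
      calc x * y * m * (x * y)⁻¹ * m⁻¹ = x * (y * m * y⁻¹) * (x⁻¹ * m⁻¹) := by group
        _ = x * (y * m * y⁻¹) * (m⁻¹ * x⁻¹) := by rw [e1]
        _ = (x * (y * (m * y⁻¹ * m⁻¹))) * x⁻¹ := by group
        _ = ((y * (m * y⁻¹ * m⁻¹)) * x) * x⁻¹ := by rw [hxc]
        _ = y * (m * y⁻¹ * m⁻¹) := by group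
    rw [e2]
    exact h6
  · exfalso
    have hAcY : A ≤ Subgroup.centralizer (Y : Set G) := by
      have h3 : ⁅Y, A⁆ = ⊥ := by rw [eq_bot_iff, ← hYb]; exact hYD
      exact Subgroup.le_centralizer_iff.mp (Subgroup.commutator_eq_bot_iff_le_centralizer.mp h3)
    have hTcY : T ≤ Subgroup.centralizer (Y : Set G) :=
      le_centralizer_of_commutator_eq T A Y hTa hTY hAcY
    have hZcY : Z ≤ Subgroup.centralizer (Y : Set G) := hZT.trans hTcY
    have h7 : ⁅Y, Z⁆ = ⊥ :=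
      Subgroup.commutator_eq_bot_iff_le_centralizer.mpr (Subgroup.le_centralizer_iff.mp hZcY)
    have h8 := Cfsg.Agent.Lib.helper8.commutator_commutator_eq Z V hZV hcopZ
      (Or.inr (Cfsg.Agent.Lib.helper8.isSolvable_of_isMulCommutative V))
    rw [← hY, h7] at h8
    have h9 : Z ≤ Subgroup.centralizer (V : Set G) := by
      have h10 : ⁅V, Z⁆ = ⊥ := by rw [← hY]; exact h8.symm
      exact Subgroup.le_centralizer_iff.mp (Subgroup.commutator_eq_bot_iff_le_centralizer.mp h10)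
    apply hZ1
    rw [eq_bot_iff, ← hf]
    exact le_inf hZT h9

/-- A subgroup `L` of `Q⟨a⟩` containing two distinct subgroups of order `p` acts faithfully on
`[V, L]`. -/
theorem ff_faithful_on_commutator {G : Type*} [Group G] [Finite G] {p : ℕ} [Fact p.Prime]
    (V Q A B L : Subgroup G) (hV : Cfsg.IsElementaryAbelian p V)
    (hLV : L ≤ Subgroup.normalizer (V : Set G)) (hQ : (Nat.card Q).Coprime p)
    (hcardA : Nat.card A = p) (hcardB : Nat.card B = p) (hAB : A ≠ B) (hAL : A ≤ L) (hBL : B ≤ L)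
    (hAQ : A ≤ Subgroup.normalizer (Q : Set G)) (hLQA : L ≤ Q ⊔ A)
    (hf : L ⊓ Subgroup.centralizer (V : Set G) = ⊥) :
    L ⊓ Subgroup.centralizer ((⁅V, L⁆ : Subgroup G) : Set G) = ⊥ := by
  classical
  have hp : p.Prime := Fact.out
  have hpsub : ∀ P : Subgroup G, P ≤ L → IsPGroup p P → Nat.card P ∣ p := by
    intro P hPL hP
    have h1 : Nat.card P ∣ Nat.card (Q ⊔ A : Subgroup G) :=
      Subgroup.card_dvd_of_le (hPL.trans hLQA)
    have h2 := Cfsg.Agent.Lib.helper7.card_sup_dvd_of_le_normalizer Q A hAQ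
    rw [hcardA] at h2
    obtain ⟨k, hk⟩ := IsPGroup.iff_card.mp hP
    have h3 : Nat.card P ∣ Nat.card Q * p := h1.trans h2
    have h4 : (Nat.card P).Coprime (Nat.card Q) := by
      rw [hk]; exact Nat.Coprime.pow_left k hQ.symm
    exact h4.dvd_of_dvd_mul_left h3
  obtain ⟨W, hWdef⟩ : ∃ W : Subgroup G, W = ⁅V, L⁆ := ⟨_, rfl⟩
  rw [← hWdef]
  have hWV : W ≤ V := by rw [hWdef]; exact commutator_le_of_le_normalizer V L hLV
  have hLW : L ≤ Subgroup.normalizer (W : Set G) := by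
    rw [hWdef]; exact le_normalizer_commutator_right' V L
  have hK0p : IsPGroup p ↥(L ⊓ Subgroup.centralizer (W : Set G)) := by
    rintro ⟨g, hg⟩
    refine ⟨1, Subtype.ext ?_⟩
    rw [pow_one, Subgroup.coe_pow, Subgroup.coe_one]
    have hgp : g ^ p ∈ L ⊓ Subgroup.centralizer (V : Set G) := by
      refine ⟨L.pow_mem hg.1 p, ?_⟩
      show g ^ p ∈ Subgroup.centralizer (V : Set G)
      rw [Subgroup.mem_centralizer_iff]
      intro v hv
      have hw : g * v * g⁻¹ * v⁻¹ ∈ W := by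
        rw [hWdef, Subgroup.commutator_comm]
        exact Subgroup.commutator_mem_commutator hg.1 hv
      have hgw : g * (g * v * g⁻¹ * v⁻¹) = (g * v * g⁻¹ * v⁻¹) * g :=
        (Subgroup.mem_centralizer_iff.mp hg.2 _ hw).symm
      have h1 := conj_pow_of_commute_commutator g v hgw p
      rw [hV.2 _ (hWV hw), one_mul] at h1
      calc v * g ^ p = (g ^ p * v * (g ^ p)⁻¹) * g ^ p := by rw [h1]
        _ = g ^ p * v := by group
    rw [hf, Subgroup.mem_bot] at hgp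
    exact hgp
  have hLK0 : L ≤ Subgroup.normalizer
      ((L ⊓ Subgroup.centralizer (W : Set G) : Subgroup G) : Set G) := by
    apply le_normalizer_of_conj_mem
    intro l hl k hk
    refine ⟨L.mul_mem (L.mul_mem hl hk.1) (L.inv_mem hl), ?_⟩
    exact conj_mem_centralizer W (hLW hl) hk.2
  have hK0le : ∀ D : Subgroup G, D ≤ L → Nat.card D = p →
      L ⊓ Subgroup.centralizer (W : Set G) ≤ D := by
    intro D hDL hDcard
    have hDp : IsPGroup p D := IsPGroup.of_card (n := 1) (by rw [hDcard, pow_one])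
    have hPp : IsPGroup p ↥(D ⊔ (L ⊓ Subgroup.centralizer (W : Set G))) :=
      IsPGroup.to_sup_of_normal_right' hDp hK0p (hDL.trans hLK0)
    have h1 := hpsub _ (sup_le hDL inf_le_left) hPp
    have h2 : D = D ⊔ (L ⊓ Subgroup.centralizer (W : Set G)) :=
      Subgroup.eq_of_le_of_card_ge le_sup_left (by rw [hDcard]; exact Nat.le_of_dvd hp.pos h1)
    rw [h2]; exact le_sup_right
  have hprime_eq : ∀ D : Subgroup G, Nat.card D = p → ∀ k ∈ D, k ≠ 1 → Subgroup.zpowers k = D := by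
    intro D hDcard k hk hk1
    have hle : Subgroup.zpowers k ≤ D := Subgroup.zpowers_le.mpr hk
    have h1 : Nat.card (Subgroup.zpowers k) ∣ p := hDcard ▸ Subgroup.card_dvd_of_le hle
    rw [Nat.card_zpowers] at h1
    have h2 : orderOf k = p := by
      rcases (Nat.dvd_prime hp).mp h1 with h | h
      · exact absurd (orderOf_eq_one_iff.mp h) hk1
      · exact h
    exact Subgroup.eq_of_le_of_card_ge hle (by rw [Nat.card_zpowers, h2, hDcard])
  rw [eq_bot_iff]
  intro k hk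
  rw [Subgroup.mem_bot]
  by_contra hk1
  have hkA := hK0le A hAL hcardA hk
  have hkB := hK0le B hBL hcardB hk
  exact hAB ((hprime_eq A hcardA k hkA hk1).symm.trans (hprime_eq B hcardB k hkB hk1))

theorem isSolvable_zpowers' {G : Type*} [Group G] (a : G) : IsSolvable ↥(Subgroup.zpowers a) :=
  isSolvable_of_comm (fun x y => by
    obtain ⟨x, hx⟩ := x
    obtain ⟨y, hy⟩ := y
    obtain ⟨m, rfl⟩ := Subgroup.mem_zpowers_iff.mp hx
    obtain ⟨n, rfl⟩ := Subgroup.mem_zpowers_iff.mp hy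
    exact Subtype.ext (by
      show a ^ m * a ^ n = a ^ n * a ^ m
      rw [← zpow_add, ← zpow_add, add_comm]))

theorem mem_normalizer_inf' {G : Type*} [Group G] (X Y : Subgroup G) {g : G}
    (hX : g ∈ Subgroup.normalizer (X : Set G)) (hY : g ∈ Subgroup.normalizer (Y : Set G)) :
    g ∈ Subgroup.normalizer ((X ⊓ Y : Subgroup G) : Set G) := by
  rw [Subgroup.mem_normalizer_iff]
  intro x
  rw [Subgroup.mem_inf, Subgroup.mem_inf, ← Subgroup.mem_normalizer_iff.mp hX x,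
    ← Subgroup.mem_normalizer_iff.mp hY x]

/-- Basic facts on `T = [Q, ⟨a⟩]`. -/
theorem ff_T_facts {G : Type*} [Group G] [Finite G] {p : ℕ} [Fact p.Prime] (V Q : Subgroup G)
    (a : G) (hQV : Q ≤ Subgroup.normalizer (V : Set G)) (hap : orderOf a = p)
    (hQ : (Nat.card Q).Coprime p) (haQ : a ∈ Subgroup.normalizer (Q : Set G))
    (hf : (Q ⊔ Subgroup.zpowers a) ⊓ Subgroup.centralizer (V : Set G) = ⊥) :
    ⁅Q, Subgroup.zpowers a⁆ ≤ Q ∧ ⁅⁅Q, Subgroup.zpowers a⁆, Subgroup.zpowers a⁆ = ⁅Q, Subgroup.zpowers a⁆ ∧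
      a ∈ Subgroup.normalizer ((⁅Q, Subgroup.zpowers a⁆ : Subgroup G) : Set G) ∧
      (Nat.card ↥(⁅Q, Subgroup.zpowers a⁆)).Coprime p ∧
      ⁅Q, Subgroup.zpowers a⁆ ≤ Subgroup.normalizer (V : Set G) ∧
      ⁅Q, Subgroup.zpowers a⁆ ⊓ Subgroup.centralizer (V : Set G) = ⊥ ∧
      Q ≤ Subgroup.normalizer ((⁅Q, Subgroup.zpowers a⁆ : Subgroup G) : Set G) := by
  have hAQ : Subgroup.zpowers a ≤ Subgroup.normalizer (Q : Set G) := Subgroup.zpowers_le.mpr haQ
  have hcopA : (Nat.card (Subgroup.zpowers a)).Coprime (Nat.card Q) := by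
    rw [Nat.card_zpowers, hap]; exact hQ.symm
  have hTQ : ⁅Q, Subgroup.zpowers a⁆ ≤ Q := commutator_le_of_le_normalizer Q _ hAQ
  refine ⟨hTQ, Cfsg.Agent.Lib.helper8.commutator_commutator_eq _ Q hAQ hcopA
    (Or.inl (isSolvable_zpowers' a)), le_normalizer_commutator_right' Q _ (Subgroup.mem_zpowers a),
    Nat.Coprime.coprime_dvd_left (Subgroup.card_dvd_of_le hTQ) hQ, hTQ.trans hQV, ?_,
    le_normalizer_commutator_left Q _⟩
  rw [eq_bot_iff, ← hf]
  exact inf_le_inf_right _ (hTQ.trans le_sup_left)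

set_option maxHeartbeats 1000000 in
/-- For `p = 3` the commutator `c = [x, a]` does not commute with its conjugate under `a`. -/
theorem ff_c_noncomm {G : Type*} [Group G] [Finite G] {p : ℕ} [Fact p.Prime] (hp3 : p = 3)
    (V Q : Subgroup G) (hV : Cfsg.IsElementaryAbelian p V) (a : G)
    (haV : a ∈ Subgroup.normalizer (V : Set G)) (hQV : Q ≤ Subgroup.normalizer (V : Set G))
    (hap : orderOf a = p)
    (hcomm : Nat.card ↥(⁅V, Subgroup.zpowers a⁆) = p)
    (hQ : (Nat.card Q).Coprime p) (haQ : a ∈ Subgroup.normalizer (Q : Set G))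
    (hf : (Q ⊔ Subgroup.zpowers a) ⊓ Subgroup.centralizer (V : Set G) = ⊥)
    (x : G) (hx : x ∈ Q) (hxa : x * a ≠ a * x) :
    (x * a * x⁻¹ * a⁻¹) * (a * (x * a * x⁻¹ * a⁻¹) * a⁻¹) ≠
      (a * (x * a * x⁻¹ * a⁻¹) * a⁻¹) * (x * a * x⁻¹ * a⁻¹) := by
  classical
  subst hp3
  intro hcm
  have hLle : Subgroup.zpowers a ⊔ (Subgroup.zpowers a).map (MulAut.conj x).toMonoidHom ≤
      Q ⊔ Subgroup.zpowers a := by
    refine sup_le le_sup_right ?_
    rintro _ ⟨y, hy, rfl⟩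
    exact Subgroup.mul_mem _ (Subgroup.mul_mem _ (Subgroup.mem_sup_left hx)
      (Subgroup.mem_sup_right hy)) (Subgroup.inv_mem _ (Subgroup.mem_sup_left hx))
  have hfL : (Subgroup.zpowers a ⊔ (Subgroup.zpowers a).map (MulAut.conj x).toMonoidHom) ⊓
      Subgroup.centralizer (V : Set G) = ⊥ := by
    rw [eq_bot_iff, ← hf]; exact inf_le_inf_right _ hLle
  obtain ⟨-, -, -, ⟨e⟩⟩ := ff_pair_core V Q hV a x haV (hQV hx) hap hcomm hQ hx haQ hxa _ rfl hfL
  obtain ⟨L, hL⟩ : ∃ L : Subgroup G,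
      L = Subgroup.zpowers a ⊔ (Subgroup.zpowers a).map (MulAut.conj x).toMonoidHom := ⟨_, rfl⟩
  rw [← hL] at e
  have haL : a ∈ L := by rw [hL]; exact Subgroup.mem_sup_left (Subgroup.mem_zpowers a)
  have hbL : x * a * x⁻¹ ∈ L := by
    rw [hL]
    exact Subgroup.mem_sup_right (Subgroup.mem_map.mpr ⟨a, Subgroup.mem_zpowers a, rfl⟩)
  have hcL : x * a * x⁻¹ * a⁻¹ ∈ L := L.mul_mem hbL (L.inv_mem haL)
  have hcQ : x * a * x⁻¹ * a⁻¹ ∈ Q := by
    have : x * a * x⁻¹ * a⁻¹ = x * (a * x⁻¹ * a⁻¹) := by group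
    rw [this]
    exact Q.mul_mem hx ((Subgroup.mem_normalizer_iff.mp haQ x⁻¹).mp (Q.inv_mem hx))
  have hordQ : orderOf (x * a * x⁻¹ * a⁻¹) ∣ Nat.card Q := by
    have := orderOf_dvd_natCard (⟨_, hcQ⟩ : Q)
    rwa [Subgroup.orderOf_mk] at this
  have hc8 : (x * a * x⁻¹ * a⁻¹) ^ 8 = 1 := by
    have h24 : orderOf (x * a * x⁻¹ * a⁻¹) ∣ 3 * 8 := by
      have h1 := Cfsg.Agent.Lib.helper3.sl23_pow24 (e ⟨_, hcL⟩)
      rw [← map_pow] at h1
      have h2 : (⟨_, hcL⟩ : L) ^ 24 = 1 := e.injective (by rw [h1, map_one])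
      have h3 := congrArg Subtype.val h2
      rw [Subgroup.coe_pow] at h3
      exact orderOf_dvd_of_pow_eq_one h3
    have hc3 : (orderOf (x * a * x⁻¹ * a⁻¹)).Coprime 3 :=
      Nat.Coprime.coprime_dvd_left hordQ hQ
    exact orderOf_dvd_iff_pow_eq_one.mp (hc3.dvd_of_dvd_mul_left h24)
  have hγ := sl23_noncomm (e ⟨a, haL⟩) (e ⟨_, hcL⟩) ?_ ?_ ?_ ?_
  · have h1 : (⟨_, hcL⟩ : L) = 1 := e.injective (by rw [hγ, map_one])
    have h2 : x * a * x⁻¹ * a⁻¹ = 1 := congrArg Subtype.val h1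
    apply hxa
    calc x * a = (x * a * x⁻¹ * a⁻¹) * (a * x) := by group
      _ = a * x := by rw [h2, one_mul]
  · rw [← map_pow]
    have : (⟨a, haL⟩ : L) ^ 3 = 1 := Subtype.ext (by
      rw [Subgroup.coe_pow]
      show a ^ 3 = 1
      have := pow_orderOf_eq_one a
      rwa [hap] at this)
    rw [this, map_one]
  · rw [← map_pow]
    have : (⟨_, hcL⟩ : L) ^ 8 = 1 := Subtype.ext (by
      rw [Subgroup.coe_pow]; exact hc8)
    rw [this, map_one]
  · rw [← map_mul, ← map_pow]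
    have : ((⟨_, hcL⟩ : L) * ⟨a, haL⟩) ^ 3 = 1 := Subtype.ext (by
      rw [Subgroup.coe_pow]
      show (x * a * x⁻¹ * a⁻¹ * a) ^ 3 = 1
      have h1 : x * a * x⁻¹ * a⁻¹ * a = x * a * x⁻¹ := by group
      have h2 := pow_orderOf_eq_one a
      rw [hap] at h2
      rw [h1, conj_pow, h2]; group)
    rw [this, map_one]
  · rw [← map_inv, ← map_mul, ← map_mul, ← map_mul, ← map_mul]
    congr 1
    exact Subtype.ext hcm

set_option maxHeartbeats 1000000 in
/-- There is `y ∈ Q` not commuting with `a` such that `⟨a, a^y⟩` meets the centre of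
`T = [Q, ⟨a⟩]` nontrivially. -/
theorem ff_exists_central {G : Type*} [Group G] [Finite G] {p : ℕ} [Fact p.Prime] (V Q : Subgroup G)
    (hV : Cfsg.IsElementaryAbelian p V) (a : G)
    (haV : a ∈ Subgroup.normalizer (V : Set G)) (hQV : Q ≤ Subgroup.normalizer (V : Set G))
    (hap : orderOf a = p)
    (hcomm : Nat.card ↥(⁅V, Subgroup.zpowers a⁆) = p)
    (hQ : (Nat.card Q).Coprime p) (haQ : a ∈ Subgroup.normalizer (Q : Set G))
    (hf : (Q ⊔ Subgroup.zpowers a) ⊓ Subgroup.centralizer (V : Set G) = ⊥)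
    (x₀ : G) (hx₀ : x₀ ∈ Q) (hx₀a : x₀ * a ≠ a * x₀) :
    ∃ y ∈ Q, y * a ≠ a * y ∧ ∃ z : G, z ≠ 1 ∧ z ∈ ⁅Q, Subgroup.zpowers a⁆ ∧
      (∀ t ∈ ⁅Q, Subgroup.zpowers a⁆, t * z = z * t) ∧
      z ∈ Subgroup.zpowers a ⊔ (Subgroup.zpowers a).map (MulAut.conj y).toMonoidHom := by
  classical
  have hp : p.Prime := Fact.out
  obtain ⟨hTQ, hTa, haT, hTcop, hTV, hfT, hQT⟩ := ff_T_facts V Q a hQV hap hQ haQ hf
  have hcase := ff_commutator_pgroup V Q hV a haV hQV hap hcomm hQ haQ hf x₀ hx₀ hx₀a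
  obtain ⟨A, hA⟩ : ∃ A : Subgroup G, A = Subgroup.zpowers a := ⟨_, rfl⟩
  rw [← hA] at hcomm hTQ hTa haT hTcop hTV hfT hQT hcase ⊢
  obtain ⟨T, hT⟩ : ∃ T : Subgroup G, T = ⁅Q, A⁆ := ⟨_, rfl⟩
  rw [← hT] at hTQ hTa haT hTcop hTV hfT hQT hcase ⊢
  have haA : a ∈ A := by rw [hA]; exact Subgroup.mem_zpowers a
  obtain ⟨Z1, hZ1⟩ : ∃ Z1 : Subgroup G, Z1 = T ⊓ Subgroup.centralizer (T : Set G) := ⟨_, rfl⟩
  have hZ1T : Z1 ≤ T := by rw [hZ1]; exact inf_le_left
  have hZ1c : ∀ z ∈ Z1, ∀ t ∈ T, t * z = z * t := by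
    intro z hz t ht
    rw [hZ1] at hz
    exact Subgroup.mem_centralizer_iff.mp hz.2 t ht
  have haZ1 : a ∈ Subgroup.normalizer (Z1 : Set G) := by
    rw [hZ1]; exact mem_normalizer_inf_centralizer T T haT haT
  have hTZ1 : T ≤ Subgroup.normalizer (Z1 : Set G) := fun t ht => by
    rw [hZ1]
    exact mem_normalizer_inf_centralizer T T (Subgroup.le_normalizer ht) (Subgroup.le_normalizer ht)
  have hT1 : T ≠ ⊥ := by
    intro h
    have h1 : ⁅x₀, a⁆ ∈ T := by rw [hT]; exact Subgroup.commutator_mem_commutator hx₀ haA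
    rw [h, Subgroup.mem_bot, commutatorElement_def] at h1
    apply hx₀a
    calc x₀ * a = (x₀ * a * x₀⁻¹ * a⁻¹) * (a * x₀) := by group
      _ = a * x₀ := by rw [h1, one_mul]
  have hcmem : ∀ (K : Subgroup G), a ∈ Subgroup.normalizer (K : Set G) → ∀ y ∈ K,
      y * a * y⁻¹ * a⁻¹ ∈ K := by
    intro K hK y hy
    have : y * a * y⁻¹ * a⁻¹ = y * (a * y⁻¹ * a⁻¹) := by group
    rw [this]
    exact K.mul_mem hy ((Subgroup.mem_normalizer_iff.mp hK y⁻¹).mp (K.inv_mem hy))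
  have hcne : ∀ y : G, y * a ≠ a * y → y * a * y⁻¹ * a⁻¹ ≠ 1 := by
    intro y hya h1
    apply hya
    calc y * a = (y * a * y⁻¹ * a⁻¹) * (a * y) := by group
      _ = a * y := by rw [h1, one_mul]
  have hcL : ∀ y : G, y * a * y⁻¹ * a⁻¹ ∈ A ⊔ A.map (MulAut.conj y).toMonoidHom := by
    intro y
    exact Subgroup.mul_mem _ (Subgroup.mem_sup_right (Subgroup.mem_map.mpr ⟨a, haA, rfl⟩))
      (Subgroup.inv_mem _ (Subgroup.mem_sup_left haA))
  have hAcomm : ∀ z : G, z * a = a * z → z ∈ Subgroup.centralizer (A : Set G) := by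
    intro z hz
    rw [Subgroup.mem_centralizer_iff]
    intro h hh
    rw [hA] at hh
    obtain ⟨k, rfl⟩ := Subgroup.mem_zpowers_iff.mp hh
    exact ((Commute.zpow_left (show Commute a z from hz.symm) k).eq)
  have hcc : ∀ c c' : G, c * c' * c⁻¹ * c'⁻¹ = 1 → c * c' = c' * c := by
    intro c c' h
    calc c * c' = (c * c' * c⁻¹ * c'⁻¹) * (c' * c) := by group
      _ = c' * c := by rw [h, one_mul]
  rcases hcase with ⟨h2, hT3⟩ | ⟨h3, hT2, hnc⟩
  · subst h2
    haveI : Fact (Nat.Prime 3) := ⟨Nat.prime_three⟩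
    by_cases hall : ∀ z ∈ Z1, z * a = a * z
    · exfalso
      haveI : Nontrivial ↥T := (Subgroup.nontrivial_iff_ne_bot T).mpr hT1
      haveI := hT3.center_nontrivial
      obtain ⟨z, hz⟩ := exists_ne (1 : Subgroup.center ↥T)
      have hz0 : ((z : ↥T) : G) ∈ Z1 := by
        rw [hZ1]
        refine ⟨(z : ↥T).2, ?_⟩
        show ((z : ↥T) : G) ∈ Subgroup.centralizer (T : Set G)
        rw [Subgroup.mem_centralizer_iff]
        intro t ht
        have := Subgroup.mem_center_iff.mp z.2 ⟨t, ht⟩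
        exact congrArg Subtype.val this
      have hZ1ne : Z1 ≠ ⊥ := by
        intro h
        rw [h, Subgroup.mem_bot] at hz0
        apply hz
        exact Subtype.ext (Subtype.ext hz0)
      obtain ⟨-, hle⟩ := ff_dichotomy V T Z1 hV a haV hTV (by rw [← hA]; exact hcomm) hTcop haT
        (by rw [← hA]; exact hTa) hfT hZ1T hZ1ne hTZ1 haZ1
      rw [← hA] at hle
      have hZ1V : Z1 ≤ Subgroup.normalizer (V : Set G) := hZ1T.trans hTV
      haveI : IsMulCommutative V := hV.1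
      have hVp : IsPGroup 2 V := fun v =>
        ⟨1, Subtype.ext (by rw [pow_one, Subgroup.coe_pow]; exact hV.2 v v.2)⟩
      have hcopZ : (Nat.card Z1).Coprime (Nat.card V) := by
        obtain ⟨k, hk⟩ := IsPGroup.iff_card.mp hVp
        rw [hk]
        exact Nat.Coprime.pow_right k
          (Nat.Coprime.coprime_dvd_left (Subgroup.card_dvd_of_le hZ1T) hTcop)
      obtain ⟨h1, -⟩ := Cfsg.Agent.Lib.helper8.abelian_fixed_commutator Z1 V hZ1V hcopZ
      have hAV : A ≤ Subgroup.normalizer (V : Set G) := by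
        rw [hA]; exact Subgroup.zpowers_le.mpr haV
      have hD1 : ⁅V, A⁆ ≤ ⁅V, Z1⁆ := (Subgroup.commutator_mono le_rfl le_sup_right).trans hle
      have hD2 : ⁅V, A⁆ ≤ V ⊓ Subgroup.centralizer (Z1 : Set G) := by
        refine le_inf (commutator_le_of_le_normalizer V A hAV) ?_
        intro u hu
        rw [Subgroup.mem_centralizer_iff]
        intro z hz
        have hzN : z ∈ Subgroup.normalizer ((⁅V, A⁆ : Subgroup G) : Set G) :=
          mem_normalizer_commutator_of_mem V A (hZ1V hz)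
            (Subgroup.centralizer_le_normalizer _ (hAcomm z (hall z hz)))
        have hw : z * u * z⁻¹ ∈ ⁅V, A⁆ := (Subgroup.mem_normalizer_iff.mp hzN u).mp hu
        by_cases hu1 : u = 1
        · rw [hu1, mul_one, one_mul]
        · obtain ⟨w, hw1, hw2⟩ := (Nat.card_eq_two_iff' (1 : ↥(⁅V, A⁆))).mp hcomm
          have e1 : (⟨u, hu⟩ : ↥(⁅V, A⁆)) = w := hw2 _ (fun h => hu1 (congrArg Subtype.val h))
          have e2 : (⟨z * u * z⁻¹, hw⟩ : ↥(⁅V, A⁆)) = w := hw2 _ (fun h => by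
            have h' : z * u * z⁻¹ = 1 := congrArg Subtype.val h
            apply hu1
            calc u = z⁻¹ * (z * u * z⁻¹) * z := by group
              _ = 1 := by rw [h']; group)
          have e3 : z * u * z⁻¹ = u := congrArg Subtype.val (e2.trans e1.symm)
          calc z * u = (z * u * z⁻¹) * z := by group
            _ = u * z := by rw [e3]
      have hDbot : ⁅V, A⁆ = ⊥ := by
        rw [eq_bot_iff, ← h1]
        exact le_inf hD2 hD1
      rw [hDbot, Subgroup.card_bot] at hcomm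
      exact absurd hcomm (by norm_num)
    · push_neg at hall
      obtain ⟨y, hy, hya⟩ := hall
      have hcZ : y * a * y⁻¹ * a⁻¹ ∈ Z1 := hcmem Z1 haZ1 y hy
      exact ⟨y, hTQ (hZ1T hy), hya, y * a * y⁻¹ * a⁻¹, hcne y hya, hZ1T hcZ,
        fun t ht => hZ1c _ hcZ t ht, hcL y⟩
  · haveI : Fact (Nat.Prime 2) := ⟨Nat.prime_two⟩
    have hnoncomm : ∀ y ∈ Q, y * a ≠ a * y →
        (y * a * y⁻¹ * a⁻¹) * (a * (y * a * y⁻¹ * a⁻¹) * a⁻¹) ≠
          (a * (y * a * y⁻¹ * a⁻¹) * a⁻¹) * (y * a * y⁻¹ * a⁻¹) := by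
      intro y hy hya
      exact ff_c_noncomm h3 V Q hV a haV hQV hap (by rw [← hA]; exact hcomm) hQ haQ
        hf y hy hya
    have hall : ∀ z ∈ Z1, z * a = a * z := by
      by_contra hcon
      push_neg at hcon
      obtain ⟨y, hy, hya⟩ := hcon
      have hcZ : y * a * y⁻¹ * a⁻¹ ∈ Z1 := hcmem Z1 haZ1 y hy
      have hc'T : a * (y * a * y⁻¹ * a⁻¹) * a⁻¹ ∈ T :=
        (Subgroup.mem_normalizer_iff.mp haT _).mp (hZ1T hcZ)
      exact hnoncomm y (hTQ (hZ1T hy)) hya (hZ1c _ hcZ _ hc'T).symm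
    obtain ⟨Z2, hZ2⟩ : ∃ Z2 : Subgroup G, ∀ t : G, t ∈ Z2 ↔
        (t ∈ T ∧ ∀ s ∈ T, t * s * t⁻¹ * s⁻¹ ∈ Z1) := by
      refine ⟨{ carrier := {t | t ∈ T ∧ ∀ s ∈ T, t * s * t⁻¹ * s⁻¹ ∈ Z1}
                one_mem' := ⟨T.one_mem, fun s hs => by simp⟩
                mul_mem' := ?_
                inv_mem' := ?_ }, fun t => Iff.rfl⟩
      · rintro t₁ t₂ ⟨h1, h1'⟩ ⟨h2, h2'⟩
        refine ⟨T.mul_mem h1 h2, fun s hs => ?_⟩
        have e : t₁ * t₂ * s * (t₁ * t₂)⁻¹ * s⁻¹ =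
            (t₁ * (t₂ * s * t₂⁻¹ * s⁻¹) * t₁⁻¹) * (t₁ * s * t₁⁻¹ * s⁻¹) := by group
        rw [e]
        exact Z1.mul_mem ((Subgroup.mem_normalizer_iff.mp (hTZ1 h1) _).mp (h2' s hs)) (h1' s hs)
      · rintro t ⟨h1, h1'⟩
        refine ⟨T.inv_mem h1, fun s hs => ?_⟩
        have e : t⁻¹ * s * t⁻¹⁻¹ * s⁻¹ = t⁻¹ * (t * s * t⁻¹ * s⁻¹)⁻¹ * t⁻¹⁻¹ := by group
        rw [e]
        exact (Subgroup.mem_normalizer_iff.mp (hTZ1 (T.inv_mem h1)) _).mp (Z1.inv_mem (h1' s hs))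
    have hconjZ2 : ∀ g : G, g ∈ Subgroup.normalizer (T : Set G) →
        g ∈ Subgroup.normalizer (Z1 : Set G) → ∀ y ∈ Z2, g * y * g⁻¹ ∈ Z2 := by
      intro g hgT hgZ y hy
      rw [hZ2] at hy ⊢
      refine ⟨(Subgroup.mem_normalizer_iff.mp hgT y).mp hy.1, fun s hs => ?_⟩
      have hs' : g⁻¹ * s * g ∈ T := by
        have := (Subgroup.mem_normalizer_iff.mp (Subgroup.inv_mem _ hgT) s).mp hs
        simpa using this
      have e : g * y * g⁻¹ * s * (g * y * g⁻¹)⁻¹ * s⁻¹ =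
          g * (y * (g⁻¹ * s * g) * y⁻¹ * (g⁻¹ * s * g)⁻¹) * g⁻¹ := by group
      rw [e]
      exact (Subgroup.mem_normalizer_iff.mp hgZ _).mp (hy.2 _ hs')
    by_cases hall2 : ∀ y ∈ Z2, y * a = a * y
    · exfalso
      have hAc : A ≤ Subgroup.centralizer (Z2 : Set G) := by
        intro h hh
        rw [hA] at hh
        obtain ⟨k, rfl⟩ := Subgroup.mem_zpowers_iff.mp hh
        rw [Subgroup.mem_centralizer_iff]
        intro y hy
        exact ((Commute.zpow_right (show Commute y a from hall2 y hy) k).eq)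
      have hTN2 : T ≤ Subgroup.normalizer (Z2 : Set G) :=
        le_normalizer_of_conj_mem Z2 T (fun t ht y hy =>
          hconjZ2 t (Subgroup.le_normalizer ht) (hTZ1 ht) y hy)
      have hTc : T ≤ Subgroup.centralizer (Z2 : Set G) :=
        le_centralizer_of_commutator_eq T A Z2 hTa hTN2 hAc
      have hZ2le : ∀ y ∈ Z2, y ∈ Z1 := by
        intro y hy
        rw [hZ1]
        refine ⟨((hZ2 y).mp hy).1, ?_⟩
        show y ∈ Subgroup.centralizer (T : Set G)
        rw [Subgroup.mem_centralizer_iff]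
        intro t ht
        exact (Subgroup.mem_centralizer_iff.mp (hTc ht) y hy).symm
      have hnil : Group.IsNilpotent ↥T := hT2.isNilpotent
      obtain ⟨n, hn⟩ := hnil.nilpotent'
      have key : ∀ n : ℕ, ∀ x : ↥T, x ∈ Subgroup.upperCentralSeries ↥T n → (x : G) ∈ Z1 := by
        intro n
        induction n with
        | zero =>
          intro x hx
          rw [Subgroup.upperCentralSeries_zero, Subgroup.mem_bot] at hx
          rw [hx]; exact Z1.one_mem
        | succ n ih =>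
          intro x hx
          apply hZ2le
          rw [hZ2]
          refine ⟨x.2, fun s hs => ?_⟩
          have h1 := ih _ (Subgroup.mem_upperCentralSeries_succ_iff.mp hx ⟨s, hs⟩)
          rw [commutatorElement_def] at h1
          exact h1
      apply hnc
      refine ⟨⟨fun x y => Subtype.ext ?_⟩⟩
      have hy : (y : G) ∈ Z1 := key n y (by rw [hn]; exact Subgroup.mem_top y)
      exact hZ1c _ hy _ x.2
    · push_neg at hall2
      obtain ⟨y, hy, hya⟩ := hall2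
      have hyT : y ∈ T := ((hZ2 y).mp hy).1
      have haZ2 : a ∈ Subgroup.normalizer (Z2 : Set G) := by
        rw [Subgroup.mem_normalizer_iff]
        intro x
        constructor
        · exact hconjZ2 a haT haZ1 x
        · intro hx
          have := hconjZ2 a⁻¹ (Subgroup.inv_mem _ haT) (Subgroup.inv_mem _ haZ1) _ hx
          simpa [mul_assoc] using this
      have hcZ2 : y * a * y⁻¹ * a⁻¹ ∈ Z2 := hcmem Z2 haZ2 y hy
      have hcT : y * a * y⁻¹ * a⁻¹ ∈ T := ((hZ2 _).mp hcZ2).1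
      have hc'T : a * (y * a * y⁻¹ * a⁻¹) * a⁻¹ ∈ T :=
        (Subgroup.mem_normalizer_iff.mp haT _).mp hcT
      have hzZ1 := ((hZ2 _).mp hcZ2).2 _ hc'T
      have hc'L : a * (y * a * y⁻¹ * a⁻¹) * a⁻¹ ∈ A ⊔ A.map (MulAut.conj y).toMonoidHom :=
        Subgroup.mul_mem _ (Subgroup.mul_mem _ (Subgroup.mem_sup_left haA) (hcL y))
          (Subgroup.inv_mem _ (Subgroup.mem_sup_left haA))
      refine ⟨y, hTQ hyT, hya, _, ?_, hZ1T hzZ1, fun t ht => hZ1c _ hzZ1 t ht, ?_⟩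
      · intro h1
        exact hnoncomm y (hTQ hyT) hya (hcc _ _ h1)
      · exact Subgroup.mul_mem _ (Subgroup.mul_mem _ (Subgroup.mul_mem _ (hcL y) hc'L)
          (Subgroup.inv_mem _ (hcL y))) (Subgroup.inv_mem _ hc'L)

set_option maxHeartbeats 1000000 in
/-- `E = [Q, ⟨a⟩]⟨a⟩` is generated by `a` and one conjugate `a^y`, `y ∈ Q`. -/
theorem ff_E_eq_pair {G : Type*} [Group G] [Finite G] {p : ℕ} [Fact p.Prime] (V Q : Subgroup G)
    (hV : Cfsg.IsElementaryAbelian p V) (a : G)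
    (haV : a ∈ Subgroup.normalizer (V : Set G)) (hQV : Q ≤ Subgroup.normalizer (V : Set G))
    (hap : orderOf a = p)
    (hcomm : Nat.card ↥(⁅V, Subgroup.zpowers a⁆) = p)
    (hQ : (Nat.card Q).Coprime p) (haQ : a ∈ Subgroup.normalizer (Q : Set G))
    (hf : (Q ⊔ Subgroup.zpowers a) ⊓ Subgroup.centralizer (V : Set G) = ⊥)
    (x₀ : G) (hx₀ : x₀ ∈ Q) (hx₀a : x₀ * a ≠ a * x₀) :
    ∃ y ∈ Q, y * a ≠ a * y ∧
      ⁅Q, Subgroup.zpowers a⁆ ⊔ Subgroup.zpowers a =
        Subgroup.zpowers a ⊔ (Subgroup.zpowers a).map (MulAut.conj y).toMonoidHom := by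
  classical
  have hp : p.Prime := Fact.out
  obtain ⟨y, hyQ, hya, z, hz1, hzT, hzc, hzL⟩ :=
    ff_exists_central V Q hV a haV hQV hap hcomm hQ haQ hf x₀ hx₀ hx₀a
  refine ⟨y, hyQ, hya, ?_⟩
  obtain ⟨hTQ, hTa, haT, hTcop, hTV, hfT, hQT⟩ := ff_T_facts V Q a hQV hap hQ haQ hf
  have hLle0 : Subgroup.zpowers a ⊔ (Subgroup.zpowers a).map (MulAut.conj y).toMonoidHom ≤
      Q ⊔ Subgroup.zpowers a := by
    refine sup_le le_sup_right ?_
    rintro _ ⟨h, hh, rfl⟩
    exact Subgroup.mul_mem _ (Subgroup.mul_mem _ (Subgroup.mem_sup_left hyQ)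
      (Subgroup.mem_sup_right hh)) (Subgroup.inv_mem _ (Subgroup.mem_sup_left hyQ))
  have hfL : (Subgroup.zpowers a ⊔ (Subgroup.zpowers a).map (MulAut.conj y).toMonoidHom) ⊓
      Subgroup.centralizer (V : Set G) = ⊥ := by
    rw [eq_bot_iff, ← hf]; exact inf_le_inf_right _ hLle0
  obtain ⟨hp23, hWcard, hLfaith, ⟨e⟩⟩ :=
    ff_pair_core V Q hV a y haV (hQV hyQ) hap hcomm hQ hyQ haQ hya _ rfl hfL
  obtain ⟨A, hA⟩ : ∃ A : Subgroup G, A = Subgroup.zpowers a := ⟨_, rfl⟩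
  rw [← hA] at hcomm hTQ hTa haT hTcop hTV hfT hQT hzT hzc hzL hWcard hLfaith e hf ⊢
  obtain ⟨T, hT⟩ : ∃ T : Subgroup G, T = ⁅Q, A⁆ := ⟨_, rfl⟩
  rw [← hT] at hTQ hTa haT hTcop hTV hfT hQT hzT hzc ⊢
  obtain ⟨B, hB⟩ : ∃ B : Subgroup G, B = A.map (MulAut.conj y).toMonoidHom := ⟨_, rfl⟩
  obtain ⟨L, hL⟩ : ∃ L : Subgroup G, L = A ⊔ B := ⟨_, rfl⟩
  rw [← hB, ← hL] at hzL hWcard hLfaith e ⊢
  have haA : a ∈ A := by rw [hA]; exact Subgroup.mem_zpowers a
  have hAQ : A ≤ Subgroup.normalizer (Q : Set G) := by rw [hA]; exact Subgroup.zpowers_le.mpr haQ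
  have hAV : A ≤ Subgroup.normalizer (V : Set G) := by rw [hA]; exact Subgroup.zpowers_le.mpr haV
  have hcardA : Nat.card A = p := by rw [hA, Nat.card_zpowers, hap]
  have hcardB : Nat.card B = p := by
    rw [hB, Subgroup.card_map_of_injective (MulAut.conj y).injective, hcardA]
  have hAL : A ≤ L := by rw [hL]; exact le_sup_left
  have hBL : B ≤ L := by rw [hL]; exact le_sup_right
  have hLM : L ≤ T ⊔ A := by
    rw [hL]
    refine sup_le le_sup_right ?_
    rw [hB]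
    rintro _ ⟨h, hh, rfl⟩
    have e1 : (MulAut.conj y).toMonoidHom h = ⁅y, h⁆ * h := by
      show y * h * y⁻¹ = _
      rw [commutatorElement_def]; group
    rw [e1]
    exact Subgroup.mul_mem _ (Subgroup.mem_sup_left (by
      rw [hT]; exact Subgroup.commutator_mem_commutator hyQ hh)) (Subgroup.mem_sup_right hh)
  have hAB : A ≠ B := by
    intro h
    have h1 : y * a * y⁻¹ ∈ A := by
      rw [h, hB]; exact Subgroup.mem_map.mpr ⟨a, haA, rfl⟩
    have h2 : y * a * y⁻¹ * a⁻¹ ∈ A := A.mul_mem h1 (A.inv_mem haA)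
    have h3 : y * a * y⁻¹ * a⁻¹ ∈ Q := by
      have : y * a * y⁻¹ * a⁻¹ = y * (a * y⁻¹ * a⁻¹) := by group
      rw [this]
      exact Q.mul_mem hyQ ((Subgroup.mem_normalizer_iff.mp haQ y⁻¹).mp (Q.inv_mem hyQ))
    have hAp : IsPGroup p A := IsPGroup.of_card (n := 1) (by rw [hcardA, pow_one])
    have h4 := eq_one_of_mem_of_mem_coprime A Q hAp hQ h2 h3
    apply hya
    calc y * a = (y * a * y⁻¹ * a⁻¹) * (a * y) := by group
      _ = a * y := by rw [h4, one_mul]
  obtain ⟨Z, hZ⟩ : ∃ Z : Subgroup G, Z = L ⊓ (T ⊓ Subgroup.centralizer (T : Set G)) := ⟨_, rfl⟩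
  have hzZ : z ∈ Z := by
    rw [hZ]
    refine ⟨hzL, hzT, ?_⟩
    show z ∈ Subgroup.centralizer (T : Set G)
    rw [Subgroup.mem_centralizer_iff]; exact hzc
  have hZ1 : Z ≠ ⊥ := fun h => hz1 (by rw [h, Subgroup.mem_bot] at hzZ; exact hzZ)
  have hZT : Z ≤ T := by rw [hZ]; exact inf_le_right.trans inf_le_left
  have hZL : Z ≤ L := by rw [hZ]; exact inf_le_left
  have hTZ : T ≤ Subgroup.normalizer (Z : Set G) := by
    apply le_normalizer_of_conj_mem
    intro t ht x hx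
    have hxc : t * x = x * t := by
      rw [hZ] at hx
      exact Subgroup.mem_centralizer_iff.mp hx.2.2 t ht
    have : t * x * t⁻¹ = x := by rw [hxc]; group
    rw [this]; exact hx
  have haZ : a ∈ Subgroup.normalizer (Z : Set G) := by
    rw [hZ]
    exact mem_normalizer_inf' L _ (Subgroup.le_normalizer (hAL haA))
      (mem_normalizer_inf_centralizer T T haT haT)
  obtain ⟨-, hle⟩ := ff_dichotomy V T Z hV a haV hTV (by rw [← hA]; exact hcomm) hTcop haT
    (by rw [← hA]; exact hTa) hfT hZT hZ1 hTZ haZ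
  rw [← hA] at hle
  obtain ⟨M, hM⟩ : ∃ M : Subgroup G, M = T ⊔ A := ⟨_, rfl⟩
  rw [← hM] at hle hLM ⊢
  have hMQA : M ≤ Q ⊔ A := by rw [hM]; exact sup_le (hTQ.trans le_sup_left) le_sup_right
  have hMV : M ≤ Subgroup.normalizer (V : Set G) := by rw [hM]; exact sup_le hTV hAV
  have hMf : M ⊓ Subgroup.centralizer (V : Set G) = ⊥ := by
    rw [eq_bot_iff, ← hf]; exact inf_le_inf_right _ hMQA
  have hWeq : ⁅V, M⁆ = ⁅V, L⁆ :=
    le_antisymm (hle.trans (Subgroup.commutator_mono le_rfl hZL))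
      (Subgroup.commutator_mono le_rfl hLM)
  have hK : M ⊓ Subgroup.centralizer ((⁅V, M⁆ : Subgroup G) : Set G) = ⊥ :=
    ff_faithful_on_commutator V Q A B M hV hMV hQ hcardA hcardB hAB
      (by rw [hM]; exact le_sup_right) (hBL.trans hLM) hAQ hMQA hMf
  have hMW : M ≤ Subgroup.normalizer ((⁅V, M⁆ : Subgroup G) : Set G) :=
    le_normalizer_commutator_right' V M
  have hWV : ⁅V, M⁆ ≤ V := commutator_le_of_le_normalizer V M hMV
  have hWea : Cfsg.IsElementaryAbelian p (⁅V, M⁆ : Subgroup G) :=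
    ⟨⟨⟨fun u v => Subtype.ext (by
      have h := congrArg Subtype.val (hV.1.is_comm.comm ⟨(u : G), hWV u.2⟩ ⟨(v : G), hWV v.2⟩)
      exact h)⟩⟩, fun w hw => hV.2 w (hWV hw)⟩
  have hap' : a ^ p = 1 := by rw [← hap]; exact pow_orderOf_eq_one a
  have hApow : ∀ h ∈ A, h ^ p = 1 := by
    intro h hh
    rw [hA] at hh
    obtain ⟨k, rfl⟩ := Subgroup.mem_zpowers_iff.mp hh
    rw [← zpow_natCast, ← zpow_mul, mul_comm, zpow_mul, zpow_natCast, hap', one_zpow]
  have hS : M = Subgroup.closure {g | g ∈ M ∧ g ^ p = 1} := by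
    apply le_antisymm
    · have hAcl : A ≤ Subgroup.closure {g | g ∈ M ∧ g ^ p = 1} := fun h hh =>
        Subgroup.subset_closure ⟨by rw [hM]; exact Subgroup.mem_sup_right hh, hApow h hh⟩
      have hTcl : ⁅T, A⁆ ≤ Subgroup.closure {g | g ∈ M ∧ g ^ p = 1} := by
        rw [Subgroup.commutator_le]
        intro t ht h hh
        rw [commutatorElement_def]
        refine Subgroup.mul_mem _ (Subgroup.subset_closure ⟨?_, ?_⟩)
          (Subgroup.inv_mem _ (hAcl hh))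
        · rw [hM]
          exact Subgroup.mul_mem _ (Subgroup.mul_mem _ (Subgroup.mem_sup_left ht)
            (Subgroup.mem_sup_right hh)) (Subgroup.inv_mem _ (Subgroup.mem_sup_left ht))
        · rw [conj_pow, hApow h hh]; group
      rw [hTa] at hTcl
      rw [hM]
      rw [hM] at hTcl hAcl
      exact sup_le hTcl hAcl
    · rw [Subgroup.closure_le]; exact fun g hg => hg.1
  obtain ⟨φ, hφ⟩ := exists_embed_sl2 (⁅V, M⁆ : Subgroup G) M hWea (by rw [hWeq]; exact hWcard)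
    hMW hK _ hS (fun s hs => hs.2)
  have hcard : Nat.card M ≤ Nat.card L := by
    rw [Nat.card_congr e.toEquiv]
    exact Nat.card_le_card_of_injective φ hφ
  exact (Subgroup.eq_of_le_of_card_ge hLM hcard).symm

end Cfsg.Agent.Lib.helper14
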