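import Mathlib
import Cfsg.Prelude.Def_PLocal
import Cfsg.Prelude.Def_Transfer
import Cfsg.Agent.Lib.helper14.FFStruct

/-!
# Failure of factorization: the `SL₂(p)` direct factors, II (library, helper14)
-/

set_option autoImplicit false
set_option linter.style.haveILetI false
set_option linter.unusedVariables false
set_option linter.unusedSectionVars false

namespace Cfsg.Agent.Lib.helper14

open scoped commutatorElement

/-- Standing hypotheses of the structure theory of failure of factorization: `H` acts faithfully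
on the elementary abelian `V` and has a normal self-centralizing `p'`-subgroup `Q`. -/
def FFSetup {G : Type*} [Group G] (p : ℕ) (V H Q : Subgroup G) : Prop :=
  Cfsg.IsElementaryAbelian p V ∧ H ≤ Subgroup.normalizer (V : Set G) ∧
    H ⊓ Subgroup.centralizer (V : Set G) = ⊥ ∧ Q ≤ H ∧ H ≤ Subgroup.normalizer (Q : Set G) ∧
    (Nat.card Q).Coprime p ∧ ∀ h ∈ H, (∀ x ∈ Q, x * h = h * x) → h ∈ Q

/-- `a` is a transvection of `H` on `V`: of order `p` with `|[V, a]| = p`. -/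
def IsTransv {G : Type*} [Group G] (p : ℕ) (V H : Subgroup G) (a : G) : Prop :=
  a ∈ H ∧ orderOf a = p ∧ Nat.card ↥(⁅V, Subgroup.zpowers a⁆) = p

/-- The subgroup `[Q, ⟨a⟩]⟨a⟩`. -/
def ffE {G : Type*} [Group G] (Q : Subgroup G) (a : G) : Subgroup G :=
  ⁅Q, Subgroup.zpowers a⁆ ⊔ Subgroup.zpowers a

theorem ff_transv_basic {G : Type*} [Group G] [Finite G] {p : ℕ} [Fact p.Prime] {V H Q : Subgroup G}
    (hS : FFSetup p V H Q) {a : G} (ha : IsTransv p V H a) :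
    a ∈ Subgroup.normalizer (V : Set G) ∧ Q ≤ Subgroup.normalizer (V : Set G) ∧
      a ∈ Subgroup.normalizer (Q : Set G) ∧
      (Q ⊔ Subgroup.zpowers a) ⊓ Subgroup.centralizer (V : Set G) = ⊥ ∧
      ∃ x₀ ∈ Q, x₀ * a ≠ a * x₀ := by
  have hp : p.Prime := Fact.out
  obtain ⟨hV, hHV, hf, hQH, hHQ, hQ, hsc⟩ := hS
  obtain ⟨haH, hap, hcomm⟩ := ha
  refine ⟨hHV haH, hQH.trans hHV, hHQ haH, ?_, ?_⟩
  · rw [eq_bot_iff, ← hf]
    exact inf_le_inf_right _ (sup_le hQH (Subgroup.zpowers_le.mpr haH))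
  · by_contra hcon
    push_neg at hcon
    have haQ : a ∈ Q := hsc a haH hcon
    have h1 : orderOf a ∣ Nat.card Q := by
      have := orderOf_dvd_natCard (⟨a, haQ⟩ : Q)
      rwa [Subgroup.orderOf_mk] at this
    rw [hap] at h1
    have h2 : Nat.gcd (Nat.card Q) p = 1 := hQ
    have h3 : p ∣ Nat.gcd (Nat.card Q) p := Nat.dvd_gcd h1 dvd_rfl
    rw [h2] at h3
    exact hp.one_lt.ne' (Nat.dvd_one.mp h3)

theorem ffE_le {G : Type*} [Group G] [Finite G] {p : ℕ} [Fact p.Prime] {V H Q : Subgroup G}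
    (hS : FFSetup p V H Q) {a : G} (ha : IsTransv p V H a) : ffE Q a ≤ H := by
  obtain ⟨haV, hQV, haQ, hfQ, x₀, hx₀, hx₀a⟩ := ff_transv_basic hS ha
  obtain ⟨hV, hHV, hf, hQH, hHQ, hQ, hsc⟩ := hS
  exact sup_le ((commutator_le_of_le_normalizer Q _ (Subgroup.zpowers_le.mpr haQ)).trans hQH)
    (Subgroup.zpowers_le.mpr ha.1)

theorem mem_ffE_self {G : Type*} [Group G] (Q : Subgroup G) (a : G) : a ∈ ffE Q a :=
  Subgroup.mem_sup_right (Subgroup.mem_zpowers a)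

theorem ffE_normal_Q {G : Type*} [Group G] (Q : Subgroup G) (a : G) :
    Q ≤ Subgroup.normalizer (ffE Q a : Set G) := by
  apply le_normalizer_of_conj_mem
  intro x hx g hg
  have h1 : (ffE Q a).map (MulAut.conj x).toMonoidHom ≤ ffE Q a := by
    unfold ffE
    rw [Subgroup.map_sup, map_conj_eq_of_mem_normalizer _ (le_normalizer_commutator_left Q _ hx)]
    refine sup_le le_sup_left ?_
    rintro _ ⟨h, hh, rfl⟩
    have e1 : (MulAut.conj x).toMonoidHom h = ⁅x, h⁆ * h := by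
      show x * h * x⁻¹ = _
      rw [commutatorElement_def]; group
    rw [e1]
    exact Subgroup.mul_mem _ (Subgroup.mem_sup_left (Subgroup.commutator_mem_commutator hx hh))
      (Subgroup.mem_sup_right hh)
  exact h1 (Subgroup.mem_map.mpr ⟨g, hg, rfl⟩)

/-- `E = [Q, ⟨a⟩]⟨a⟩` is generated by `a` and a conjugate. -/
theorem ffE_pair {G : Type*} [Group G] [Finite G] {p : ℕ} [Fact p.Prime] {V H Q : Subgroup G}
    (hS : FFSetup p V H Q) {a : G} (ha : IsTransv p V H a) :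
    ∃ y ∈ Q, y * a ≠ a * y ∧
      ffE Q a = Subgroup.zpowers a ⊔ (Subgroup.zpowers a).map (MulAut.conj y).toMonoidHom := by
  obtain ⟨haV, hQV, haQ, hfQ, x₀, hx₀, hx₀a⟩ := ff_transv_basic hS ha
  obtain ⟨hV, hHV, hf, hQH, hHQ, hQ, hsc⟩ := hS
  exact ff_E_eq_pair V Q hV a haV hQV ha.2.1 ha.2.2 hQ haQ hfQ x₀ hx₀ hx₀a

/-- Main properties of `E = [Q, ⟨a⟩]⟨a⟩`. -/
theorem ffE_main {G : Type*} [Group G] [Finite G] {p : ℕ} [Fact p.Prime] {V H Q : Subgroup G}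
    (hS : FFSetup p V H Q) {a : G} (ha : IsTransv p V H a) :
    (p = 2 ∨ p = 3) ∧ Nat.card ↥(⁅V, ffE Q a⁆) = p ^ 2 ∧
      ffE Q a ⊓ Subgroup.centralizer ((⁅V, ffE Q a⁆ : Subgroup G) : Set G) = ⊥ ∧
      Nonempty (↥(ffE Q a) ≃* Matrix.SpecialLinearGroup (Fin 2) (ZMod p)) ∧
      ∃ S : Set G, ffE Q a = Subgroup.closure S ∧ ∀ s ∈ S, s ^ p = 1 := by
  obtain ⟨y, hyQ, hya, hE⟩ := ffE_pair hS ha
  obtain ⟨haV, hQV, haQ, hfQ, x₀, hx₀, hx₀a⟩ := ff_transv_basic hS ha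
  have hEH := ffE_le hS ha
  obtain ⟨hV, hHV, hf, hQH, hHQ, hQ, hsc⟩ := hS
  have hfE : ffE Q a ⊓ Subgroup.centralizer (V : Set G) = ⊥ := by
    rw [eq_bot_iff, ← hf]; exact inf_le_inf_right _ hEH
  obtain ⟨h1, h2, h3, h4⟩ := ff_pair_core V Q hV a y haV (hQV hyQ) ha.2.1 ha.2.2 hQ hyQ haQ hya
    (ffE Q a) hE hfE
  refine ⟨h1, h2, h3, h4, {a, y * a * y⁻¹}, ?_, ?_⟩
  · rw [hE, MonoidHom.map_zpowers, Subgroup.zpowers_eq_closure, Subgroup.zpowers_eq_closure,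
      ← Subgroup.closure_union, Set.singleton_union]
    rfl
  · have hap' : a ^ p = 1 := by rw [← ha.2.1]; exact pow_orderOf_eq_one a
    intro s hs
    rcases hs with hs | hs
    · rw [hs]; exact hap'
    · rw [Set.mem_singleton_iff] at hs
      rw [hs, conj_pow, hap']; group

/-- `E` centralizes `C_V(Z)` for nontrivial `Z ≤ [Q, ⟨a⟩]` normalized by `[Q, ⟨a⟩]` and `a`. -/
theorem ffE_cent {G : Type*} [Group G] [Finite G] {p : ℕ} [Fact p.Prime] {V H Q : Subgroup G}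
    (hS : FFSetup p V H Q) {a : G} (ha : IsTransv p V H a) (Z : Subgroup G)
    (hZT : Z ≤ ⁅Q, Subgroup.zpowers a⁆) (hZ1 : Z ≠ ⊥)
    (hTZ : ⁅Q, Subgroup.zpowers a⁆ ≤ Subgroup.normalizer (Z : Set G))
    (haZ : a ∈ Subgroup.normalizer (Z : Set G)) :
    ffE Q a ≤ Subgroup.centralizer ((V ⊓ Subgroup.centralizer (Z : Set G) : Subgroup G) : Set G) ∧
      ⁅V, ffE Q a⁆ ≤ ⁅V, Z⁆ := by
  obtain ⟨haV, hQV, haQ, hfQ, x₀, hx₀, hx₀a⟩ := ff_transv_basic hS ha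
  obtain ⟨hV, hHV, hf, hQH, hHQ, hQ, hsc⟩ := hS
  obtain ⟨hTQ, hTa, haT, hTcop, hTV, hfT, hQT⟩ := ff_T_facts V Q a hQV ha.2.1 hQ haQ hfQ
  exact ff_dichotomy V _ Z hV a haV hTV ha.2.2 hTcop haT hTa hfT hZT hZ1 hTZ haZ

theorem ffT_ne_bot {G : Type*} [Group G] [Finite G] {p : ℕ} [Fact p.Prime] {V H Q : Subgroup G}
    (hS : FFSetup p V H Q) {a : G} (ha : IsTransv p V H a) :
    ⁅Q, Subgroup.zpowers a⁆ ≠ ⊥ := by
  obtain ⟨haV, hQV, haQ, hfQ, x₀, hx₀, hx₀a⟩ := ff_transv_basic hS ha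
  intro h
  have h1 : ⁅x₀, a⁆ ∈ ⁅Q, Subgroup.zpowers a⁆ :=
    Subgroup.commutator_mem_commutator hx₀ (Subgroup.mem_zpowers a)
  rw [h, Subgroup.mem_bot, commutatorElement_def] at h1
  apply hx₀a
  calc x₀ * a = (x₀ * a * x₀⁻¹ * a⁻¹) * (a * x₀) := by group
    _ = a * x₀ := by rw [h1, one_mul]

/-- `V = [V, E] × C_V(E)`. -/
theorem ffE_decomp {G : Type*} [Group G] [Finite G] {p : ℕ} [Fact p.Prime] {V H Q : Subgroup G}
    (hS : FFSetup p V H Q) {a : G} (ha : IsTransv p V H a) :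
    ⁅V, ffE Q a⁆ ⊓ (V ⊓ Subgroup.centralizer (ffE Q a : Set G)) = ⊥ ∧
      ⁅V, ffE Q a⁆ ⊔ (V ⊓ Subgroup.centralizer (ffE Q a : Set G)) = V ∧
      ⁅V, ffE Q a⁆ = ⁅V, ⁅Q, Subgroup.zpowers a⁆⁆ ∧
      V ⊓ Subgroup.centralizer (ffE Q a : Set G) =
        V ⊓ Subgroup.centralizer ((⁅Q, Subgroup.zpowers a⁆ : Subgroup G) : Set G) := by
  have hT1 := ffT_ne_bot hS ha
  obtain ⟨haV, hQV, haQ, hfQ, x₀, hx₀, hx₀a⟩ := ff_transv_basic hS ha
  obtain ⟨hcen, hle⟩ := ffE_cent hS ha _ le_rfl hT1 Subgroup.le_normalizer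
    (le_normalizer_commutator_right' Q _ (Subgroup.mem_zpowers a))
  obtain ⟨hV, hHV, hf, hQH, hHQ, hQ, hsc⟩ := hS
  obtain ⟨hTQ, hTa, haT, hTcop, hTV, hfT, hQT⟩ := ff_T_facts V Q a hQV ha.2.1 hQ haQ hfQ
  haveI : IsMulCommutative V := hV.1
  have hVp : IsPGroup p V := fun v =>
    ⟨1, Subtype.ext (by rw [pow_one, Subgroup.coe_pow]; exact hV.2 v v.2)⟩
  have hcopT : (Nat.card ↥(⁅Q, Subgroup.zpowers a⁆)).Coprime (Nat.card V) := by
    obtain ⟨k, hk⟩ := IsPGroup.iff_card.mp hVp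
    rw [hk]
    exact Nat.Coprime.pow_right k hTcop
  obtain ⟨h1, h2⟩ := Cfsg.Agent.Lib.helper8.abelian_fixed_commutator _ V hTV hcopT
  have e1 : ⁅V, ffE Q a⁆ = ⁅V, ⁅Q, Subgroup.zpowers a⁆⁆ :=
    le_antisymm hle (Subgroup.commutator_mono le_rfl le_sup_left)
  have e2 : V ⊓ Subgroup.centralizer (ffE Q a : Set G) =
      V ⊓ Subgroup.centralizer ((⁅Q, Subgroup.zpowers a⁆ : Subgroup G) : Set G) := by
    apply le_antisymm
    · exact inf_le_inf_left _ (Subgroup.centralizer_le (show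
        ((⁅Q, Subgroup.zpowers a⁆ : Subgroup G) : Set G) ⊆ (ffE Q a : Set G) from
          fun x hx => Subgroup.mem_sup_left hx))
    · intro x hx
      refine ⟨hx.1, ?_⟩
      show x ∈ Subgroup.centralizer (ffE Q a : Set G)
      rw [Subgroup.mem_centralizer_iff]
      intro e he
      exact (Subgroup.mem_centralizer_iff.mp (hcen he) x hx).symm
  refine ⟨?_, ?_, e1, e2⟩
  · rw [e1, e2, inf_comm]; exact h1
  · rw [e1, e2, sup_comm]; exact h2

/-- The elements centralizing `W` and `V / W`. -/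
def ffStab {G : Type*} [Group G] (V W : Subgroup G) : Subgroup G where
  carrier := {g | g ∈ Subgroup.centralizer (W : Set G) ∧ ∀ v ∈ V, v * g * v⁻¹ * g⁻¹ ∈ W}
  one_mem' := ⟨Subgroup.one_mem _, fun v hv => by simp⟩
  mul_mem' := by
    rintro g h ⟨hg, hg'⟩ ⟨hh, hh'⟩
    refine ⟨Subgroup.mul_mem _ hg hh, fun v hv => ?_⟩
    have e : v * (g * h) * v⁻¹ * (g * h)⁻¹ =
        (v * g * v⁻¹ * g⁻¹) * (g * (v * h * v⁻¹ * h⁻¹) * g⁻¹) := by group
    rw [e]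
    have h0 := Subgroup.mem_centralizer_iff.mp hg _ (hh' v hv)
    have h1 : g * (v * h * v⁻¹ * h⁻¹) * g⁻¹ = v * h * v⁻¹ * h⁻¹ := by
      calc g * (v * h * v⁻¹ * h⁻¹) * g⁻¹ = ((v * h * v⁻¹ * h⁻¹) * g) * g⁻¹ := by rw [h0]
        _ = v * h * v⁻¹ * h⁻¹ := by group
    rw [h1]
    exact W.mul_mem (hg' v hv) (hh' v hv)
  inv_mem' := by
    rintro g ⟨hg, hg'⟩
    refine ⟨Subgroup.inv_mem _ hg, fun v hv => ?_⟩
    have e : v * g⁻¹ * v⁻¹ * g⁻¹⁻¹ = g⁻¹ * ((v * g * v⁻¹ * g⁻¹)⁻¹ * g) := by group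
    rw [e]
    have h0 : (v * g * v⁻¹ * g⁻¹)⁻¹ ∈ W := W.inv_mem (hg' v hv)
    have h1 := Subgroup.mem_centralizer_iff.mp hg _ h0
    rw [h1]
    have e2 : g⁻¹ * (g * (v * g * v⁻¹ * g⁻¹)⁻¹) = (v * g * v⁻¹ * g⁻¹)⁻¹ := by group
    rw [e2]
    exact h0

theorem ffStab_conj {G : Type*} [Group G] (V W : Subgroup G) {x g : G}
    (hxV : x ∈ Subgroup.normalizer (V : Set G)) (hxW : x ∈ Subgroup.normalizer (W : Set G))
    (hg : g ∈ ffStab V W) : x * g * x⁻¹ ∈ ffStab V W := by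
  obtain ⟨hg1, hg2⟩ := hg
  refine ⟨conj_mem_centralizer W hxW hg1, fun v hv => ?_⟩
  have hv' : x⁻¹ * v * x ∈ V := by
    have := (Subgroup.mem_normalizer_iff.mp (Subgroup.inv_mem _ hxV) v).mp hv
    simpa using this
  have e : v * (x * g * x⁻¹) * v⁻¹ * (x * g * x⁻¹)⁻¹ =
      x * ((x⁻¹ * v * x) * g * (x⁻¹ * v * x)⁻¹ * g⁻¹) * x⁻¹ := by group
  rw [e]
  exact (Subgroup.mem_normalizer_iff.mp hxW _).mp (hg2 _ hv')

theorem ffStab_pow {G : Type*} [Group G] {p : ℕ} (V W : Subgroup G)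
    (hV : Cfsg.IsElementaryAbelian p V) (hWV : W ≤ V) {g : G} (hg : g ∈ ffStab V W) :
    g ^ p ∈ Subgroup.centralizer (V : Set G) := by
  obtain ⟨hg1, hg2⟩ := hg
  rw [Subgroup.mem_centralizer_iff]
  intro v hv
  have hw : g * v * g⁻¹ * v⁻¹ ∈ W := by
    have := W.inv_mem (hg2 v hv)
    have e : (v * g * v⁻¹ * g⁻¹)⁻¹ = g * v * g⁻¹ * v⁻¹ := by group
    rwa [e] at this
  have hgw : g * (g * v * g⁻¹ * v⁻¹) = (g * v * g⁻¹ * v⁻¹) * g :=
    (Subgroup.mem_centralizer_iff.mp hg1 _ hw).symm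
  have h1 := conj_pow_of_commute_commutator g v hgw p
  rw [hV.2 _ (hWV hw), one_mul] at h1
  calc v * g ^ p = (g ^ p * v * (g ^ p)⁻¹) * g ^ p := by rw [h1]
    _ = g ^ p * v := by group

set_option maxHeartbeats 1000000 in
/-- Two transvections with the same plane: the second lies in the `SL₂(p)` of the first. -/
theorem ffE_mem_of_eq {G : Type*} [Group G] [Finite G] {p : ℕ} [Fact p.Prime] {V H Q : Subgroup G}
    (hS : FFSetup p V H Q) {a b : G} (ha : IsTransv p V H a) (hb : IsTransv p V H b)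
    (hW : ⁅V, ffE Q a⁆ = ⁅V, ffE Q b⁆) : b ∈ ffE Q a := by
  classical
  have hp : p.Prime := Fact.out
  obtain ⟨hp23, hWcard, hEf, ⟨e⟩, S, hES, hSp⟩ := ffE_main hS ha
  have hEH := ffE_le hS ha
  have hQE := ffE_normal_Q Q a
  obtain ⟨hV, hHV, hf, hQH, hHQ, hQ, hsc⟩ := hS
  obtain ⟨E, hE⟩ : ∃ E : Subgroup G, E = ffE Q a := ⟨_, rfl⟩
  rw [← hE] at hWcard hEf e hES hEH hQE hW ⊢
  obtain ⟨W, hWdef⟩ : ∃ W : Subgroup G, W = ⁅V, E⁆ := ⟨_, rfl⟩
  rw [← hWdef] at hWcard hEf hW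
  have hEV : E ≤ Subgroup.normalizer (V : Set G) := hEH.trans hHV
  have hWV : W ≤ V := by rw [hWdef]; exact commutator_le_of_le_normalizer V E hEV
  have hWea : Cfsg.IsElementaryAbelian p W :=
    ⟨⟨⟨fun u v => Subtype.ext (by
      have h := congrArg Subtype.val (hV.1.is_comm.comm ⟨(u : G), hWV u.2⟩ ⟨(v : G), hWV v.2⟩)
      exact h)⟩⟩, fun w hw => hV.2 w (hWV hw)⟩
  have hEW : E ≤ Subgroup.normalizer (W : Set G) := by
    rw [hWdef]; exact le_normalizer_commutator_right' V E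
  have hbE : b ∈ ffE Q b := mem_ffE_self Q b
  have hbW : b ∈ Subgroup.normalizer (W : Set G) := by
    rw [hW]; exact le_normalizer_commutator_right' V _ hbE
  have hbp : b ^ p = 1 := by rw [← hb.2.1]; exact pow_orderOf_eq_one b
  obtain ⟨e₀, he₀, hc⟩ := exists_mul_centralizer_of_sl2 W E hWea hWcard hEW hEf S hES hSp
    (Nat.card_congr e.toEquiv) b hbW hbp
  have hQW : Q ≤ Subgroup.normalizer (W : Set G) := fun x hx => by
    rw [hWdef]; exact mem_normalizer_commutator_of_mem V E (hHV (hQH hx)) (hQE hx)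
  have hcS0 : e₀⁻¹ * b ∈ ffStab V W := by
    refine ⟨hc, fun v hv => ?_⟩
    have e1 : v * (e₀⁻¹ * b) * v⁻¹ * (e₀⁻¹ * b)⁻¹ =
        (v * e₀⁻¹ * v⁻¹ * e₀⁻¹⁻¹) * (e₀⁻¹ * (v * b * v⁻¹ * b⁻¹) * e₀⁻¹⁻¹) := by group
    rw [e1]
    refine W.mul_mem ?_ ?_
    · rw [hWdef]
      have := Subgroup.commutator_mem_commutator hv (E.inv_mem he₀)
      rwa [commutatorElement_def] at this
    · refine (Subgroup.mem_normalizer_iff.mp (hEW (E.inv_mem he₀)) _).mp ?_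
      rw [hW]
      have := Subgroup.commutator_mem_commutator hv hbE
      rwa [commutatorElement_def] at this
  obtain ⟨c, hcdef⟩ : ∃ c : G, c = e₀⁻¹ * b := ⟨_, rfl⟩
  have hcS : c ∈ ffStab V W := by rw [hcdef]; exact hcS0
  have hcH : c ∈ H := by rw [hcdef]; exact H.mul_mem (H.inv_mem (hEH he₀)) hb.1
  have hpow1 : ∀ g ∈ ffStab V W, g ∈ H → g ^ p = 1 := by
    intro g hg hgH
    have h1 : g ^ p ∈ H ⊓ Subgroup.centralizer (V : Set G) :=
      ⟨H.pow_mem hgH p, ffStab_pow V W hV hWV hg⟩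
    rw [hf, Subgroup.mem_bot] at h1
    exact h1
  have hQp : ∀ g ∈ Q, g ^ p = 1 → g = 1 := by
    intro g hg hgp
    have h1 : orderOf g ∣ p := orderOf_dvd_of_pow_eq_one hgp
    have h2 : orderOf g ∣ Nat.card Q := by
      have := orderOf_dvd_natCard (⟨g, hg⟩ : Q)
      rwa [Subgroup.orderOf_mk] at this
    have h3 : orderOf g ∣ Nat.gcd (Nat.card Q) p := Nat.dvd_gcd h2 h1
    have h4 : Nat.gcd (Nat.card Q) p = 1 := hQ
    rw [h4, Nat.dvd_one, orderOf_eq_one_iff] at h3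
    exact h3
  have hcomm : ∀ x ∈ Q, x * c = c * x := by
    intro x hx
    have hxc : x * c * x⁻¹ ∈ ffStab V W := ffStab_conj V W (hHV (hQH hx)) (hQW hx) hcS
    have hg : x * c * x⁻¹ * c⁻¹ ∈ ffStab V W := Subgroup.mul_mem _ hxc (Subgroup.inv_mem _ hcS)
    have hgQ : x * c * x⁻¹ * c⁻¹ ∈ Q := by
      have e2 : x * c * x⁻¹ * c⁻¹ = x * (c * x⁻¹ * c⁻¹) := by group
      rw [e2]
      exact Q.mul_mem hx ((Subgroup.mem_normalizer_iff.mp (hHQ hcH) _).mp (Q.inv_mem hx))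
    have h1 := hQp _ hgQ (hpow1 _ hg (hQH hgQ))
    calc x * c = (x * c * x⁻¹ * c⁻¹) * (c * x) := by group
      _ = c * x := by rw [h1, one_mul]
  have hcQ : c ∈ Q := hsc _ hcH hcomm
  have hc1 : c = 1 := hQp _ hcQ (hpow1 _ hcS hcH)
  have hbe : b = e₀ := by
    calc b = e₀ * (e₀⁻¹ * b) := by group
      _ = e₀ := by rw [← hcdef, hc1, mul_one]
  rw [hbe]; exact he₀

set_option maxHeartbeats 1000000 in
/-- Distinct planes of two transvections meet trivially. -/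
theorem ffE_inf_eq_bot {G : Type*} [Group G] [Finite G] {p : ℕ} [Fact p.Prime] {V H Q : Subgroup G}
    (hS : FFSetup p V H Q) {a b : G} (ha : IsTransv p V H a) (hb : IsTransv p V H b)
    (hW : ⁅V, ffE Q a⁆ ≠ ⁅V, ffE Q b⁆) : ⁅V, ffE Q a⁆ ⊓ ⁅V, ffE Q b⁆ = ⊥ := by
  classical
  have hp : p.Prime := Fact.out
  by_contra hI
  obtain ⟨hp23, hWcard, hEf, -, -⟩ := ffE_main hS ha
  obtain ⟨-, hWcardb, -, -, -⟩ := ffE_main hS hb
  obtain ⟨hd1, hd2, hd3, hd4⟩ := ffE_decomp hS ha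
  have hT1 := ffT_ne_bot hS ha
  have hEH := ffE_le hS ha
  obtain ⟨haV, hQV, haQ, hfQ, x₀, hx₀, hx₀a⟩ := ff_transv_basic hS ha
  have hS' := hS
  obtain ⟨hV, hHV, hf, hQH, hHQ, hQ, hsc⟩ := hS'
  have hcase := ff_commutator_pgroup V Q hV a haV hQV ha.2.1 ha.2.2 hQ haQ hfQ x₀ hx₀ hx₀a
  obtain ⟨I, hIdef⟩ : ∃ I : Subgroup G, I = ⁅V, ffE Q a⁆ ⊓ ⁅V, ffE Q b⁆ := ⟨_, rfl⟩
  rw [← hIdef] at hI
  have hIa : I ≤ ⁅V, ffE Q a⁆ := by rw [hIdef]; exact inf_le_left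
  have hIb : I ≤ ⁅V, ffE Q b⁆ := by rw [hIdef]; exact inf_le_right
  have hIcard : Nat.card I = p := by
    have h1 : Nat.card I ∣ p ^ 2 := hWcard ▸ Subgroup.card_dvd_of_le hIa
    obtain ⟨j, hj, hj2⟩ := (Nat.dvd_prime_pow hp).mp h1
    interval_cases j
    · exfalso; rw [pow_zero] at hj2; exact hI (Subgroup.card_eq_one.mp hj2)
    · rw [pow_one] at hj2; exact hj2
    · exfalso
      have h2 : I = ⁅V, ffE Q a⁆ := Subgroup.eq_of_le_of_card_ge hIa (by rw [hj2, hWcard])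
      have h3 : ⁅V, ffE Q a⁆ ≤ ⁅V, ffE Q b⁆ := h2 ▸ hIb
      exact hW (Subgroup.eq_of_le_of_card_ge h3 (by rw [hWcard, hWcardb]))
  have hQI : Q ≤ Subgroup.normalizer (I : Set G) := fun x hx => by
    rw [hIdef]
    exact mem_normalizer_inf' _ _
      (mem_normalizer_commutator_of_mem V _ (hQV hx) (ffE_normal_Q Q a hx))
      (mem_normalizer_commutator_of_mem V _ (hQV hx) (ffE_normal_Q Q b hx))
  obtain ⟨T, hT⟩ : ∃ T : Subgroup G, T = ⁅Q, Subgroup.zpowers a⁆ := ⟨_, rfl⟩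
  rw [← hT] at hT1 hcase hd3 hd4
  have hTQ : T ≤ Q := by
    rw [hT]; exact commutator_le_of_le_normalizer Q _ (Subgroup.zpowers_le.mpr haQ)
  have haT : a ∈ Subgroup.normalizer (T : Set G) := by
    rw [hT]; exact le_normalizer_commutator_right' Q _ (Subgroup.mem_zpowers a)
  obtain ⟨Φ, hΦ⟩ : ∃ Φ : Subgroup G, Φ = Subgroup.closure {g | ∃ t ∈ T, g = t ^ 2} := ⟨_, rfl⟩
  have hΦT : Φ ≤ T := by
    rw [hΦ, Subgroup.closure_le]
    rintro _ ⟨t, ht, rfl⟩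
    exact T.pow_mem ht 2
  have hΦ1 : Φ ≠ ⊥ := by
    intro h
    have hsq : ∀ t ∈ T, t ^ 2 = 1 := by
      intro t ht
      have : t ^ 2 ∈ Φ := by rw [hΦ]; exact Subgroup.subset_closure ⟨t, ht, rfl⟩
      rw [h, Subgroup.mem_bot] at this
      exact this
    rcases hcase with ⟨h2, hT3⟩ | ⟨h3, hT2, hnc⟩
    · apply hT1
      rw [eq_bot_iff]
      intro t ht
      rw [Subgroup.mem_bot]
      obtain ⟨k, hk⟩ := hT3 ⟨t, ht⟩
      have hk' : t ^ (3 ^ k) = 1 := by simpa using congrArg Subtype.val hk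
      have h4 : orderOf t ∣ Nat.gcd (3 ^ k) 2 :=
        Nat.dvd_gcd (orderOf_dvd_of_pow_eq_one hk') (orderOf_dvd_of_pow_eq_one (hsq t ht))
      have h5 : Nat.gcd (3 ^ k) 2 = 1 := Nat.Coprime.pow_left k (by norm_num)
      rw [h5, Nat.dvd_one, orderOf_eq_one_iff] at h4
      exact h4
    · apply hnc
      refine ⟨⟨fun x y => Subtype.ext ?_⟩⟩
      have hx := hsq x x.2
      have hy := hsq y y.2
      have hxy := hsq (x * y) (T.mul_mem x.2 y.2)
      show (x : G) * y = y * x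
      have hxi : (x : G)⁻¹ = x := by rw [inv_eq_iff_mul_eq_one, ← pow_two]; exact hx
      have hyi : (y : G)⁻¹ = y := by rw [inv_eq_iff_mul_eq_one, ← pow_two]; exact hy
      have hxyi : ((x : G) * y)⁻¹ = x * y := by rw [inv_eq_iff_mul_eq_one, ← pow_two]; exact hxy
      calc (x : G) * y = ((x : G) * y)⁻¹ := hxyi.symm
        _ = (y : G)⁻¹ * (x : G)⁻¹ := mul_inv_rev _ _
        _ = y * x := by rw [hxi, hyi]
  have hconjΦ : ∀ g : G, g ∈ Subgroup.normalizer (T : Set G) → ∀ x ∈ Φ, g * x * g⁻¹ ∈ Φ := by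
    intro g hg x hx
    rw [hΦ] at hx ⊢
    induction hx using Subgroup.closure_induction with
    | mem s hs =>
      obtain ⟨t, ht, rfl⟩ := hs
      apply Subgroup.subset_closure
      refine ⟨g * t * g⁻¹, (Subgroup.mem_normalizer_iff.mp hg t).mp ht, ?_⟩
      rw [conj_pow]
    | one => simp
    | mul y z hy hz ihy ihz =>
      have e : g * (y * z) * g⁻¹ = (g * y * g⁻¹) * (g * z * g⁻¹) := by group
      rw [e]; exact Subgroup.mul_mem _ ihy ihz
    | inv y hy ihy =>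
      have e : g * y⁻¹ * g⁻¹ = (g * y * g⁻¹)⁻¹ := by group
      rw [e]; exact Subgroup.inv_mem _ ihy
  have hNΦ : ∀ g : G, g ∈ Subgroup.normalizer (T : Set G) →
      g ∈ Subgroup.normalizer (Φ : Set G) := by
    intro g hg
    rw [Subgroup.mem_normalizer_iff]
    intro x
    constructor
    · exact hconjΦ g hg x
    · intro hx
      have := hconjΦ g⁻¹ (Subgroup.inv_mem _ hg) _ hx
      simpa [mul_assoc] using this
  haveI : IsCyclic ↥I := isCyclic_of_prime_card hIcard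
  have hcardAut : Nat.card (MulAut ↥I) ∣ 2 := by
    rw [IsCyclic.card_mulAut, hIcard, Nat.totient_prime hp]
    rcases hp23 with h | h
    · rw [h]; norm_num
    · rw [h]
  have hΦI : Φ ≤ Subgroup.centralizer (I : Set G) := by
    rw [hΦ, Subgroup.closure_le]
    rintro _ ⟨t, ht, rfl⟩
    have htN : t ∈ Subgroup.normalizer (I : Set G) := hQI (hTQ ht)
    have h1 : (Subgroup.normalizerMonoidHom I ⟨t, htN⟩) ^ 2 = 1 := by
      apply orderOf_dvd_iff_pow_eq_one.mp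
      exact (orderOf_dvd_natCard _).trans hcardAut
    show t ^ 2 ∈ Subgroup.centralizer (I : Set G)
    rw [Subgroup.mem_centralizer_iff]
    intro u hu
    rw [← map_pow] at h1
    have h2 := congrArg (fun σ : MulAut ↥I => ((σ ⟨u, hu⟩ : ↥I) : G)) h1
    have h3 : t ^ 2 * u * (t ^ 2)⁻¹ = u := h2
    calc u * t ^ 2 = (t ^ 2 * u * (t ^ 2)⁻¹) * t ^ 2 := by rw [h3]
      _ = t ^ 2 * u := by group
  obtain ⟨hcen, -⟩ := ffE_cent hS ha Φ (by rw [← hT]; exact hΦT) hΦ1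
    (by rw [← hT]; exact fun t ht => hNΦ t (Subgroup.le_normalizer ht)) (hNΦ a haT)
  have hIV : I ≤ V := hIa.trans (commutator_le_of_le_normalizer V _ (hEH.trans hHV))
  have hIcE : I ≤ V ⊓ Subgroup.centralizer (ffE Q a : Set G) := by
    intro u hu
    refine ⟨hIV hu, ?_⟩
    show u ∈ Subgroup.centralizer (ffE Q a : Set G)
    rw [Subgroup.mem_centralizer_iff]
    intro e he
    have hu' : u ∈ V ⊓ Subgroup.centralizer (Φ : Set G) := by
      refine ⟨hIV hu, ?_⟩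
      show u ∈ Subgroup.centralizer (Φ : Set G)
      rw [Subgroup.mem_centralizer_iff]
      intro x hx
      exact (Subgroup.mem_centralizer_iff.mp (hΦI hx) u hu).symm
    exact (Subgroup.mem_centralizer_iff.mp (hcen he) u hu').symm
  apply hI
  rw [eq_bot_iff, ← hd1]
  exact le_inf hIa hIcE

/-- Distinct planes: the second `SL₂(p)` centralizes the plane of the first. -/
theorem ffE_cent_plane_of_ne {G : Type*} [Group G] [Finite G] {p : ℕ} [Fact p.Prime]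
    {V H Q : Subgroup G} (hS : FFSetup p V H Q) {a b : G} (ha : IsTransv p V H a)
    (hb : IsTransv p V H b) (hW : ⁅V, ffE Q a⁆ ≠ ⁅V, ffE Q b⁆) :
    ffE Q b ≤ Subgroup.centralizer ((⁅V, ffE Q a⁆ : Subgroup G) : Set G) := by
  have hI := ffE_inf_eq_bot hS ha hb hW
  have hTb1 := ffT_ne_bot hS hb
  obtain ⟨hcen, -⟩ := ffE_cent hS hb _ le_rfl hTb1 Subgroup.le_normalizer
    (le_normalizer_commutator_right' Q _ (Subgroup.mem_zpowers b))
  obtain ⟨hbV, hQV, hbQ, hfQ, -⟩ := ff_transv_basic hS hb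
  have hEaH := ffE_le hS ha
  obtain ⟨hV, hHV, hf, hQH, hHQ, hQ, hsc⟩ := hS
  have hWaV : ⁅V, ffE Q a⁆ ≤ V := commutator_le_of_le_normalizer V _ (hEaH.trans hHV)
  have hTbQ : ⁅Q, Subgroup.zpowers b⁆ ≤ Q :=
    commutator_le_of_le_normalizer Q _ (Subgroup.zpowers_le.mpr hbQ)
  have hQWa : Q ≤ Subgroup.normalizer ((⁅V, ffE Q a⁆ : Subgroup G) : Set G) := fun x hx =>
    mem_normalizer_commutator_of_mem V _ (hQV hx) (ffE_normal_Q Q a hx)
  have h1 : ⁅⁅V, ffE Q a⁆, ⁅Q, Subgroup.zpowers b⁆⁆ = ⊥ := by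
    rw [eq_bot_iff, ← hI]
    exact le_inf (commutator_le_of_le_normalizer _ _ (hTbQ.trans hQWa))
      (Subgroup.commutator_mono hWaV le_sup_left)
  have h2 : ⁅V, ffE Q a⁆ ≤ Subgroup.centralizer ((⁅Q, Subgroup.zpowers b⁆ : Subgroup G) : Set G) :=
    Subgroup.commutator_eq_bot_iff_le_centralizer.mp h1
  have h3 : ⁅V, ffE Q a⁆ ≤
      V ⊓ Subgroup.centralizer ((⁅Q, Subgroup.zpowers b⁆ : Subgroup G) : Set G) := le_inf hWaV h2
  exact hcen.trans (Subgroup.centralizer_le (SetLike.coe_subset_coe.mpr h3))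

set_option maxHeartbeats 1000000 in
/-- Distinct planes: the two `SL₂(p)`'s commute. -/
theorem ffE_commute_of_ne {G : Type*} [Group G] [Finite G] {p : ℕ} [Fact p.Prime]
    {V H Q : Subgroup G} (hS : FFSetup p V H Q) {a b : G} (ha : IsTransv p V H a)
    (hb : IsTransv p V H b) (hW : ⁅V, ffE Q a⁆ ≠ ⁅V, ffE Q b⁆) :
    ∀ e ∈ ffE Q a, ∀ f ∈ ffE Q b, e * f = f * e := by
  have h1 := ffE_cent_plane_of_ne hS ha hb hW
  have h2 := ffE_cent_plane_of_ne hS hb ha (Ne.symm hW)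
  obtain ⟨hd1, hd2, -, -⟩ := ffE_decomp hS ha
  have hEaH := ffE_le hS ha
  have hEbH := ffE_le hS hb
  obtain ⟨hV, hHV, hf, hQH, hHQ, hQ, hsc⟩ := hS
  intro e he f hf'
  have hWaN : ffE Q a ≤ Subgroup.normalizer ((⁅V, ffE Q a⁆ : Subgroup G) : Set G) :=
    le_normalizer_commutator_right' V _
  have hg : e * f * e⁻¹ * f⁻¹ ∈ H ⊓ Subgroup.centralizer (V : Set G) := by
    refine ⟨H.mul_mem (H.mul_mem (H.mul_mem (hEaH he) (hEbH hf')) (H.inv_mem (hEaH he)))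
      (H.inv_mem (hEbH hf')), ?_⟩
    have hle : ⁅V, ffE Q a⁆ ⊔ (V ⊓ Subgroup.centralizer (ffE Q a : Set G)) ≤
        Subgroup.centralizer ({e * f * e⁻¹ * f⁻¹} : Set G) := by
      refine sup_le ?_ ?_
      · intro w hw
        rw [Subgroup.mem_centralizer_iff]
        intro g hg
        rw [Set.mem_singleton_iff] at hg
        rw [hg]
        have hw2 : e⁻¹ * w * e ∈ ⁅V, ffE Q a⁆ := by
          have := (Subgroup.mem_normalizer_iff.mp (hWaN (Subgroup.inv_mem _ he)) w).mp hw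
          simpa using this
        have hf1 : f⁻¹ * w = w * f⁻¹ :=
          (Subgroup.mem_centralizer_iff.mp (h1 (Subgroup.inv_mem _ hf')) w hw).symm
        have hf2 : f * (e⁻¹ * w * e) = (e⁻¹ * w * e) * f :=
          (Subgroup.mem_centralizer_iff.mp (h1 hf') _ hw2).symm
        calc e * f * e⁻¹ * f⁻¹ * w = e * f * e⁻¹ * (f⁻¹ * w) := by group
          _ = e * f * e⁻¹ * (w * f⁻¹) := by rw [hf1]
          _ = e * (f * (e⁻¹ * w * e)) * e⁻¹ * f⁻¹ := by group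
          _ = e * ((e⁻¹ * w * e) * f) * e⁻¹ * f⁻¹ := by rw [hf2]
          _ = w * (e * f * e⁻¹ * f⁻¹) := by group
      · intro u hu
        rw [Subgroup.mem_centralizer_iff]
        intro g hg
        rw [Set.mem_singleton_iff] at hg
        rw [hg]
        have he1 : e * u = u * e := Subgroup.mem_centralizer_iff.mp hu.2 e he
        have hw'' : u⁻¹ * f⁻¹ * u * f ∈ ⁅V, ffE Q b⁆ := by
          have := Subgroup.commutator_mem_commutator (V.inv_mem hu.1) (Subgroup.inv_mem _ hf')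
          rw [commutatorElement_def] at this
          simpa using this
        have he3 : e * (u⁻¹ * f⁻¹ * u * f) = (u⁻¹ * f⁻¹ * u * f) * e :=
          (Subgroup.mem_centralizer_iff.mp (h2 he) _ hw'').symm
        have he2 : e⁻¹ * (u * (u⁻¹ * f⁻¹ * u * f)) = (u * (u⁻¹ * f⁻¹ * u * f)) * e⁻¹ := by
          have hc : Commute e (u * (u⁻¹ * f⁻¹ * u * f)) := Commute.mul_right he1 he3
          exact hc.inv_left.eq
        calc e * f * e⁻¹ * f⁻¹ * u
            = e * f * (e⁻¹ * (u * (u⁻¹ * f⁻¹ * u * f))) * f⁻¹ := by group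
          _ = e * f * ((u * (u⁻¹ * f⁻¹ * u * f)) * e⁻¹) * f⁻¹ := by rw [he2]
          _ = (e * u) * f * e⁻¹ * f⁻¹ := by group
          _ = (u * e) * f * e⁻¹ * f⁻¹ := by rw [he1]
          _ = u * (e * f * e⁻¹ * f⁻¹) := by group
    rw [hd2] at hle
    show e * f * e⁻¹ * f⁻¹ ∈ Subgroup.centralizer (V : Set G)
    rw [Subgroup.mem_centralizer_iff]
    intro v hv
    exact (Subgroup.mem_centralizer_iff.mp (hle hv) _ rfl).symm
  rw [hf, Subgroup.mem_bot] at hg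
  calc e * f = (e * f * e⁻¹ * f⁻¹) * (f * e) := by group
    _ = f * e := by rw [hg, one_mul]

/-- Dichotomy for two transvections. -/
theorem ff_transv_dichotomy {G : Type*} [Group G] [Finite G] {p : ℕ} [Fact p.Prime]
    {V H Q : Subgroup G} (hS : FFSetup p V H Q) {a b : G} (ha : IsTransv p V H a)
    (hb : IsTransv p V H b) :
    b ∈ ffE Q a ∨
      (⁅V, ffE Q a⁆ ≠ ⁅V, ffE Q b⁆ ∧
        ffE Q b ≤ Subgroup.centralizer ((⁅V, ffE Q a⁆ : Subgroup G) : Set G) ∧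
        ∀ e ∈ ffE Q a, ∀ f ∈ ffE Q b, e * f = f * e) := by
  by_cases hW : ⁅V, ffE Q a⁆ = ⁅V, ffE Q b⁆
  · exact Or.inl (ffE_mem_of_eq hS ha hb hW)
  · exact Or.inr ⟨hW, ffE_cent_plane_of_ne hS ha hb hW, ffE_commute_of_ne hS ha hb hW⟩

set_option maxHeartbeats 1000000 in
/-- `E = [Q, ⟨a⟩]⟨a⟩` is a direct factor of `H`, with complement `C_H([V, E])`. -/
theorem ff_direct_factor {G : Type*} [Group G] [Finite G] {p : ℕ} [Fact p.Prime]
    {V H Q : Subgroup G} (hS : FFSetup p V H Q) {a : G} (ha : IsTransv p V H a)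
    (hgen : ∀ X : Subgroup G, (∀ b, IsTransv p V H b → b ∈ X) → H ≤ X) :
    H ≤ Subgroup.normalizer (ffE Q a : Set G) ∧
      ⁅ffE Q a, H ⊓ Subgroup.centralizer ((⁅V, ffE Q a⁆ : Subgroup G) : Set G)⁆ = ⊥ ∧
      ffE Q a ⊓ (H ⊓ Subgroup.centralizer ((⁅V, ffE Q a⁆ : Subgroup G) : Set G)) = ⊥ ∧
      ffE Q a ⊔ (H ⊓ Subgroup.centralizer ((⁅V, ffE Q a⁆ : Subgroup G) : Set G)) = H ∧
      ⁅V, H ⊓ Subgroup.centralizer ((⁅V, ffE Q a⁆ : Subgroup G) : Set G)⁆ ≤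
        V ⊓ Subgroup.centralizer (ffE Q a : Set G) := by
  classical
  obtain ⟨hp23, hWcard, hEf, -, -⟩ := ffE_main hS ha
  obtain ⟨hd1, hd2, -, -⟩ := ffE_decomp hS ha
  have hEH := ffE_le hS ha
  have hdich := fun b (hb : IsTransv p V H b) => ff_transv_dichotomy hS ha hb
  obtain ⟨hV, hHV, hf, hQH, hHQ, hQ, hsc⟩ := hS
  obtain ⟨E, hE⟩ : ∃ E : Subgroup G, E = ffE Q a := ⟨_, rfl⟩
  rw [← hE] at hWcard hEf hd1 hd2 hEH hdich ⊢
  have hHE : H ≤ Subgroup.normalizer (E : Set G) := by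
    apply hgen
    intro b hb
    rcases hdich b hb with h | ⟨-, -, h⟩
    · exact Subgroup.le_normalizer h
    · apply Subgroup.centralizer_le_normalizer
      rw [Subgroup.mem_centralizer_iff]
      intro e he
      exact h e he b (mem_ffE_self Q b)
  obtain ⟨W, hWdef⟩ : ∃ W : Subgroup G, W = ⁅V, E⁆ := ⟨_, rfl⟩
  rw [← hWdef] at hWcard hEf hd1 hd2 hdich ⊢
  have hHW : H ≤ Subgroup.normalizer (W : Set G) := fun h hh => by
    rw [hWdef]; exact mem_normalizer_commutator_of_mem V E (hHV hh) (hHE hh)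
  obtain ⟨C, hC⟩ : ∃ C : Subgroup G, C = H ⊓ Subgroup.centralizer (W : Set G) := ⟨_, rfl⟩
  rw [← hC]
  have hCH : C ≤ H := by rw [hC]; exact inf_le_left
  have hCW : C ≤ Subgroup.centralizer (W : Set G) := by rw [hC]; exact inf_le_right
  have hHC : H ≤ Subgroup.normalizer (C : Set G) := fun h hh => by
    rw [hC]; exact mem_normalizer_inf_centralizer H W (Subgroup.le_normalizer hh) (hHW hh)
  have hEC : E ⊓ C = ⊥ := by
    rw [eq_bot_iff, ← hEf]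
    exact inf_le_inf_left _ hCW
  have hcomm : ⁅E, C⁆ = ⊥ := by
    rw [eq_bot_iff, ← hEC]
    refine le_inf (commutator_le_of_le_normalizer E C (hCH.trans hHE)) ?_
    rw [Subgroup.commutator_comm]
    exact commutator_le_of_le_normalizer C E (hEH.trans hHC)
  have hsup : E ⊔ C = H := by
    apply le_antisymm (sup_le hEH hCH)
    apply hgen
    intro b hb
    rcases hdich b hb with h | ⟨-, h, -⟩
    · exact Subgroup.mem_sup_left h
    · apply Subgroup.mem_sup_right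
      rw [hC]
      exact ⟨hb.1, h (mem_ffE_self Q b)⟩
  refine ⟨hHE, hcomm, hEC, hsup, ?_⟩
  have hEcC : ∀ e ∈ E, ∀ c ∈ C, e * c = c * e := by
    intro e he c hc
    have h1 : ⁅e, c⁆ ∈ ⁅E, C⁆ := Subgroup.commutator_mem_commutator he hc
    rw [hcomm, Subgroup.mem_bot] at h1
    exact commutatorElement_eq_one_iff_mul_comm.mp h1
  rw [Subgroup.commutator_le]
  intro v hv c hc
  have hv' : v ∈ W ⊔ (V ⊓ Subgroup.centralizer (E : Set G)) := by rw [hd2]; exact hv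
  have hWV : W ≤ V := by rw [hWdef]; exact commutator_le_of_le_normalizer V E (hEH.trans hHV)
  obtain ⟨w, hw, u, hu, rfl⟩ :=
    Cfsg.Agent.Lib.helper10.exists_mul_of_mem_sup_of_normalizes (A := W)
      (B := V ⊓ Subgroup.centralizer (E : Set G))
    (fun x hx y hy => by
      have hc' : x * y = y * x := by
        have h := congrArg Subtype.val (hV.1.is_comm.comm ⟨x, hWV hx⟩ ⟨y, hy.1⟩)
        exact h
      have : x⁻¹ * y * x = y := by
        calc x⁻¹ * y * x = x⁻¹ * (y * x) := by group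
          _ = x⁻¹ * (x * y) := by rw [hc']
          _ = y := by group
      rw [this]; exact hy) hv'
  have hcw : w * c = c * w := Subgroup.mem_centralizer_iff.mp (hCW hc) w hw
  have hcV : c ∈ Subgroup.normalizer (V : Set G) := hHV (hCH hc)
  have hu' : c * u⁻¹ * c⁻¹ ∈ V := (Subgroup.mem_normalizer_iff.mp hcV _).mp (V.inv_mem hu.1)
  have huc : u * (c * u⁻¹ * c⁻¹) ∈ V := V.mul_mem hu.1 hu'
  have hwc : w * (u * (c * u⁻¹ * c⁻¹)) = (u * (c * u⁻¹ * c⁻¹)) * w := by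
    have h := congrArg Subtype.val (hV.1.is_comm.comm ⟨w, hWV hw⟩ ⟨_, huc⟩)
    exact h
  have e1' : w⁻¹ * c⁻¹ = c⁻¹ * w⁻¹ := by rw [← mul_inv_rev, ← mul_inv_rev, hcw]
  have e2 : ⁅w * u, c⁆ = u * (c * u⁻¹ * c⁻¹) := by
    rw [commutatorElement_def]
    calc w * u * c * (w * u)⁻¹ * c⁻¹ = w * (u * c * u⁻¹) * (w⁻¹ * c⁻¹) := by group
      _ = w * (u * c * u⁻¹) * (c⁻¹ * w⁻¹) := by rw [e1']
      _ = (w * (u * (c * u⁻¹ * c⁻¹))) * w⁻¹ := by group
      _ = ((u * (c * u⁻¹ * c⁻¹)) * w) * w⁻¹ := by rw [hwc]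
      _ = u * (c * u⁻¹ * c⁻¹) := by group
  rw [e2]
  refine ⟨huc, ?_⟩
  show u * (c * u⁻¹ * c⁻¹) ∈ Subgroup.centralizer (E : Set G)
  refine Subgroup.mul_mem _ hu.2 ?_
  rw [Subgroup.mem_centralizer_iff]
  intro e he
  have h1 : e * u⁻¹ = u⁻¹ * e :=
    Subgroup.mem_centralizer_iff.mp (Subgroup.inv_mem _ hu.2) e he
  have h2 := hEcC e he c hc
  have h3 : e * c⁻¹ = c⁻¹ * e := by
    have hc2 : Commute e c := h2
    exact hc2.inv_right.eq
  calc e * (c * u⁻¹ * c⁻¹) = (e * c) * u⁻¹ * c⁻¹ := by group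
    _ = (c * e) * u⁻¹ * c⁻¹ := by rw [h2]
    _ = c * (e * u⁻¹) * c⁻¹ := by group
    _ = c * (u⁻¹ * e) * c⁻¹ := by rw [h1]
    _ = c * u⁻¹ * (e * c⁻¹) := by group
    _ = c * u⁻¹ * (c⁻¹ * e) := by rw [h3]
    _ = c * u⁻¹ * c⁻¹ * e := by group

end Cfsg.Agent.Lib.helper14
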