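import Mathlib
import Cfsg.Prelude.Def_PLocal
import Cfsg.Prelude.Def_Transfer
import Cfsg.Agent.Lib.helper14.FFStruct2
import Cfsg.Agent.Lib.helper3.FFMin
import Cfsg.Agent.S0612

/-!
# Failure of factorization: interface with the statements' hypotheses (library, helper14)
-/

set_option autoImplicit false
set_option linter.style.haveILetI false
set_option linter.unusedVariables false
set_option linter.unusedSectionVars false

namespace Cfsg.Agent.Lib.helper14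

open scoped commutatorElement

theorem ff_setup_of {G : Type*} [Group G] [Finite G] {p : ℕ} [Fact p.Prime] (V H : Subgroup G)
    (hV : Cfsg.IsElementaryAbelian p V) (hHV : H ≤ Subgroup.normalizer (V : Set G))
    (hf : H ⊓ Subgroup.centralizer (V : Set G) = ⊥)
    (hS1 : Subgroup.centralizer (Cfsg.pPrimeCore p ↥H : Set ↥H) ≤ Cfsg.pPrimeCore p ↥H) :
    FFSetup p V H (Cfsg.Agent.Lib.helper3.ffQ p H) :=
  ⟨hV, hHV, hf, Cfsg.Agent.Lib.helper3.ffQ_le H, Cfsg.Agent.Lib.helper3.ffQ_normal H,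
    Cfsg.Agent.Lib.helper3.ffQ_coprime H,
    fun h hh hc => Cfsg.Agent.Lib.helper3.ffQ_self_centralizing H hS1 hh hc⟩

theorem ff_transv_of_min {G : Type*} [Group G] [Finite G] {p : ℕ} [Fact p.Prime] (V H : Subgroup G)
    (hV : Cfsg.IsElementaryAbelian p V) (hHV : H ≤ Subgroup.normalizer (V : Set G))
    (hf : H ⊓ Subgroup.centralizer (V : Set G) = ⊥)
    (hS1 : Subgroup.centralizer (Cfsg.pPrimeCore p ↥H : Set ↥H) ≤ Cfsg.pPrimeCore p ↥H)
    (A : Subgroup G) (hAH : A ≤ H) (hA : Cfsg.IsBestOffenderOn p V A) (hAV : ⁅V, A⁆ ≠ ⊥)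
    (hmin : ∀ B : Subgroup G, B ≤ A → Cfsg.IsBestOffenderOn p V B → ⁅V, B⁆ ≠ ⊥ → B = A) :
    ∃ a, IsTransv p V H a ∧ Subgroup.zpowers a = A := by
  obtain ⟨hcA, hcV, hrel, a, haA, hza⟩ :=
    Cfsg.Agent.Lib.helper3.ff_min_offender V H hV hHV hf hS1 A hAH hA hAV hmin
  exact ⟨a, ⟨hAH haA, by rw [← Nat.card_zpowers, hza, hcA], by rw [hza]; exact hcV⟩, hza⟩

/-- `H` is generated by its transvections. -/
theorem ff_gen {G : Type*} [Group G] [Finite G] {p : ℕ} [Fact p.Prime] (V H : Subgroup G)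
    (hV : Cfsg.IsElementaryAbelian p V) (hHV : H ≤ Subgroup.normalizer (V : Set G))
    (hf : H ⊓ Subgroup.centralizer (V : Set G) = ⊥)
    (hS1 : Subgroup.centralizer (Cfsg.pPrimeCore p ↥H : Set ↥H) ≤ Cfsg.pPrimeCore p ↥H)
    (hS3 : H = ⨆ A : {A : Subgroup G // A ≤ H ∧ Cfsg.IsBestOffenderOn p V A}, (A : Subgroup G))
    (hH1 : H ≠ ⊥) (X : Subgroup G) (hX : ∀ b, IsTransv p V H b → b ∈ X) : H ≤ X := by
  have key : ∀ B : Subgroup G, B ≤ H → Cfsg.IsBestOffenderOn p V B → B ≤ X := by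
    intro B hBH hB
    by_cases hB1 : B = ⊥
    · rw [hB1]; exact bot_le
    · obtain ⟨k, Bi, hBi, -, hsup⟩ :=
        Cfsg.Agent.S0612.result V H hV hHV hf hS1 hS3 hH1 B hBH hB hB1
      rw [← hsup]
      apply iSup_le
      intro i
      obtain ⟨hi1, hi2, hi3, hi4⟩ := hBi i
      obtain ⟨b, hb, hzb⟩ :=
        ff_transv_of_min V H hV hHV hf hS1 (Bi i) (hi1.trans hBH) hi2 hi3 hi4
      rw [← hzb]
      exact Subgroup.zpowers_le.mpr (hX b hb)
  calc H = ⨆ A : {A : Subgroup G // A ≤ H ∧ Cfsg.IsBestOffenderOn p V A}, (A : Subgroup G) := hS3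
    _ ≤ X := iSup_le (fun B => key B.1 B.2.1 B.2.2)

end Cfsg.Agent.Lib.helper14
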