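import Mathlib
import Cfsg.Prelude.Def_PLocal
import Cfsg.Prelude.Def_Transfer
import Cfsg.Agent.Lib.helper14.FFStruct2

/-!
# Failure of factorization: the structure theorem (library, helper14)
-/

set_option autoImplicit false
set_option linter.style.haveILetI false
set_option linter.unusedVariables false
set_option linter.unusedSectionVars false

namespace Cfsg.Agent.Lib.helper14

open scoped commutatorElement

/-- `[V, ⨆ i, K i] ≤ ⨆ i, [V, K i]` when all `K i` normalize `V`. -/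
theorem commutator_iSup_le {G : Type*} [Group G] {ι : Sort*} (V : Subgroup G) (K : ι → Subgroup G)
    (hK : ∀ i, K i ≤ Subgroup.normalizer (V : Set G)) : ⁅V, ⨆ i, K i⁆ ≤ ⨆ i, ⁅V, K i⁆ := by
  have key : ∀ l ∈ ⨆ i, K i, l ∈ Subgroup.normalizer (V : Set G) ∧
      ∀ v ∈ V, ⁅v, l⁆ ∈ ⨆ i, ⁅V, K i⁆ := by
    intro l hl
    refine Subgroup.iSup_induction K (C := fun l => l ∈ Subgroup.normalizer (V : Set G) ∧
      ∀ v ∈ V, ⁅v, l⁆ ∈ ⨆ i, ⁅V, K i⁆) hl ?_ ?_ ?_
    · intro i x hx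
      exact ⟨hK i hx, fun v hv =>
        Subgroup.mem_iSup_of_mem i (Subgroup.commutator_mem_commutator hv hx)⟩
    · exact ⟨Subgroup.one_mem _, fun v hv => by simp⟩
    · intro x y ihx ihy
      refine ⟨Subgroup.mul_mem _ ihx.1 ihy.1, fun v hv => ?_⟩
      have hwV : ⁅v, y⁆ ∈ V := by
        rw [commutatorElement_def]
        have : v * y * v⁻¹ * y⁻¹ = v * (y * v⁻¹ * y⁻¹) := by group
        rw [this]
        exact V.mul_mem hv ((Subgroup.mem_normalizer_iff.mp ihy.1 _).mp (V.inv_mem hv))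
      have e : ⁅v, x * y⁆ = ⁅v, x⁆ * (⁅v, y⁆ * ⁅⁅v, y⁆⁻¹, x⁆) := by
        simp only [commutatorElement_def]; group
      rw [e]
      exact Subgroup.mul_mem _ (ihx.2 v hv)
        (Subgroup.mul_mem _ (ihy.2 v hv) (ihx.2 _ (V.inv_mem hwV)))
  rw [Subgroup.commutator_le]
  intro v hv l hl
  exact (key l hl).2 v hv

theorem isTransv_conj {G : Type*} [Group G] [Finite G] {p : ℕ} {V H : Subgroup G}
    (hHV : H ≤ Subgroup.normalizer (V : Set G)) {a : G} (ha : IsTransv p V H a) {y : G}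
    (hy : y ∈ H) : IsTransv p V H (y * a * y⁻¹) := by
  refine ⟨H.mul_mem (H.mul_mem hy ha.1) (H.inv_mem hy), ?_, ?_⟩
  · have : y * a * y⁻¹ = MulAut.conj y a := rfl
    rw [this, MulEquiv.orderOf_eq, ha.2.1]
  · have h1 : ⁅V, Subgroup.zpowers (y * a * y⁻¹)⁆ =
        (⁅V, Subgroup.zpowers a⁆).map (MulAut.conj y).toMonoidHom := by
      rw [Subgroup.map_commutator, map_conj_eq_of_mem_normalizer V (hHV hy),
        MonoidHom.map_zpowers]
      rfl
    rw [h1, Subgroup.card_map_of_injective (MulAut.conj y).injective, ha.2.2]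

/-- A transvection lying in `E_a` has `E_b = E_a`. -/
theorem ffE_eq_of_mem {G : Type*} [Group G] [Finite G] {p : ℕ} [Fact p.Prime] {V H Q : Subgroup G}
    (hS : FFSetup p V H Q) {a b : G} (ha : IsTransv p V H a) (hb : IsTransv p V H b)
    (hba : b ∈ ffE Q a) : ffE Q b = ffE Q a := by
  obtain ⟨-, -, -, ⟨ea⟩, -⟩ := ffE_main hS ha
  obtain ⟨-, -, -, ⟨eb⟩, -⟩ := ffE_main hS hb
  have hQE := ffE_normal_Q Q a
  have hzb : Subgroup.zpowers b ≤ ffE Q a := Subgroup.zpowers_le.mpr hba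
  have hle : ffE Q b ≤ ffE Q a := by
    refine sup_le ?_ hzb
    rw [Subgroup.commutator_le]
    intro x hx h hh
    rw [commutatorElement_def]
    exact Subgroup.mul_mem _ ((Subgroup.mem_normalizer_iff.mp (hQE hx) h).mp (hzb hh))
      (Subgroup.inv_mem _ (hzb hh))
  exact Subgroup.eq_of_le_of_card_ge hle (by
    rw [Nat.card_congr ea.toEquiv, Nat.card_congr eb.toEquiv])

theorem ffE_cent_of_ne {G : Type*} [Group G] [Finite G] {p : ℕ} [Fact p.Prime] {V H Q : Subgroup G}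
    (hS : FFSetup p V H Q) {a b : G} (ha : IsTransv p V H a) (hb : IsTransv p V H b)
    (hne : ffE Q a ≠ ffE Q b) :
    ffE Q b ≤ Subgroup.centralizer ((⁅V, ffE Q a⁆ : Subgroup G) : Set G) := by
  rcases ff_transv_dichotomy hS ha hb with h | ⟨-, h, -⟩
  · exact absurd (ffE_eq_of_mem hS ha hb h).symm hne
  · exact h

set_option maxHeartbeats 1000000 in
/-- **Structure theorem** for failure of factorization, for a family `E i` of the subgroups
`[Q, ⟨a⟩]⟨a⟩` that generates `H`. -/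
theorem ff_structure {G : Type*} [Group G] [Finite G] {p : ℕ} [Fact p.Prime] {V H Q : Subgroup G}
    (hS : FFSetup p V H Q) {ι : Type*} (E : ι → Subgroup G)
    (hE : ∀ i, ∃ a, IsTransv p V H a ∧ E i = ffE Q a) (hinj : Function.Injective E)
    (hgen : ∀ X : Subgroup G, (∀ i, E i ≤ X) → H ≤ X) (hH1 : H ≠ ⊥) :
    (p = 2 ∨ p = 3) ∧
      (∀ i, H ≤ Subgroup.normalizer (E i : Set G) ∧
        Nonempty (↥(E i) ≃* Matrix.SpecialLinearGroup (Fin 2) (ZMod p)) ∧
        Nat.card ↥(⁅V, E i⁆) = p ^ 2) ∧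
      iSupIndep E ∧ (⨆ i, E i) = H ∧
      iSupIndep (fun o : Option ι => o.elim (V ⊓ Subgroup.centralizer (H : Set G))
        (fun i => ⁅V, E i⁆)) ∧
      (V ⊓ Subgroup.centralizer (H : Set G)) ⊔ (⨆ i, ⁅V, E i⁆) = V := by
  classical
  have hS' := hS
  obtain ⟨hV, hHV, hf, hQH, hHQ, hQ, hsc⟩ := hS'
  have hgenT : ∀ X : Subgroup G, (∀ b, IsTransv p V H b → b ∈ X) → H ≤ X := by
    intro X hX
    apply hgen
    intro i
    obtain ⟨a, ha, hEi⟩ := hE i
    obtain ⟨y, hyQ, -, hpair⟩ := ffE_pair hS ha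
    rw [hEi, hpair, MonoidHom.map_zpowers]
    exact sup_le (Subgroup.zpowers_le.mpr (hX a ha))
      (Subgroup.zpowers_le.mpr (hX _ (isTransv_conj hHV ha (hQH hyQ))))
  have hne : Nonempty ι := by
    by_contra h
    exact hH1 (eq_bot_iff.mpr (hgen ⊥ (fun i => absurd ⟨i⟩ h)))
  obtain ⟨i₀⟩ := hne
  obtain ⟨a₀, ha₀, -⟩ := hE i₀
  have hcent : ∀ i j, i ≠ j → E j ≤ Subgroup.centralizer ((⁅V, E i⁆ : Subgroup G) : Set G) := by
    intro i j hij
    obtain ⟨a, ha, hEi⟩ := hE i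
    obtain ⟨b, hb, hEj⟩ := hE j
    rw [hEi, hEj]
    exact ffE_cent_of_ne hS ha hb (by rw [← hEi, ← hEj]; exact fun h => hij (hinj h))
  have hEH : ∀ i, E i ≤ H := by
    intro i
    obtain ⟨a, ha, hEi⟩ := hE i
    rw [hEi]; exact ffE_le hS ha
  have hsupH : (⨆ i, E i) = H :=
    le_antisymm (iSup_le hEH) (hgen _ (fun i => le_iSup E i))
  have hQV : Q ≤ Subgroup.normalizer (V : Set G) := hQH.trans hHV
  haveI : IsMulCommutative V := hV.1
  have hVp : IsPGroup p V := fun v =>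
    ⟨1, Subtype.ext (by rw [pow_one, Subgroup.coe_pow]; exact hV.2 v v.2)⟩
  have hcopQ : (Nat.card Q).Coprime (Nat.card V) := by
    obtain ⟨k, hk⟩ := IsPGroup.iff_card.mp hVp
    rw [hk]
    exact Nat.Coprime.pow_right k hQ
  obtain ⟨hQd1, hQd2⟩ := Cfsg.Agent.Lib.helper8.abelian_fixed_commutator Q V hQV hcopQ
  have hWV : ∀ i, ⁅V, E i⁆ ≤ V := fun i =>
    commutator_le_of_le_normalizer V _ ((hEH i).trans hHV)
  have hWQ : ∀ i, ⁅V, E i⁆ ≤ ⁅V, Q⁆ := by
    intro i
    obtain ⟨a, ha, hEi⟩ := hE i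
    obtain ⟨-, -, e1, -⟩ := ffE_decomp hS ha
    obtain ⟨-, -, haQ, -, -⟩ := ff_transv_basic hS ha
    rw [hEi, e1]
    exact Subgroup.commutator_mono le_rfl
      (commutator_le_of_le_normalizer Q _ (Subgroup.zpowers_le.mpr haQ))
  refine ⟨(ffE_main hS ha₀).1, ?_, ?_, hsupH, ?_, ?_⟩
  · intro i
    obtain ⟨a, ha, hEi⟩ := hE i
    rw [hEi]
    exact ⟨(ff_direct_factor hS ha hgenT).1, (ffE_main hS ha).2.2.2.1, (ffE_main hS ha).2.1⟩
  · intro i
    rw [disjoint_iff, eq_bot_iff]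
    obtain ⟨a, ha, hEi⟩ := hE i
    have hEf := (ffE_main hS ha).2.2.1
    rw [← hEi] at hEf
    rw [← hEf]
    exact inf_le_inf_left _ (iSup₂_le (fun j hj => hcent i j (Ne.symm hj)))
  · intro o
    rw [disjoint_iff, eq_bot_iff]
    cases o with
    | none =>
      rw [← hQd1]
      refine le_inf (inf_le_left.trans (inf_le_inf_left _
        (Subgroup.centralizer_le (SetLike.coe_subset_coe.mpr hQH))))
        (inf_le_right.trans (iSup₂_le (fun j hj => ?_)))
      cases j with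
      | none => exact absurd rfl hj
      | some j' => exact hWQ j'
    | some i =>
      obtain ⟨a, ha, hEi⟩ := hE i
      obtain ⟨hd1, -, -, -⟩ := ffE_decomp hS ha
      rw [← hEi] at hd1
      rw [← hd1]
      refine le_inf inf_le_left (inf_le_right.trans (iSup₂_le (fun j hj => ?_)))
      cases j with
      | none =>
        exact inf_le_inf_left _ (Subgroup.centralizer_le (SetLike.coe_subset_coe.mpr (hEH i)))
      | some j' =>
        have hji : j' ≠ i := fun h => hj (by rw [h])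
        exact le_inf (hWV j') (Subgroup.le_centralizer_iff.mp (hcent j' i hji))
  · apply le_antisymm (sup_le inf_le_left (iSup_le hWV))
    have hCQ : V ⊓ Subgroup.centralizer (Q : Set G) ≤ V ⊓ Subgroup.centralizer (H : Set G) := by
      intro x hx
      refine ⟨hx.1, ?_⟩
      have h1 : H ≤ Subgroup.centralizer ({x} : Set G) := by
        apply hgen
        intro i
        obtain ⟨a, ha, hEi⟩ := hE i
        obtain ⟨-, -, -, e2⟩ := ffE_decomp hS ha
        obtain ⟨-, -, haQ, -, -⟩ := ff_transv_basic hS ha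
        have hTQ : ⁅Q, Subgroup.zpowers a⁆ ≤ Q :=
          commutator_le_of_le_normalizer Q _ (Subgroup.zpowers_le.mpr haQ)
        have hx2 : x ∈ V ⊓ Subgroup.centralizer (ffE Q a : Set G) := by
          rw [e2]
          exact ⟨hx.1, Subgroup.centralizer_le (SetLike.coe_subset_coe.mpr hTQ) hx.2⟩
        rw [hEi]
        intro e he
        rw [Subgroup.mem_centralizer_iff]
        intro g hg
        rw [Set.mem_singleton_iff] at hg
        rw [hg]
        exact (Subgroup.mem_centralizer_iff.mp hx2.2 e he).symm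
      show x ∈ Subgroup.centralizer (H : Set G)
      rw [Subgroup.mem_centralizer_iff]
      intro h hh
      exact (Subgroup.mem_centralizer_iff.mp (h1 hh) x rfl).symm
    have hVQ : ⁅V, Q⁆ ≤ ⨆ i, ⁅V, E i⁆ :=
      (Subgroup.commutator_mono le_rfl (hQH.trans hsupH.ge)).trans
        (commutator_iSup_le V E (fun i => (hEH i).trans hHV))
    calc V = (V ⊓ Subgroup.centralizer (Q : Set G)) ⊔ ⁅V, Q⁆ := hQd2.symm
      _ ≤ (V ⊓ Subgroup.centralizer (H : Set G)) ⊔ (⨆ i, ⁅V, E i⁆) :=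
        sup_le (hCQ.trans le_sup_left) (hVQ.trans le_sup_right)

end Cfsg.Agent.Lib.helper14
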