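import Mathlib
import Cfsg.Agent.Lib.helper14.FFStruct3
import Cfsg.Agent.Lib.helper14.FFStruct4
import Cfsg.Agent.Lib.helper8.CoprimeAction

/-!
# Failure of factorization under a coprime abelian operator group (library, helper14)
-/

set_option autoImplicit false
set_option linter.style.haveILetI false
set_option linter.unusedVariables false
set_option linter.unusedSectionVars false

namespace Cfsg.Agent.Lib.helper14

open scoped commutatorElement

theorem card_sl2_zmod3 : Nat.card (Matrix.SpecialLinearGroup (Fin 2) (ZMod 3)) = 24 := by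
  rw [Nat.card_eq_fintype_card]
  decide

theorem isTransv_conj' {G : Type*} [Group G] [Finite G] {p : ℕ} {V H : Subgroup G} {a : G}
    (ha : IsTransv p V H a) {y : G} (hyV : y ∈ Subgroup.normalizer (V : Set G))
    (hyH : y ∈ Subgroup.normalizer (H : Set G)) : IsTransv p V H (y * a * y⁻¹) := by
  refine ⟨(Subgroup.mem_normalizer_iff.mp hyH a).mp ha.1, ?_, ?_⟩
  · have : y * a * y⁻¹ = MulAut.conj y a := rfl
    rw [this, MulEquiv.orderOf_eq, ha.2.1]
  · have h1 : ⁅V, Subgroup.zpowers (y * a * y⁻¹)⁆ =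
        (⁅V, Subgroup.zpowers a⁆).map (MulAut.conj y).toMonoidHom := by
      rw [Subgroup.map_commutator, map_conj_eq_of_mem_normalizer V hyV, MonoidHom.map_zpowers]
      rfl
    rw [h1, Subgroup.card_map_of_injective (MulAut.conj y).injective, ha.2.2]

theorem ffE_conj {G : Type*} [Group G] (Q : Subgroup G) (a : G) {y : G}
    (hyQ : y ∈ Subgroup.normalizer (Q : Set G)) :
    ffE Q (y * a * y⁻¹) = (ffE Q a).map (MulAut.conj y).toMonoidHom := by
  unfold ffE
  rw [Subgroup.map_sup, Subgroup.map_commutator, map_conj_eq_of_mem_normalizer Q hyQ,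
    MonoidHom.map_zpowers]
  rfl

theorem mem_normalizer_of_map_conj_eq {G : Type*} [Group G] (E : Subgroup G) {u : G}
    (h : E.map (MulAut.conj u).toMonoidHom = E) : u ∈ Subgroup.normalizer (E : Set G) := by
  rw [Subgroup.mem_normalizer_iff]
  intro x
  constructor
  · intro hx
    rw [← h]
    exact Subgroup.mem_map.mpr ⟨x, hx, rfl⟩
  · intro hx
    rw [← h] at hx
    obtain ⟨y, hy, hyx⟩ := Subgroup.mem_map.mp hx
    have : y = x := (MulAut.conj u).injective hyx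
    rw [← this]; exact hy

/-- A `q`-element normalizing `W` centralizes it as soon as `q` divides no `|W| - |F|`. -/
theorem pgroup_centralizes_of_card {G : Type*} [Group G] [Finite G] {q : ℕ} [Fact q.Prime]
    (W : Subgroup G) (u : G) (huq : IsPGroup q (Subgroup.zpowers u))
    (huW : u ∈ Subgroup.normalizer (W : Set G))
    (hcard : ∀ F : Subgroup G, F ≤ W → F ≠ W → ¬ q ∣ Nat.card W - Nat.card F) :
    ∀ w ∈ W, u * w * u⁻¹ = w := by
  classical
  have hUW : Subgroup.zpowers u ≤ Subgroup.normalizer (W : Set G) := Subgroup.zpowers_le.mpr huW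
  let φ : ↥(Subgroup.zpowers u) →* MulAut ↥W :=
    (Subgroup.normalizerMonoidHom W).comp (Subgroup.inclusion hUW)
  letI : MulAction ↥(Subgroup.zpowers u) ↥W := MulAction.compHom ↥W φ
  have hsmul : ∀ (g : ↥(Subgroup.zpowers u)) (w : ↥W),
      ((g • w : ↥W) : G) = (g : G) * w * (g : G)⁻¹ := fun g w => rfl
  have hmod := huq.card_modEq_card_fixedPoints ↥W
  obtain ⟨F, hF⟩ : ∃ F : Subgroup G,
      F = W ⊓ Subgroup.centralizer (Subgroup.zpowers u : Set G) := ⟨_, rfl⟩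
  have hFW : F ≤ W := hF ▸ inf_le_left
  have hset : MulAction.fixedPoints ↥(Subgroup.zpowers u) ↥W =
      ((F.subgroupOf W : Subgroup ↥W) : Set ↥W) := by
    ext w
    rw [MulAction.mem_fixedPoints, SetLike.mem_coe, Subgroup.mem_subgroupOf, hF]
    constructor
    · intro h
      refine ⟨w.2, Subgroup.mem_centralizer_iff.mpr fun g hg => ?_⟩
      have := congrArg Subtype.val (h ⟨g, hg⟩)
      rw [hsmul] at this
      exact mul_inv_eq_iff_eq_mul.mp this
    · intro h g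
      apply Subtype.ext
      rw [hsmul]
      have := Subgroup.mem_centralizer_iff.mp h.2 g g.2
      rw [this]; group
  have hcardF : Nat.card (MulAction.fixedPoints ↥(Subgroup.zpowers u) ↥W) = Nat.card F := by
    rw [hset]
    exact Nat.card_congr (Subgroup.subgroupOfEquivOfLe hFW).toEquiv
  rw [hcardF] at hmod
  have hFeq : F = W := by
    by_contra hne
    apply hcard F hFW hne
    exact (Nat.modEq_iff_dvd' (Subgroup.card_le_of_le hFW)).mp hmod.symm
  intro w hw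
  have hw' : w ∈ F := hFeq ▸ hw
  rw [hF] at hw'
  have := Subgroup.mem_centralizer_iff.mp hw'.2 u (Subgroup.mem_zpowers u)
  rw [this]; group

theorem not_dvd_plane {p q : ℕ} (hp : p = 2 ∨ p = 3) (hq : q.Prime) (hq2 : q ≠ 2) (hq3 : q ≠ 3)
    {G : Type*} [Group G] [Finite G] (W F : Subgroup G) (hW : Nat.card W = p ^ 2) (hFW : F ≤ W)
    (hne : F ≠ W) : ¬ q ∣ Nat.card W - Nat.card F := by
  have hdvd : Nat.card F ∣ Nat.card W := Subgroup.card_dvd_of_le hFW
  have hne' : Nat.card F ≠ Nat.card W := fun h =>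
    hne (Subgroup.eq_of_le_of_card_ge hFW h.ge)
  rw [hW] at hdvd hne' ⊢
  have h2 : q ∣ 2 → False := fun h => hq2 ((Nat.prime_dvd_prime_iff_eq hq Nat.prime_two).mp h)
  have h3 : q ∣ 3 → False := fun h => hq3 ((Nat.prime_dvd_prime_iff_eq hq Nat.prime_three).mp h)
  generalize Nat.card F = n at hdvd hne'
  intro hqd
  rcases hp with rfl | rfl
  · have hle : n ≤ 4 := Nat.le_of_dvd (by norm_num) hdvd
    interval_cases n
    · simp at hdvd
    · exact h3 hqd
    · exact h2 hqd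
    · norm_num at hdvd
    · exact hne' rfl
  · have hle : n ≤ 9 := Nat.le_of_dvd (by norm_num) hdvd
    interval_cases n
    · simp at hdvd
    · have : q ∣ 2 ^ 3 := hqd
      exact h2 (hq.dvd_of_dvd_pow this)
    · norm_num at hdvd
    · have : q ∣ 2 * 3 := hqd
      rcases (Nat.Prime.dvd_mul hq).mp this with h | h
      · exact h2 h
      · exact h3 h
    · norm_num at hdvd
    · norm_num at hdvd
    · norm_num at hdvd
    · norm_num at hdvd
    · norm_num at hdvd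
    · exact hne' rfl

/-- Hypotheses on a coprime abelian `q`-group of operators. -/
def FFOp {G : Type*} [Group G] (q : ℕ) (V H Q X : Subgroup G) : Prop :=
  X ≤ Subgroup.normalizer (V : Set G) ∧ X ≤ Subgroup.normalizer (H : Set G) ∧
    X ≤ Subgroup.normalizer (Q : Set G) ∧ IsPGroup q X ∧ (∀ x ∈ X, ∀ y ∈ X, x * y = y * x) ∧
    q ≠ 2 ∧ q ≠ 3

theorem ffX_stab {G : Type*} [Group G] [Finite G] {p : ℕ} [Fact p.Prime] {V H Q : Subgroup G}
    (hS : FFSetup p V H Q) {a : G} (ha : IsTransv p V H a) {q : ℕ} [Fact q.Prime]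
    {X : Subgroup G} (hX : FFOp q V H Q X) {u : G} (hu : u ∈ X)
    (huE : u ∈ Subgroup.normalizer (ffE Q a : Set G)) :
    (∀ w ∈ ⁅V, ffE Q a⁆, u * w * u⁻¹ = w) ∧ (∀ e ∈ ffE Q a, u * e * u⁻¹ = e) := by
  obtain ⟨hXV, hXH, hXQ, hXq, hXab, hq2, hq3⟩ := hX
  obtain ⟨hp23, hWcard, hfaith, -, -⟩ := ffE_main hS ha
  have huV := hXV hu
  have huq : IsPGroup q (Subgroup.zpowers u) := hXq.to_le (Subgroup.zpowers_le.mpr hu)
  have huW : u ∈ Subgroup.normalizer ((⁅V, ffE Q a⁆ : Subgroup G) : Set G) :=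
    Cfsg.Agent.Lib.helper8.le_normalizer_commutator (B := Subgroup.zpowers u)
      (Subgroup.zpowers_le.mpr huV) (Subgroup.zpowers_le.mpr huE) (Subgroup.mem_zpowers u)
  have h1 : ∀ w ∈ ⁅V, ffE Q a⁆, u * w * u⁻¹ = w :=
    pgroup_centralizes_of_card _ u huq huW
      (fun F hF hne => not_dvd_plane hp23 Fact.out hq2 hq3 _ F hWcard hF hne)
  refine ⟨h1, fun e he => ?_⟩
  have hEW : ffE Q a ≤ Subgroup.normalizer ((⁅V, ffE Q a⁆ : Subgroup G) : Set G) :=
    le_normalizer_commutator_right' V (ffE Q a)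
  have hg : u * e * u⁻¹ * e⁻¹ ∈
      ffE Q a ⊓ Subgroup.centralizer ((⁅V, ffE Q a⁆ : Subgroup G) : Set G) := by
    refine Subgroup.mem_inf.mpr ⟨(ffE Q a).mul_mem ((Subgroup.mem_normalizer_iff.mp huE e).mp he)
      ((ffE Q a).inv_mem he), Subgroup.mem_centralizer_iff.mpr fun w hw => ?_⟩
    obtain ⟨w', hw', rfl⟩ : ∃ w' ∈ ⁅V, ffE Q a⁆, w = e * w' * e⁻¹ :=
      ⟨e⁻¹ * w * e, (Subgroup.mem_normalizer_iff''.mp (hEW he) w).mp hw, by group⟩
    have hc1 : u * w' = w' * u := mul_inv_eq_iff_eq_mul.mp (h1 w' hw')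
    have hc2 : u * (e * w' * e⁻¹) = (e * w' * e⁻¹) * u := mul_inv_eq_iff_eq_mul.mp (h1 _ hw)
    have hc3 : u⁻¹ * w' = w' * u⁻¹ := by
      rw [eq_mul_inv_iff_mul_eq, mul_assoc, ← hc1, inv_mul_cancel_left]
    calc (e * w' * e⁻¹) * (u * e * u⁻¹ * e⁻¹)
        = ((e * w' * e⁻¹) * u) * e * u⁻¹ * e⁻¹ := by group
      _ = (u * (e * w' * e⁻¹)) * e * u⁻¹ * e⁻¹ := by rw [hc2]
      _ = u * e * (w' * u⁻¹) * e⁻¹ := by group
      _ = u * e * (u⁻¹ * w') * e⁻¹ := by rw [hc3]
      _ = (u * e * u⁻¹ * e⁻¹) * (e * w' * e⁻¹) := by group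
  rw [hfaith, Subgroup.mem_bot] at hg
  exact mul_inv_eq_one.mp hg

theorem ffX_moved {G : Type*} [Group G] [Finite G] {p : ℕ} [Fact p.Prime] {V H Q : Subgroup G}
    (hS : FFSetup p V H Q) {a : G} (ha : IsTransv p V H a) {q : ℕ}
    {X : Subgroup G} (hX : FFOp q V H Q X) {u : G} (hu : u ∈ X)
    (huE : u ∉ Subgroup.normalizer (ffE Q a : Set G)) :
    (∀ e ∈ ffE Q a, ∀ f ∈ ffE Q a, e * (u * f * u⁻¹) = (u * f * u⁻¹) * e) ∧
    (∀ f ∈ ffE Q a, u * f * u⁻¹ ∈
      Subgroup.centralizer ((⁅V, ffE Q a⁆ : Subgroup G) : Set G)) ∧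
    (∀ w ∈ ⁅V, ffE Q a⁆, u * w * u⁻¹ ∈ Subgroup.centralizer (ffE Q a : Set G)) := by
  obtain ⟨hXV, hXH, hXQ, hXq, hXab, hq2, hq3⟩ := hX
  have hb := isTransv_conj' ha (hXV hu) (hXH hu)
  have hEb := ffE_conj Q a (hXQ hu)
  have hne : ffE Q a ≠ ffE Q (u * a * u⁻¹) := by
    intro h
    apply huE
    apply mem_normalizer_of_map_conj_eq
    rw [← hEb, ← h]
  have hmem : ∀ f ∈ ffE Q a, u * f * u⁻¹ ∈ ffE Q (u * a * u⁻¹) := by
    intro f hf
    rw [hEb]
    exact Subgroup.mem_map.mpr ⟨f, hf, rfl⟩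
  rcases ff_transv_dichotomy hS ha hb with h | ⟨-, hcent, hcomm⟩
  · exact absurd (ffE_eq_of_mem hS ha hb h).symm hne
  refine ⟨fun e he f hf => hcomm e he _ (hmem f hf), fun f hf => hcent (hmem f hf), ?_⟩
  rcases ff_transv_dichotomy hS hb ha with h | ⟨-, hcent', -⟩
  · exact absurd (ffE_eq_of_mem hS hb ha h) hne
  intro w hw
  have hw' : u * w * u⁻¹ ∈ ⁅V, ffE Q (u * a * u⁻¹)⁆ := by
    have h2 : (⁅V, ffE Q a⁆).map (MulAut.conj u).toMonoidHom = ⁅V, ffE Q (u * a * u⁻¹)⁆ := by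
      rw [Subgroup.map_commutator, map_conj_eq_of_mem_normalizer V (hXV hu), ← hEb]
    rw [← h2]
    exact Subgroup.mem_map.mpr ⟨w, hw, rfl⟩
  rw [Subgroup.mem_centralizer_iff]
  intro e he
  exact (Subgroup.mem_centralizer_iff.mp (hcent' he) _ hw').symm

end Cfsg.Agent.Lib.helper14
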