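import Cfsg.Agent.Lib.helper14.InvComplement
import Cfsg.Agent.Lib.helper7.Subn
import Cfsg.Agent.Lib.helper7.FStar
import Cfsg.Agent.Lib.helper7.Central
import Cfsg.Agent.Lib.helper8.CoprimeAction

set_option autoImplicit false
set_option linter.unusedSectionVars false
set_option linter.unusedVariables false

namespace Cfsg.Agent.Lib.helper14

open Cfsg
open scoped commutatorElement Pointwise

universe u

section core
variable {G : Type u} [Group G]

/-- closure version of `commutator_iSup_le`. -/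
theorem commutator_closure_le (S : Set G) (L D : Subgroup G)
    (hS : ∀ s ∈ S, s ∈ Subgroup.normalizer (D : Set G))
    (h : ∀ s ∈ S, ∀ l ∈ L, ⁅s, l⁆ ∈ D) : ⁅Subgroup.closure S, L⁆ ≤ D := by
  have key : ∀ z ∈ Subgroup.closure S,
      z ∈ Subgroup.normalizer (D : Set G) ∧ ∀ l ∈ L, ⁅z, l⁆ ∈ D := by
    intro z hz
    induction hz using Subgroup.closure_induction with
    | mem x hx => exact ⟨hS x hx, h x hx⟩
    | one => exact ⟨Subgroup.one_mem _, fun l hl => by simp⟩
    | mul x y _ _ hx hy =>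
      refine ⟨Subgroup.mul_mem _ hx.1 hy.1, fun l hl => ?_⟩
      have h2 : ⁅x * y, l⁆ = x * ⁅y, l⁆ * x⁻¹ * ⁅x, l⁆ := by
        simp only [commutatorElement_def]; group
      rw [h2]
      exact D.mul_mem ((Subgroup.mem_normalizer_iff.1 hx.1 _).1 (hy.2 l hl)) (hx.2 l hl)
    | inv x _ hx =>
      refine ⟨Subgroup.inv_mem _ hx.1, fun l hl => ?_⟩
      have h2 : ⁅x⁻¹, l⁆ = x⁻¹ * (⁅x, l⁆)⁻¹ * x⁻¹⁻¹ := by
        simp only [commutatorElement_def]; group
      rw [h2]
      exact (Subgroup.mem_normalizer_iff.1 (Subgroup.inv_mem _ hx.1) _).1 (D.inv_mem (hx.2 l hl))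
  rw [Subgroup.commutator_le]
  intro z hz l hl
  exact (key z hz).2 l hl

/-- Abstract data for the action of `Y` on a subgroup `L` generated by a `Y`-invariant family
`𝒦` of pairwise commuting "quasisimple" subgroups and a subgroup `N` on which `Y` acts coprimely. -/
structure FSAct (L Y N : Subgroup G) (𝒦 : Set (Subgroup G)) : Prop where
  hYL : Y ≤ Subgroup.normalizer (L : Set G)
  hKL : ∀ K ∈ 𝒦, K ≤ L
  hperf : ∀ K ∈ 𝒦, ⁅K, K⁆ = K
  hqs : ∀ K ∈ 𝒦, ∀ D : Subgroup G, D ≤ K → K ≤ Subgroup.normalizer (D : Set G) →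
    D = K ∨ D ≤ Subgroup.centralizer (K : Set G)
  hcomm : ∀ K ∈ 𝒦, ∀ K' ∈ 𝒦, K ≠ K' → K' ≤ Subgroup.centralizer (K : Set G)
  hconj : ∀ K ∈ 𝒦, ∀ y ∈ Y, K.map (MulAut.conj y).toMonoidHom ∈ 𝒦
  hNK : ∀ K ∈ 𝒦, N ≤ Subgroup.centralizer (K : Set G)
  hNL : N ≤ L
  hLN : L ≤ Subgroup.normalizer (N : Set G)
  hYN : Y ≤ Subgroup.normalizer (N : Set G)
  hcop : (Nat.card Y).Coprime (Nat.card N)
  hsolv : Group.IsSolvable Y ∨ Group.IsSolvable N
  hgen : L ≤ sSup 𝒦 ⊔ N

variable {L Y N : Subgroup G} {𝒦 : Set (Subgroup G)}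

theorem FSAct.comp_le_or (h : FSAct L Y N 𝒦) (K : Subgroup G) (hK : K ∈ 𝒦) :
    K ≤ ⁅L, Y⁆ ∨ K ≤ Subgroup.centralizer (Y : Set G) := by
  by_cases hYK : Y ≤ Subgroup.normalizer (K : Set G)
  · have h1 : ⁅K, Y⁆ ≤ K := Cfsg.Agent.Lib.helper8.commutator_le_of_le_normalizer hYK
    have h2 := Cfsg.Agent.Lib.helper8.le_normalizer_commutator_left K Y
    rcases h.hqs K hK _ h1 h2 with h3 | h3
    · left
      rw [← h3]
      exact Subgroup.commutator_mono (h.hKL K hK) le_rfl
    · right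
      have e1 : ⁅⁅K, Y⁆, K⁆ = ⊥ := by
        rw [Subgroup.commutator_eq_bot_iff_le_centralizer]; exact h3
      have e2 : ⁅⁅Y, K⁆, K⁆ = ⊥ := by rw [Subgroup.commutator_comm Y K]; exact e1
      have e3 := Subgroup.commutator_commutator_eq_bot_of_rotate e1 e2
      rw [h.hperf K hK, Subgroup.commutator_eq_bot_iff_le_centralizer] at e3
      exact e3
  · left
    obtain ⟨y, hy, hyK⟩ := SetLike.not_le_iff_exists.1 hYK
    have hne : K ≠ K.map (MulAut.conj y).toMonoidHom := by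
      intro e
      exact hyK (mem_normalizer_of_map_conj_eq K e.symm)
    have hc := h.hcomm K hK _ (h.hconj K hK y hy) hne
    have hLn : ⁅⁅L, Y⁆, L⁆ ≤ ⁅L, Y⁆ :=
      Cfsg.Agent.Lib.helper8.commutator_le_of_le_normalizer
        (Cfsg.Agent.Lib.helper8.le_normalizer_commutator_left L Y)
    rw [← h.hperf K hK, Subgroup.commutator_le]
    intro k₁ hk₁ k₂ hk₂
    have hk' : y * k₁⁻¹ * y⁻¹ ∈ K.map (MulAut.conj y).toMonoidHom :=
      ⟨k₁⁻¹, K.inv_mem hk₁, rfl⟩
    have hcm : k₂ * (y * k₁⁻¹ * y⁻¹) = (y * k₁⁻¹ * y⁻¹) * k₂ := by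
      have := Subgroup.mem_centralizer_iff.1 (hc hk') k₂ hk₂
      exact this
    have e : ⁅k₁, k₂⁆ = ⁅⁅k₁, y⁆, k₂⁆ := by
      have e1 : ⁅k₁, y⁆ = k₁ * (y * k₁⁻¹ * y⁻¹) := by
        simp only [commutatorElement_def]; group
      rw [commutatorElement_def ⁅k₁, y⁆ k₂, e1, mul_assoc k₁, ← hcm]
      simp only [commutatorElement_def]; group
    rw [e]
    exact hLn (Subgroup.commutator_mem_commutator
      (Subgroup.commutator_mem_commutator (h.hKL K hK hk₁) hy) (h.hKL K hK hk₂))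

theorem FSAct.sup_fixed [Finite G] (h : FSAct L Y N 𝒦) :
    ⁅L, Y⁆ ⊔ (L ⊓ Subgroup.centralizer (Y : Set G)) = L := by
  apply le_antisymm
  · exact sup_le (Cfsg.Agent.Lib.helper8.commutator_le_of_le_normalizer h.hYL) inf_le_left
  · refine h.hgen.trans (sup_le (sSup_le ?_) ?_)
    · intro K hK
      rcases h.comp_le_or K hK with h1 | h1
      · exact h1.trans le_sup_left
      · exact (le_inf (h.hKL K hK) h1).trans le_sup_right
    · have := Cfsg.Agent.Lib.helper8.commutator_sup_fixed Y N h.hYN h.hcop h.hsolv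
      rw [← this]
      exact sup_le_sup (Subgroup.commutator_mono h.hNL le_rfl) (inf_le_inf h.hNL le_rfl)

theorem FSAct.comm_comm [Finite G] (h : FSAct L Y N 𝒦) : ⁅⁅L, Y⁆, Y⁆ = ⁅L, Y⁆ := by
  have hD : ⁅L, Y⁆ ≤ L := Cfsg.Agent.Lib.helper8.commutator_le_of_le_normalizer h.hYL
  apply le_antisymm
  · exact Subgroup.commutator_mono hD le_rfl
  · rw [Subgroup.commutator_le]
    intro l hl y hy
    have hl' : l ∈ ⁅L, Y⁆ ⊔ (L ⊓ Subgroup.centralizer (Y : Set G)) := by
      rw [h.sup_fixed]; exact hl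
    have hn : L ⊓ Subgroup.centralizer (Y : Set G) ≤
        Subgroup.normalizer ((⁅L, Y⁆ : Subgroup G) : Set G) :=
      inf_le_left.trans (Cfsg.Agent.Lib.helper8.le_normalizer_commutator_left L Y)
    have hmem : l ∈ ((⁅L, Y⁆ : Subgroup G) : Set G) *
        ((L ⊓ Subgroup.centralizer (Y : Set G) : Subgroup G) : Set G) := by
      rw [← Subgroup.coe_mul_of_right_le_normalizer_left _ _ hn]; exact hl'
    obtain ⟨a, ha, c, hc, rfl⟩ := Set.mem_mul.1 hmem
    have hcy : y * c = c * y := Subgroup.mem_centralizer_iff.1 (Subgroup.mem_inf.1 hc).2 y hy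
    have e : ⁅a * c, y⁆ = ⁅a, y⁆ := by
      simp only [commutatorElement_def]
      have : a * c * y * (a * c)⁻¹ = a * (c * y) * c⁻¹ * a⁻¹ := by group
      rw [this, ← hcy]; group
    rw [e]
    exact Subgroup.commutator_mem_commutator ha hy


theorem commutator_sup_le' (A B L D : Subgroup G)
    (hA : A ≤ Subgroup.normalizer (D : Set G)) (hB : B ≤ Subgroup.normalizer (D : Set G))
    (h1 : ⁅A, L⁆ ≤ D) (h2 : ⁅B, L⁆ ≤ D) : ⁅A ⊔ B, L⁆ ≤ D := by
  rw [sup_eq_iSup]
  apply commutator_iSup_le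
  · intro b; cases b <;> simp <;> assumption
  · intro b; cases b <;> simp <;> assumption

theorem FSAct.le_derived_sup [Finite G] (h : FSAct L Y N 𝒦) :
    ⁅L, Y⁆ ≤ ⁅⁅L, Y⁆, ⁅L, Y⁆⁆ ⊔ (N ⊓ ⁅L, Y⁆) := by
  obtain ⟨D₁, hD₁⟩ : ∃ D₁, D₁ = ⁅L, Y⁆ := ⟨_, rfl⟩
  rw [← hD₁]
  have hLD : L ≤ Subgroup.normalizer (D₁ : Set G) := by
    rw [hD₁]; exact Cfsg.Agent.Lib.helper8.le_normalizer_commutator_left L Y
  have hYD : Y ≤ Subgroup.normalizer (D₁ : Set G) := by
    rw [hD₁]; exact Cfsg.Agent.Lib.helper8.le_normalizer_commutator_right h.hYL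
  have hLW : L ≤ Subgroup.normalizer ((⁅D₁, D₁⁆ ⊔ (N ⊓ D₁) : Subgroup G) : Set G) :=
    le_normalizer_sup _ _ _ (le_normalizer_commutator _ _ _ hLD hLD)
      (le_normalizer_inf _ _ _ h.hLN hLD)
  have hK : ∀ K ∈ 𝒦, ⁅K, Y⁆ ≤ ⁅D₁, D₁⁆ ⊔ (N ⊓ D₁) := by
    intro K hK
    rcases h.comp_le_or K hK with h1 | h1
    · rw [← hD₁] at h1
      refine le_trans ?_ le_sup_left
      rw [Subgroup.commutator_le]
      intro k hk y hy
      have e1 : ⁅k, y⁆ = k * (y * k⁻¹ * y⁻¹) := by
        simp only [commutatorElement_def]; group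
      rw [e1]
      have hKD : K ≤ ⁅D₁, D₁⁆ := by
        rw [← h.hperf K hK]; exact Subgroup.commutator_mono h1 h1
      have hK' := h.hconj K hK y hy
      have hK'D₁ : K.map (MulAut.conj y).toMonoidHom ≤ D₁ := by
        have := Subgroup.map_mono (f := (MulAut.conj y).toMonoidHom) h1
        rwa [map_conj_eq_of_mem_normalizer D₁ (hYD hy)] at this
      have hK'D : K.map (MulAut.conj y).toMonoidHom ≤ ⁅D₁, D₁⁆ := by
        rw [← h.hperf _ hK']; exact Subgroup.commutator_mono hK'D₁ hK'D₁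
      exact Subgroup.mul_mem _ (hKD hk) (hK'D ⟨k⁻¹, K.inv_mem hk, rfl⟩)
    · rw [← Subgroup.commutator_eq_bot_iff_le_centralizer] at h1
      rw [h1]; exact bot_le
  have hN : ⁅N, Y⁆ ≤ ⁅D₁, D₁⁆ ⊔ (N ⊓ D₁) := by
    refine le_trans (le_inf ?_ ?_) le_sup_right
    · exact Cfsg.Agent.Lib.helper8.commutator_le_of_le_normalizer h.hYN
    · rw [hD₁]; exact Subgroup.commutator_mono h.hNL le_rfl
  have hS : ⁅sSup 𝒦, Y⁆ ≤ ⁅D₁, D₁⁆ ⊔ (N ⊓ D₁) := by
    rw [sSup_eq_iSup']
    apply commutator_iSup_le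
    · intro K; exact (h.hKL K K.2).trans hLW
    · intro K; exact hK K K.2
  have := commutator_sup_le' (sSup 𝒦) N Y _ ((sSup_le h.hKL).trans hLW) (h.hNL.trans hLW) hS hN
  rw [hD₁]
  rw [hD₁] at this
  exact (Subgroup.commutator_mono h.hgen le_rfl).trans this

end core

section inst
variable {X : Type u} [Group X] [Finite X] {p : ℕ} [Fact p.Prime]

/-- nilpotent normal subgroups are `p'`-groups when `O_p = 1`. -/
theorem card_coprime_of_nilpotent_normal (hO : pCore p X = ⊥) (N : Subgroup X) [hN : N.Normal]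
    (hnil : Group.IsNilpotent ↥N) : (Nat.card ↥N).Coprime p := by
  have hp : p.Prime := Fact.out
  obtain ⟨S⟩ : Nonempty (Sylow p ↥N) := inferInstance
  have hSn : (S : Subgroup ↥N).Normal := inferInstance
  have hSc : (S : Subgroup ↥N).Characteristic := Sylow.characteristic_of_normal S hSn
  have hn : ((S : Subgroup ↥N).map N.subtype).Normal := by
    rw [← Subgroup.normalizer_eq_top_iff, eq_top_iff]
    have h := le_normalizer_map_characteristic N (S : Subgroup ↥N)
    rw [Subgroup.normalizer_eq_top] at h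
    exact h
  have hp' : IsPGroup p ((S : Subgroup ↥N).map N.subtype) := S.isPGroup'.map _
  have hle := le_pCore hn hp'
  rw [hO, le_bot_iff, Subgroup.map_eq_bot_iff_of_injective _ N.subtype_injective] at hle
  have hcard : ¬ p ∣ Nat.card ↥N := by
    intro hdvd
    have h3 := S.card_eq_multiplicity
    have h4 : Nat.card (S : Subgroup ↥N) = 1 := by rw [hle]; exact Subgroup.card_bot
    rw [h4] at h3
    have h5 : (Nat.card ↥N).factorization p = 0 := by
      by_contra hne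
      have : 1 < p ^ (Nat.card ↥N).factorization p := Nat.one_lt_pow hne hp.one_lt
      omega
    have := (Nat.Prime.dvd_iff_one_le_factorization hp Nat.card_pos.ne').1 hdvd
    omega
  exact ((Nat.Prime.coprime_iff_not_dvd hp).2 hcard).symm

theorem card_coprime_fitting (hO : pCore p X = ⊥) :
    (Nat.card ↥(fittingSubgroup X)).Coprime p :=
  card_coprime_of_nilpotent_normal hO _ (Cfsg.Agent.Lib.helper7.fitting_nilpotent X)

/-- normal subgroups of a quasisimple subgroup. -/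
theorem qs_sub {G : Type*} [Group G] {K : Subgroup G} (hK : IsQuasisimple ↥K) (D : Subgroup G)
    (hD : D ≤ K) (hn : K ≤ Subgroup.normalizer (D : Set G)) :
    D = K ∨ D ≤ Subgroup.centralizer (K : Set G) := by
  have h1 : (D.subgroupOf K).Normal := (Subgroup.normal_subgroupOf_iff_le_normalizer hD).2 hn
  rcases Cfsg.Agent.Lib.helper7.qs_normal hK _ h1 with h2 | h2
  · left
    exact le_antisymm hD (Subgroup.subgroupOf_eq_top.1 h2)
  · right
    intro d hd
    rw [Subgroup.mem_centralizer_iff]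
    intro k hk
    have h3 : (⟨d, hD hd⟩ : ↥K) ∈ Subgroup.center ↥K := h2 (by
      rw [Subgroup.mem_subgroupOf]; exact hd)
    have h4 := Subgroup.mem_center_iff.1 h3 ⟨k, hk⟩
    exact congrArg Subtype.val h4

theorem qs_comm_self {G : Type*} [Group G] {K : Subgroup G} (hK : IsQuasisimple ↥K) :
    ⁅K, K⁆ = K := by
  have h := Cfsg.Agent.Lib.helper7.qs_perfect hK
  rw [← Subgroup.map_subtype_commutator, h, ← MonoidHom.range_eq_map, Subgroup.range_subtype]

theorem isSolvable_of_isPGroup {G : Type*} [Group G] (Y : Subgroup G) [Finite Y]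
    (hY : IsPGroup p Y) : Group.IsSolvable Y := by
  have := hY.isNilpotent
  infer_instance

theorem fsAct_of_subnormal (hO : pCore p X = ⊥) (L Y : Subgroup X) (hY : IsPGroup p Y)
    (hLsn : L.IsSubnormal) (hLF : L ≤ generalizedFittingSubgroup X)
    (hYL : Y ≤ Subgroup.normalizer (L : Set X)) :
    FSAct L Y (fittingSubgroup X ⊓ L) {K : Subgroup X | IsComponent K ∧ K ≤ L} where
  hYL := hYL
  hKL := fun K hK => hK.2
  hperf := fun K hK => qs_comm_self hK.1.2
  hqs := fun K hK D hD hn => qs_sub hK.1.2 D hD hn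
  hcomm := by
    intro K hK K' hK' hne
    rw [← Subgroup.commutator_eq_bot_iff_le_centralizer]
    exact Cfsg.Agent.Lib.helper7.comp_comm_of_ne hK'.1 hK.1 hne.symm
  hconj := by
    intro K hK y hy
    refine ⟨Cfsg.Agent.Lib.helper7.comp_map_equiv (MulAut.conj y) hK.1, ?_⟩
    have := Subgroup.map_mono (f := (MulAut.conj y).toMonoidHom) hK.2
    rwa [map_conj_eq_of_mem_normalizer L (hYL hy)] at this
  hNK := by
    intro K hK
    have h1 := Cfsg.Agent.Lib.helper7.layer_comm_fitting X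
    rw [Subgroup.commutator_comm, Subgroup.commutator_eq_bot_iff_le_centralizer] at h1
    have h2 : K ≤ layer X := Cfsg.Agent.Lib.helper7.comp_le_layer hK.1
    exact inf_le_left.trans (h1.trans (Subgroup.centralizer_le h2))
  hNL := inf_le_right
  hLN := le_normalizer_inf _ _ _ (by rw [Subgroup.normalizer_eq_top]; exact le_top)
    Subgroup.le_normalizer
  hYN := le_normalizer_inf _ _ _ (by rw [Subgroup.normalizer_eq_top]; exact le_top) hYL
  hcop := by
    have hp : p.Prime := Fact.out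
    obtain ⟨k, hk⟩ := IsPGroup.iff_card.1 hY
    rw [hk]
    apply Nat.Coprime.pow_left
    have h1 : Nat.card ↥(fittingSubgroup X ⊓ L) ∣ Nat.card ↥(fittingSubgroup X) :=
      Subgroup.card_dvd_of_le inf_le_left
    exact (Nat.Coprime.coprime_dvd_left h1 (card_coprime_fitting hO)).symm
  hsolv := Or.inl (isSolvable_of_isPGroup Y hY)
  hgen := Cfsg.Agent.Lib.helper7.subnormal_genFitting_decomp L hLsn hLF


theorem fsAct_of_subnormal_rel {G : Type u} [Group G] [Finite G] (H : Subgroup G)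
    (hO : pCore p ↥H = ⊥) (Y : Subgroup G) (hY : IsPGroup p Y)
    (hYH : Y ≤ Subgroup.normalizer (H : Set G)) (L : Subgroup G)
    (hLF : L ≤ (generalizedFittingSubgroup ↥H).map H.subtype)
    (hLsn : (L.subgroupOf H).IsSubnormal) (hYL : Y ≤ Subgroup.normalizer (L : Set G)) :
    FSAct L Y ((fittingSubgroup ↥H).map H.subtype ⊓ L)
      {K' : Subgroup G | ∃ K : Subgroup ↥H, IsComponent K ∧ K.map H.subtype = K' ∧ K' ≤ L} := by
  have hLH : L ≤ H := hLF.trans (Subgroup.map_subtype_le _)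
  have hqsK : ∀ K : Subgroup ↥H, IsComponent K → IsQuasisimple ↥(K.map H.subtype) :=
    fun K hK => Cfsg.Agent.Lib.helper7.qs_of_equiv
      (K.equivMapOfInjective H.subtype H.subtype_injective) hK.2
  have hFK : ∀ K : Subgroup ↥H, IsComponent K →
      (fittingSubgroup ↥H).map H.subtype ≤ Subgroup.centralizer ((K.map H.subtype : Subgroup G) : Set G) := by
    intro K hK
    rw [← Subgroup.commutator_eq_bot_iff_le_centralizer, ← Subgroup.map_commutator]
    have h1 := Cfsg.Agent.Lib.helper7.layer_comm_fitting ↥H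
    rw [Subgroup.commutator_comm] at h1
    have h2 : ⁅fittingSubgroup ↥H, K⁆ ≤ ⁅fittingSubgroup ↥H, layer ↥H⁆ :=
      Subgroup.commutator_mono le_rfl (Cfsg.Agent.Lib.helper7.comp_le_layer hK)
    rw [h1, le_bot_iff] at h2
    rw [h2, Subgroup.map_bot]
  refine
  { hYL := hYL
    hKL := ?_
    hperf := ?_
    hqs := ?_
    hcomm := ?_
    hconj := ?_
    hNK := ?_
    hNL := inf_le_right
    hLN := ?_
    hYN := ?_
    hcop := ?_
    hsolv := Or.inl (isSolvable_of_isPGroup Y hY)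
    hgen := ?_ }
  · rintro K' ⟨K, hK, rfl, hle⟩; exact hle
  · rintro K' ⟨K, hK, rfl, hle⟩; exact qs_comm_self (hqsK K hK)
  · rintro K' ⟨K, hK, rfl, hle⟩ D hD hn; exact qs_sub (hqsK K hK) D hD hn
  · rintro K₁' ⟨K₁, hK₁, rfl, hle₁⟩ K₂' ⟨K₂, hK₂, rfl, hle₂⟩ hne
    rw [← Subgroup.commutator_eq_bot_iff_le_centralizer, ← Subgroup.map_commutator]
    have hne' : K₂ ≠ K₁ := by rintro rfl; exact hne rfl
    rw [Cfsg.Agent.Lib.helper7.comp_comm_of_ne hK₂ hK₁ hne', Subgroup.map_bot]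
  · rintro K' ⟨K, hK, rfl, hle⟩ y hy
    have hyH := hYH hy
    refine ⟨K.map (conjEquivOfMemNormalizer H y hyH).toMonoidHom,
      Cfsg.Agent.Lib.helper7.comp_map_equiv (conjEquivOfMemNormalizer H y hyH) hK, ?_, ?_⟩
    · rw [Subgroup.map_map, Subgroup.map_map]
      congr 1
    · have := Subgroup.map_mono (f := (MulAut.conj y).toMonoidHom) hle
      rwa [map_conj_eq_of_mem_normalizer L (hYL hy)] at this
  · rintro K' ⟨K, hK, rfl, hle⟩
    exact inf_le_left.trans (hFK K hK)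
  · exact le_normalizer_inf _ _ _ (hLH.trans (le_normalizer_map_subtype H _)) Subgroup.le_normalizer
  · exact le_normalizer_inf _ _ _ (hYH.trans (le_normalizer_map_characteristic H _)) hYL
  · have hp : p.Prime := Fact.out
    obtain ⟨k, hk⟩ := IsPGroup.iff_card.1 hY
    rw [hk]
    apply Nat.Coprime.pow_left
    have h1 : Nat.card ↥((fittingSubgroup ↥H).map H.subtype ⊓ L) ∣
        Nat.card ↥((fittingSubgroup ↥H).map H.subtype) :=
      Subgroup.card_dvd_of_le inf_le_left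
    have h2 : Nat.card ↥((fittingSubgroup ↥H).map H.subtype) = Nat.card ↥(fittingSubgroup ↥H) :=
      Subgroup.card_map_of_injective H.subtype_injective
    rw [h2] at h1
    exact (Nat.Coprime.coprime_dvd_left h1 (card_coprime_fitting hO)).symm
  · have hL'F : L.subgroupOf H ≤ generalizedFittingSubgroup ↥H := by
      intro x hx
      obtain ⟨f, hf, hfx⟩ := hLF (Subgroup.mem_subgroupOf.1 hx)
      have : f = x := Subtype.ext hfx
      rwa [this] at hf
    have hdec := Cfsg.Agent.Lib.helper7.subnormal_genFitting_decomp (L.subgroupOf H) hLsn hL'F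
    have hmap := Subgroup.map_mono (f := H.subtype) hdec
    rw [Subgroup.map_subgroupOf_eq_of_le hLH, Subgroup.map_sup] at hmap
    refine hmap.trans (sup_le_sup ?_ ?_)
    · rw [Subgroup.map_le_iff_le_comap]
      apply sSup_le
      rintro K ⟨hK, hKL⟩
      rw [← Subgroup.map_le_iff_le_comap]
      apply le_sSup
      refine ⟨K, hK, rfl, ?_⟩
      have := Subgroup.map_mono (f := H.subtype) hKL
      rwa [Subgroup.map_subgroupOf_eq_of_le hLH] at this
    · refine le_inf (Subgroup.map_mono inf_le_left) ?_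
      have := Subgroup.map_mono (f := H.subtype)
        (inf_le_right : fittingSubgroup ↥H ⊓ L.subgroupOf H ≤ L.subgroupOf H)
      rwa [Subgroup.map_subgroupOf_eq_of_le hLH] at this

/-- **S2812** -/
theorem coprime_style_splitting {G : Type u} [Group G] [Finite G] (H : Subgroup G)
    (hO : pCore p ↥H = ⊥) (Y : Subgroup G) (hY : IsPGroup p Y)
    (hYH : Y ≤ Subgroup.normalizer (H : Set G)) (L : Subgroup G)
    (hLF : L ≤ (generalizedFittingSubgroup ↥H).map H.subtype)
    (hLsn : (L.subgroupOf H).IsSubnormal) (hYL : Y ≤ Subgroup.normalizer (L : Set G)) :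
    ⁅L, Y⁆ ⊔ (L ⊓ Subgroup.centralizer (Y : Set G)) = L ∧ ⁅L, Y⁆ = ⁅⁅L, Y⁆, Y⁆ :=
  ⟨(fsAct_of_subnormal_rel H hO Y hY hYH L hLF hLsn hYL).sup_fixed,
    (fsAct_of_subnormal_rel H hO Y hY hYH L hLF hLsn hYL).comm_comm.symm⟩

end inst

end Cfsg.Agent.Lib.helper14
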