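import Cfsg.Agent.Lib.helper14.FStarAction

set_option autoImplicit false
set_option linter.unusedSectionVars false
set_option linter.unusedVariables false

namespace Cfsg.Agent.Lib.helper14

open Cfsg
open scoped commutatorElement Pointwise

universe u

theorem le_of_commutator_eq_self {G : Type*} [Group G] (D Y : Subgroup G) (hD : ⁅D, Y⁆ = D) :
    ∀ K : Subgroup G, K.IsSubnormal → Y ≤ K → D ≤ K := by
  intro K hK
  induction hK with
  | top => intro _; exact le_top
  | step H K h_le hSubn hN ih =>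
    intro hYH
    have h1 : D ≤ K := ih (hYH.trans h_le)
    rw [← hD]
    have h2 : K ≤ Subgroup.normalizer (H : Set G) :=
      (Subgroup.normal_subgroupOf_iff_le_normalizer h_le).1 hN
    refine (Subgroup.commutator_mono h1 hYH).trans ?_
    rw [Subgroup.commutator_comm]
    exact Cfsg.Agent.Lib.helper8.commutator_le_of_le_normalizer h2

section
variable {X : Type u} [Group X] [Finite X] {p : ℕ} [Fact p.Prime]

theorem fsAct_genFitting (hO : pCore p X = ⊥) (Y : Subgroup X) (hY : IsPGroup p Y) :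
    FSAct (generalizedFittingSubgroup X) Y
      (fittingSubgroup X ⊓ generalizedFittingSubgroup X)
      {K : Subgroup X | IsComponent K ∧ K ≤ generalizedFittingSubgroup X} :=
  fsAct_of_subnormal hO _ Y hY (Subgroup.Normal.isSubnormal inferInstance) le_rfl
    (by rw [Subgroup.normalizer_eq_top]; exact le_top)

theorem centralizer_genFitting_coprime (hO : pCore p X = ⊥) :
    (Nat.card ↥(Subgroup.centralizer (generalizedFittingSubgroup X : Set X))).Coprime p := by
  have hle := Cfsg.Agent.Lib.helper7.centralizer_genFitting_le X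
  have : IsMulCommutative ↥(Subgroup.centralizer (generalizedFittingSubgroup X : Set X)) :=
    ⟨⟨fun a b => Subtype.ext (by
      have := Subgroup.mem_centralizer_iff.1 a.2 b (hle b.2)
      exact this.symm)⟩⟩
  exact card_coprime_of_nilpotent_normal hO _
    Cfsg.Agent.Lib.helper3.isNilpotent_of_isMulCommutative

theorem eq_bot_of_pgroup_le_centralizer_genFitting (hO : pCore p X = ⊥) (P : Subgroup X)
    (hP : IsPGroup p P)
    (hle : P ≤ Subgroup.centralizer (generalizedFittingSubgroup X : Set X)) : P = ⊥ := by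
  have hp : p.Prime := Fact.out
  obtain ⟨k, hk⟩ := IsPGroup.iff_card.1 hP
  have h1 := Subgroup.card_dvd_of_le hle
  have h2 := Nat.Coprime.coprime_dvd_left h1 (centralizer_genFitting_coprime hO)
  rw [hk] at h2
  have h3 : k = 0 := by
    by_contra hne
    have := (Nat.coprime_pow_left_iff (Nat.pos_of_ne_zero hne) p p).1 h2
    rw [Nat.coprime_self] at this
    exact hp.one_lt.ne' this
  rw [h3, pow_zero] at hk
  exact Subgroup.card_eq_one.1 hk

/-- **S2816** -/
theorem commutators_with_genFitting (hO : pCore p X = ⊥) (Y : Subgroup X) (hY : IsPGroup p Y) :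
    (∀ K : Subgroup X, K.IsSubnormal → Y ≤ K →
      ⁅generalizedFittingSubgroup X, Y⁆ = ⁅(generalizedFittingSubgroup ↥K).map K.subtype, Y⁆ ∧
      ⁅(generalizedFittingSubgroup ↥K).map K.subtype, Y⁆ =
        ⁅⁅(generalizedFittingSubgroup ↥K).map K.subtype, Y⁆, Y⁆) ∧
    (∀ Y₀ : Subgroup X, Y₀ ≤ Y → ⁅⁅generalizedFittingSubgroup X, Y⁆, Y₀⁆ = ⊥ → Y₀ = ⊥) := by
  have hcc := (fsAct_genFitting hO Y hY).comm_comm
  constructor
  · intro K hK hYK
    have hFK := Cfsg.Agent.Lib.helper7.genFitting_subnormal_eq hK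
    have hDK : ⁅generalizedFittingSubgroup X, Y⁆ ≤ K := le_of_commutator_eq_self _ Y hcc K hK hYK
    have hDF : ⁅generalizedFittingSubgroup X, Y⁆ ≤ generalizedFittingSubgroup X :=
      Cfsg.Agent.Lib.helper8.commutator_le_of_le_normalizer
        (by rw [Subgroup.normalizer_eq_top]; exact le_top)
    have e1 : ⁅generalizedFittingSubgroup X, Y⁆ =
        ⁅(generalizedFittingSubgroup ↥K).map K.subtype, Y⁆ := by
      apply le_antisymm
      · rw [← hcc, hFK]
        exact Subgroup.commutator_mono (le_inf hDF hDK) le_rfl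
      · rw [hFK]
        exact Subgroup.commutator_mono inf_le_left le_rfl
    refine ⟨e1, ?_⟩
    rw [← e1]; exact hcc.symm
  · intro Y₀ hY₀ h
    have hcc₀ := (fsAct_genFitting hO Y₀ (hY.to_le hY₀)).comm_comm
    have h1 : ⁅generalizedFittingSubgroup X, Y₀⁆ = ⊥ := by
      rw [← le_bot_iff, ← h, ← hcc₀]
      exact Subgroup.commutator_mono (Subgroup.commutator_mono le_rfl hY₀) le_rfl
    rw [Subgroup.commutator_comm, Subgroup.commutator_eq_bot_iff_le_centralizer] at h1
    exact eq_bot_of_pgroup_le_centralizer_genFitting hO Y₀ (hY.to_le hY₀) h1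

end


/-- norm map: if `L = [L, Q]` then the `|Q|`-th power of a `Q`-fixed element of `L` lies in
`[L, L]`. -/
theorem pow_card_mem_commutator_of_fixed {G : Type*} [Group G] (L Q : Subgroup G) [Finite Q]
    (hQL : Q ≤ Subgroup.normalizer (L : Set G)) (hLQ : ⁅L, Q⁆ = L) (z : G) (hz : z ∈ L)
    (hfix : ∀ q ∈ Q, q * z * q⁻¹ = z) : z ^ Nat.card Q ∈ ⁅L, L⁆ := by
  classical
  have : Fintype ↥Q := Fintype.ofFinite _
  have hNA : ∀ n ∈ Q, ∀ a ∈ L, n * a * n⁻¹ ∈ L :=
    fun n hn a ha => (Subgroup.mem_normalizer_iff.1 (hQL hn) a).1 ha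
  let c : ↥Q → (↥L →* ↥L) := fun n => conjEndo L (n : G) (hNA n n.2)
  let Λ : ↥L →* Abelianization ↥L := ∏ q : ↥Q, (Abelianization.of).comp (c q)
  have hΛ : ∀ a, Λ a = ∏ q : ↥Q, Abelianization.of (c q a) := fun a => by
    show (∏ q : ↥Q, (Abelianization.of).comp (c q)) a = _
    rw [MonoidHom.finsetProd_apply]; rfl
  have hc : ∀ (n : Q) (a : L), ((c n a : L) : G) = n * a * (n : G)⁻¹ := fun n a => rfl
  have hcmul : ∀ (n n' : Q) (a : L), c (n * n') a = c n (c n' a) := by
    intro n n' a; apply Subtype.ext; simp only [hc, Subgroup.coe_mul]; group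
  have hinv : ∀ (q₀ : Q) (a : L), Λ (c q₀ a) = Λ a := by
    intro q₀ a
    rw [hΛ, hΛ]
    have : ∀ q : ↥Q, Abelianization.of (c q (c q₀ a)) = Abelianization.of (c (q * q₀) a) :=
      fun q => by rw [hcmul]
    rw [Finset.prod_congr rfl (fun q _ => this q)]
    exact Fintype.prod_equiv (Equiv.mulRight q₀) _ _ (fun q => rfl)
  have hker : ⁅L, Q⁆ ≤ (Λ.ker).map L.subtype := by
    rw [Subgroup.commutator_le]
    intro l hl q hq
    refine ⟨⟨l, hl⟩ * c ⟨q, hq⟩ (⟨l, hl⟩⁻¹), ?_, ?_⟩
    · show ⟨l, hl⟩ * c ⟨q, hq⟩ (⟨l, hl⟩⁻¹) ∈ Λ.ker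
      rw [MonoidHom.mem_ker, map_mul, hinv, ← map_mul, mul_inv_cancel, map_one]
    · simp only [Subgroup.coe_subtype, Subgroup.coe_mul, hc, commutatorElement_def]
      simp only [InvMemClass.coe_inv]; group
  have hz' : (⟨z, hz⟩ : L) ∈ Λ.ker := by
    have : z ∈ (Λ.ker).map L.subtype := hker (by rw [hLQ]; exact hz)
    obtain ⟨w, hw, hwz⟩ := this
    have : w = ⟨z, hz⟩ := Subtype.ext hwz
    rwa [this] at hw
  have hfix' : ∀ q : Q, c q ⟨z, hz⟩ = ⟨z, hz⟩ := fun q => Subtype.ext (hfix q q.2)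
  rw [MonoidHom.mem_ker, hΛ, Finset.prod_congr rfl (fun q _ => by rw [hfix' q]),
    Finset.prod_const, Finset.card_univ, ← map_pow] at hz'
  have h1 : (⟨z, hz⟩ : L) ^ Fintype.card Q ∈ commutator ↥L := by
    rw [← Abelianization.ker_of, MonoidHom.mem_ker]; exact hz'
  rw [← Subgroup.map_subtype_commutator]
  refine ⟨_, h1, ?_⟩
  simp [Nat.card_eq_fintype_card]

/-- central elements whose `p^a`-th powers are commutators lie in the Frattini subgroup of a
group generated by its commutators and `p'`-elements. -/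
theorem central_le_frattini_of_pow_mem {Λ : Type u} [Group Λ] [Finite Λ] {p : ℕ} [Fact p.Prime]
    (Z D : Subgroup Λ) (a : ℕ) (hZ : Z ≤ Subgroup.center Λ)
    (hpow : ∀ z ∈ Z, z ^ (p ^ a) ∈ commutator Λ)
    (hD : ∀ d ∈ D, (orderOf d).Coprime p) (hgen : commutator Λ ⊔ D = ⊤) :
    Z ≤ frattini Λ := by
  rw [Cfsg.Agent.Lib.helper3.le_frattini_iff]
  intro M hM
  by_contra hZM
  have hZn : Z.Normal := by
    constructor
    intro n hn g
    have h0 := Subgroup.mem_center_iff.1 (hZ hn) g
    have : g * n * g⁻¹ = n := by rw [h0]; group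
    rw [this]; exact hn
  have hsup : Z ⊔ M = ⊤ := Cfsg.Agent.Lib.helper3.sup_eq_top_of_coatom_of_not_le hM hZM
  have hcM : commutator Λ ≤ M := by
    rw [commutator_def, Subgroup.commutator_le]
    intro x _ y _
    obtain ⟨z₁, hz₁, m₁, hm₁, rfl⟩ := Cfsg.Agent.Lib.helper3.exists_mul_of_sup_eq_top Z M hsup x
    obtain ⟨z₂, hz₂, m₂, hm₂, rfl⟩ := Cfsg.Agent.Lib.helper3.exists_mul_of_sup_eq_top Z M hsup y
    have c1 : ∀ g : Λ, g * z₁ = z₁ * g := Subgroup.mem_center_iff.1 (hZ hz₁)
    have c2 : ∀ g : Λ, g * z₂ = z₂ * g := Subgroup.mem_center_iff.1 (hZ hz₂)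
    have e : ⁅z₁ * m₁, z₂ * m₂⁆ = ⁅m₁, m₂⁆ := by
      simp only [commutatorElement_def, mul_inv_rev]
      have e1 : z₁ * m₁ * (z₂ * m₂) * (m₁⁻¹ * z₁⁻¹) * (m₂⁻¹ * z₂⁻¹) =
          z₁ * (m₁ * z₂) * m₂ * m₁⁻¹ * z₁⁻¹ * m₂⁻¹ * z₂⁻¹ := by group
      rw [e1, c2 m₁]
      have e2 : z₁ * (z₂ * m₁) * m₂ * m₁⁻¹ * z₁⁻¹ * m₂⁻¹ * z₂⁻¹ =
          z₁ * (z₂ * (m₁ * m₂ * m₁⁻¹ * z₁⁻¹ * m₂⁻¹)) * z₂⁻¹ := by group
      rw [e2, ← c2]
      have e3 : z₁ * (m₁ * m₂ * m₁⁻¹ * z₁⁻¹ * m₂⁻¹ * z₂) * z₂⁻¹ =
          z₁ * (m₁ * m₂ * m₁⁻¹) * z₁⁻¹ * m₂⁻¹ := by group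
      rw [e3, ← c1]; group
    rw [e]
    exact Subgroup.commutator_mem_commutator hm₁ hm₂ |> fun h =>
      (Subgroup.commutator_le.2 (fun a ha b hb => M.mul_mem (M.mul_mem (M.mul_mem ha hb)
        (M.inv_mem ha)) (M.inv_mem hb))) h
  have hDM : D ≤ M := by
    intro d hd
    obtain ⟨z, hz, m, hm, rfl⟩ := Cfsg.Agent.Lib.helper3.exists_mul_of_sup_eq_top Z M hsup d
    have hcomm : Commute z m := (Subgroup.mem_center_iff.1 (hZ hz) m).symm
    have h2 : (z * m) ^ (p ^ a) ∈ M := by
      rw [hcomm.mul_pow]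
      exact M.mul_mem (hcM (hpow z hz)) (M.pow_mem hm _)
    exact mem_of_pow_mem_of_coprime M (z * m) a h2 (hD _ hd)
  have : (⊤ : Subgroup Λ) ≤ M := by rw [← hgen]; exact sup_le hcM hDM
  exact hM.1 (eq_top_iff.2 this)


section s2817
variable {X : Type u} [Group X] [Finite X] {p : ℕ} [Fact p.Prime]

theorem le_normalizer_genFitting (A : Subgroup X) :
    A ≤ Subgroup.normalizer (generalizedFittingSubgroup X : Set X) := by
  rw [Subgroup.normalizer_eq_top]; exact le_top

theorem fsq_subnormal (Q : Subgroup X) : (⁅generalizedFittingSubgroup X, Q⁆).IsSubnormal := by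
  have h1 : ⁅generalizedFittingSubgroup X, Q⁆ ≤ generalizedFittingSubgroup X :=
    Cfsg.Agent.Lib.helper8.commutator_le_of_le_normalizer (le_normalizer_genFitting Q)
  exact Subgroup.IsSubnormal.step _ _ h1 (Subgroup.Normal.isSubnormal inferInstance)
    ((Subgroup.normal_subgroupOf_iff_le_normalizer h1).2
      (Cfsg.Agent.Lib.helper8.le_normalizer_commutator_left _ Q))

/-- **S2817** (1) -/
theorem fsq_part1 (hO : pCore p X = ⊥) (Q : Subgroup X) (hQ : IsPGroup p Q) (F : Subgroup X)
    (hF : F ≤ generalizedFittingSubgroup X ∧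
      generalizedFittingSubgroup X ≤ Subgroup.normalizer (F : Set X) ∧
      Q ≤ Subgroup.centralizer (F : Set X) ∧
      ∀ N : Subgroup X, N ≤ generalizedFittingSubgroup X →
        generalizedFittingSubgroup X ≤ Subgroup.normalizer (N : Set X) →
        Q ≤ Subgroup.centralizer (N : Set X) → N ≤ F) :
    F = generalizedFittingSubgroup X ⊓
      Subgroup.centralizer ((⁅generalizedFittingSubgroup X, Q⁆ ⊔ Q : Subgroup X) : Set X) := by
  obtain ⟨hF1, hF2, hF3, hF4⟩ := hF
  apply le_antisymm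
  · refine le_inf hF1 ?_
    rw [Subgroup.le_centralizer_iff]
    refine sup_le ?_ hF3
    rw [← Subgroup.commutator_eq_bot_iff_le_centralizer]
    apply Subgroup.commutator_commutator_eq_bot_of_rotate
    · have : ⁅Q, F⁆ = ⊥ := by rw [Subgroup.commutator_eq_bot_iff_le_centralizer]; exact hF3
      rw [this, Subgroup.commutator_bot_left]
    · have h1 : ⁅F, generalizedFittingSubgroup X⁆ ≤ F :=
        Cfsg.Agent.Lib.helper8.commutator_le_of_le_normalizer hF2
      have h2 : ⁅F, Q⁆ = ⊥ := by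
        rw [Subgroup.commutator_comm, Subgroup.commutator_eq_bot_iff_le_centralizer]; exact hF3
      rw [← le_bot_iff, ← h2]; exact Subgroup.commutator_mono h1 le_rfl
  · apply hF4 _ inf_le_left
    · have hsup := (fsAct_genFitting hO Q hQ).sup_fixed
      have hL1 : ⁅generalizedFittingSubgroup X, Q⁆ ≤ Subgroup.normalizer
          ((generalizedFittingSubgroup X ⊓ Subgroup.centralizer
            ((⁅generalizedFittingSubgroup X, Q⁆ ⊔ Q : Subgroup X) : Set X) : Subgroup X) : Set X) := by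
        refine le_trans ?_ (Subgroup.centralizer_le_normalizer _)
        rw [Subgroup.le_centralizer_iff]
        have hle : ⁅generalizedFittingSubgroup X, Q⁆ ≤ ⁅generalizedFittingSubgroup X, Q⁆ ⊔ Q :=
          le_sup_left
        exact inf_le_right.trans (Subgroup.centralizer_le hle)
      have hL2 : generalizedFittingSubgroup X ⊓ Subgroup.centralizer (Q : Set X) ≤
          Subgroup.normalizer
          ((generalizedFittingSubgroup X ⊓ Subgroup.centralizer
            ((⁅generalizedFittingSubgroup X, Q⁆ ⊔ Q : Subgroup X) : Set X) : Subgroup X) : Set X) := by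
        apply le_normalizer_inf
        · exact le_normalizer_genFitting _
        · refine le_trans ?_ (normalizer_le_normalizer_centralizer _)
          apply le_normalizer_sup
          · exact inf_le_left.trans (Cfsg.Agent.Lib.helper8.le_normalizer_commutator_left _ Q)
          · exact inf_le_right.trans (Subgroup.centralizer_le_normalizer _)
      calc generalizedFittingSubgroup X
          = ⁅generalizedFittingSubgroup X, Q⁆ ⊔
            (generalizedFittingSubgroup X ⊓ Subgroup.centralizer (Q : Set X)) := hsup.symm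
        _ ≤ _ := sup_le hL1 hL2
    · rw [Subgroup.le_centralizer_iff]
      have hle : Q ≤ ⁅generalizedFittingSubgroup X, Q⁆ ⊔ Q := le_sup_right
      exact inf_le_right.trans (Subgroup.centralizer_le hle)

/-- **S2817** (3) -/
theorem fsq_part3 (hO : pCore p X = ⊥) (Q : Subgroup X) (hQ : IsPGroup p Q) (F : Subgroup X)
    (hFC : F ≤ Subgroup.centralizer
      ((⁅generalizedFittingSubgroup X, Q⁆ ⊔ Q : Subgroup X) : Set X)) :
    ⁅generalizedFittingSubgroup X, Q⁆ ⊓ F ≤
      (frattini ↥(⁅generalizedFittingSubgroup X, Q⁆)).map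
        (⁅generalizedFittingSubgroup X, Q⁆).subtype := by
  have act := fsAct_genFitting hO Q hQ
  have hcc0 := act.comm_comm
  have hder0 := act.le_derived_sup
  obtain ⟨L, hL⟩ : ∃ L, L = ⁅generalizedFittingSubgroup X, Q⁆ := ⟨_, rfl⟩
  rw [← hL] at hFC hcc0 hder0 ⊢
  have hQL : Q ≤ Subgroup.normalizer (L : Set X) := by
    rw [hL]
    exact Cfsg.Agent.Lib.helper8.le_normalizer_commutator_right (le_normalizer_genFitting Q)
  obtain ⟨a, ha⟩ := IsPGroup.iff_card.1 hQ
  have hLle : L ≤ L ⊔ Q := le_sup_left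
  have key := central_le_frattini_of_pow_mem (Λ := ↥L) (p := p) ((L ⊓ F).subgroupOf L)
    ((fittingSubgroup X ⊓ generalizedFittingSubgroup X ⊓ L).subgroupOf L) a ?_ ?_ ?_ ?_
  · have := Subgroup.map_mono (f := L.subtype) key
    rwa [Subgroup.map_subgroupOf_eq_of_le inf_le_left] at this
  · intro z hz
    rw [Subgroup.mem_subgroupOf] at hz
    have hzC : (z : X) ∈ Subgroup.centralizer (L : Set X) :=
      Subgroup.centralizer_le hLle (hFC (Subgroup.mem_inf.1 hz).2)
    rw [Subgroup.mem_center_iff]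
    intro g
    exact Subtype.ext (Subgroup.mem_centralizer_iff.1 hzC g g.2)
  · intro z hz
    rw [Subgroup.mem_subgroupOf] at hz
    have hzQ : ∀ q ∈ Q, q * (z : X) * q⁻¹ = z := by
      intro q hq
      have := Subgroup.mem_centralizer_iff.1 (hFC (Subgroup.mem_inf.1 hz).2) q
        (Subgroup.mem_sup_right hq)
      rw [this]; group
    have h1 := pow_card_mem_commutator_of_fixed L Q hQL hcc0 z z.2 hzQ
    rw [ha, ← Subgroup.map_subtype_commutator] at h1
    obtain ⟨w, hw, hwz⟩ := h1
    have : w = z ^ (p ^ a) := Subtype.ext (by simpa using hwz)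
    rwa [this] at hw
  · intro d hd
    rw [Subgroup.mem_subgroupOf] at hd
    have h1 : orderOf (d : X) ∣ Nat.card (fittingSubgroup X) := by
      have := orderOf_dvd_natCard
        (⟨d, (Subgroup.mem_inf.1 (Subgroup.mem_inf.1 hd).1).1⟩ : fittingSubgroup X)
      rwa [Subgroup.orderOf_mk] at this
    rw [← Subgroup.orderOf_coe]
    exact Nat.Coprime.coprime_dvd_left h1 (card_coprime_fitting hO)
  · rw [eq_top_iff]
    intro l _
    have h1 := hder0 l.2
    rw [← Subgroup.map_subtype_commutator, ← Subgroup.map_subgroupOf_eq_of_le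
      (inf_le_right : fittingSubgroup X ⊓ generalizedFittingSubgroup X ⊓ L ≤ L),
      ← Subgroup.map_sup] at h1
    obtain ⟨w, hw, hwl⟩ := h1
    have : w = l := Subtype.ext hwl
    rwa [this] at hw


/-- **S2817** (4) -/
theorem fsq_part4 (hO : pCore p X = ⊥) (Q : Subgroup X) (hQ : IsPGroup p Q) (F : Subgroup X)
    (hFC : F ≤ Subgroup.centralizer
      ((⁅generalizedFittingSubgroup X, Q⁆ ⊔ Q : Subgroup X) : Set X))
    (B : Subgroup X) (hBQ : B ≤ Subgroup.normalizer (Q : Set X))
    (hLB : ⁅⁅generalizedFittingSubgroup X, Q⁆, B⁆ ≤ F) :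
    ⁅⁅generalizedFittingSubgroup X, Q⁆, B⁆ = ⊥ := by
  have act := fsAct_genFitting hO Q hQ
  have hcc0 := act.comm_comm
  have hLsn0 := fsq_subnormal (X := X) Q
  have hLFS0 : ⁅generalizedFittingSubgroup X, Q⁆ ≤ generalizedFittingSubgroup X :=
    Cfsg.Agent.Lib.helper8.commutator_le_of_le_normalizer (le_normalizer_genFitting Q)
  have hQL0 : Q ≤ Subgroup.normalizer ((⁅generalizedFittingSubgroup X, Q⁆ : Subgroup X) : Set X) :=
    Cfsg.Agent.Lib.helper8.le_normalizer_commutator_right (le_normalizer_genFitting Q)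
  have hBL0 : B ≤ Subgroup.normalizer ((⁅generalizedFittingSubgroup X, Q⁆ : Subgroup X) : Set X) :=
    le_normalizer_commutator _ _ _ (le_normalizer_genFitting B) hBQ
  obtain ⟨L, hL⟩ : ∃ L, L = ⁅generalizedFittingSubgroup X, Q⁆ := ⟨_, rfl⟩
  rw [← hL] at hFC hcc0 hLsn0 hLFS0 hQL0 hBL0 hLB ⊢
  obtain ⟨F'', hF''⟩ : ∃ F'', F'' = L ⊓ Subgroup.centralizer ((L ⊔ Q : Subgroup X) : Set X) :=
    ⟨_, rfl⟩
  have hU : ⁅L, B⁆ ≤ F'' := by
    rw [hF'']
    exact le_inf (Cfsg.Agent.Lib.helper8.commutator_le_of_le_normalizer hBL0) (hLB.trans hFC)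
  have hBF : B ≤ Subgroup.normalizer (F'' : Set X) := by
    rw [hF'']
    exact le_normalizer_inf _ _ _ hBL0
      ((le_normalizer_sup _ _ _ hBL0 hBQ).trans (normalizer_le_normalizer_centralizer _))
  have hQF : Q ≤ Subgroup.centralizer (F'' : Set X) := by
    rw [Subgroup.le_centralizer_iff, hF'']
    have hle : Q ≤ L ⊔ Q := le_sup_right
    exact inf_le_right.trans (Subgroup.centralizer_le hle)
  have hFQ : ⁅F'', Q⁆ = ⊥ := by
    rw [Subgroup.commutator_comm, Subgroup.commutator_eq_bot_iff_le_centralizer]; exact hQF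
  have hQFn : Q ≤ Subgroup.normalizer (F'' : Set X) :=
    hQF.trans (Subgroup.centralizer_le_normalizer _)
  have hBLc : ∀ b ∈ B, ∀ l ∈ L, ⁅b, l⁆ ∈ F'' := by
    intro b hb l hl
    have : ⁅b, l⁆ ∈ ⁅B, L⁆ := Subgroup.commutator_mem_commutator hb hl
    rw [Subgroup.commutator_comm] at this
    exact hU this
  have hQB : ⁅Q, B⁆ ≤ Subgroup.centralizer (L : Set X) := by
    rw [Subgroup.commutator_le]
    intro q hq b hb
    have hcQ : ⁅q, b⁆ ∈ Q := by
      have e : ⁅q, b⁆ = q * (b * q⁻¹ * b⁻¹) := by simp only [commutatorElement_def]; group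
      rw [e]
      exact Q.mul_mem hq ((Subgroup.mem_normalizer_iff.1 (hBQ hb) _).1 (Q.inv_mem hq))
    have hYQ : Subgroup.zpowers ⁅q, b⁆ ≤ Q := Subgroup.zpowers_le.2 hcQ
    have hYS : Subgroup.zpowers ⁅q, b⁆ ≤ Subgroup.closure ({q * b * q⁻¹, b⁻¹} : Set X) := by
      rw [Subgroup.zpowers_le]
      have e : ⁅q, b⁆ = (q * b * q⁻¹) * b⁻¹ := by simp only [commutatorElement_def]
      rw [e]
      exact Subgroup.mul_mem _ (Subgroup.subset_closure (by simp))
        (Subgroup.subset_closure (by simp))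
    have hSL : ⁅Subgroup.closure ({q * b * q⁻¹, b⁻¹} : Set X), L⁆ ≤ F'' := by
      apply commutator_closure_le
      · intro s hs
        rcases hs with rfl | rfl
        · exact Subgroup.mul_mem _ (Subgroup.mul_mem _ (hQFn hq) (hBF hb))
            (Subgroup.inv_mem _ (hQFn hq))
        · exact Subgroup.inv_mem _ (hBF hb)
      · intro s hs l hl
        rcases hs with rfl | rfl
        · have h1 : q⁻¹ * l * q ∈ L := by
            have := (Subgroup.mem_normalizer_iff.1 (Subgroup.inv_mem _ (hQL0 hq)) l).1 hl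
            simpa using this
          have h2 := hBLc b hb _ h1
          have h3 : q * ⁅b, q⁻¹ * l * q⁆ = ⁅b, q⁻¹ * l * q⁆ * q :=
            (Subgroup.mem_centralizer_iff.1 (hQF hq) _ h2).symm
          have e : ⁅q * b * q⁻¹, l⁆ = q * ⁅b, q⁻¹ * l * q⁆ * q⁻¹ := by
            simp only [commutatorElement_def]; group
          rw [e, h3]
          simpa using h2
        · exact hBLc _ (B.inv_mem hb) l hl
    have hYp : IsPGroup p (Subgroup.zpowers ⁅q, b⁆) := hQ.to_le hYQ
    have hcc' := (fsAct_of_subnormal hO L (Subgroup.zpowers ⁅q, b⁆) hYp hLsn0 hLFS0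
      (hYQ.trans hQL0)).comm_comm
    have h1 : ⁅L, Subgroup.zpowers ⁅q, b⁆⁆ ≤ F'' := by
      rw [Subgroup.commutator_comm]
      exact (Subgroup.commutator_mono hYS le_rfl).trans hSL
    have h2 : ⁅L, Subgroup.zpowers ⁅q, b⁆⁆ = ⊥ := by
      rw [← le_bot_iff, ← hFQ, ← hcc']
      exact Subgroup.commutator_mono h1 hYQ
    rw [Subgroup.commutator_comm, Subgroup.commutator_eq_bot_iff_le_centralizer] at h2
    exact h2 (Subgroup.mem_zpowers _)
  have h1 : ⁅⁅Q, B⁆, L⁆ = ⊥ := by
    rw [Subgroup.commutator_eq_bot_iff_le_centralizer]; exact hQB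
  have h2 : ⁅⁅B, L⁆, Q⁆ = ⊥ := by
    rw [← le_bot_iff, ← hFQ, Subgroup.commutator_comm B L]
    exact Subgroup.commutator_mono hU le_rfl
  have h3 := Subgroup.commutator_commutator_eq_bot_of_rotate h1 h2
  rwa [hcc0] at h3


theorem fitting_le_centralizer_comp {K : Subgroup X} (hK : IsComponent K) :
    fittingSubgroup X ≤ Subgroup.centralizer (K : Set X) := by
  have h1 := Cfsg.Agent.Lib.helper7.layer_comm_fitting X
  rw [Subgroup.commutator_comm, Subgroup.commutator_eq_bot_iff_le_centralizer] at h1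
  have h2 : K ≤ layer X := Cfsg.Agent.Lib.helper7.comp_le_layer hK
  exact h1.trans (Subgroup.centralizer_le h2)

theorem genFitting_le_normalizer_comp {K : Subgroup X} (hK : IsComponent K) :
    generalizedFittingSubgroup X ≤ Subgroup.normalizer (K : Set X) := by
  unfold generalizedFittingSubgroup
  exact sup_le (Cfsg.Agent.Lib.helper7.layer_le_normalizer_comp hK)
    ((fitting_le_centralizer_comp hK).trans (Subgroup.centralizer_le_normalizer _))

theorem comp_le_genFitting {K : Subgroup X} (hK : IsComponent K) :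
    K ≤ generalizedFittingSubgroup X :=
  (Cfsg.Agent.Lib.helper7.comp_le_layer hK).trans (Cfsg.Agent.Lib.helper7.layer_le_genFitting X)

theorem fsq_part5_aux (hO : pCore p X = ⊥) (Q : Subgroup X) (hQ : IsPGroup p Q) (F : Subgroup X)
    (hF : F ≤ generalizedFittingSubgroup X ∧
      generalizedFittingSubgroup X ≤ Subgroup.normalizer (F : Set X) ∧
      Q ≤ Subgroup.centralizer (F : Set X) ∧
      ∀ N : Subgroup X, N ≤ generalizedFittingSubgroup X →
        generalizedFittingSubgroup X ≤ Subgroup.normalizer (N : Set X) →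
        Q ≤ Subgroup.centralizer (N : Set X) → N ≤ F)
    (P : Subgroup X) (hP : IsPGroup p P)
    (hPC : P ≤ Subgroup.centralizer ((F ⊔ ⁅generalizedFittingSubgroup X, Q⁆ : Subgroup X) : Set X)) :
    P = ⊥ := by
  have hp : p.Prime := Fact.out
  obtain ⟨hF1, hF2, hF3, hF4⟩ := hF
  have act := fsAct_genFitting hO Q hQ
  apply eq_bot_of_pgroup_le_centralizer_genFitting hO P hP
  rw [Subgroup.le_centralizer_iff] at hPC ⊢
  have hFP : F ≤ Subgroup.centralizer (P : Set X) := le_sup_left.trans hPC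
  have hLP : ⁅generalizedFittingSubgroup X, Q⁆ ≤ Subgroup.centralizer (P : Set X) :=
    le_sup_right.trans hPC
  unfold generalizedFittingSubgroup
  apply sup_le
  · apply sSup_le
    intro K hK
    rcases act.comp_le_or K ⟨hK, comp_le_genFitting hK⟩ with h1 | h1
    · exact h1.trans hLP
    · refine (hF4 K (comp_le_genFitting hK) (genFitting_le_normalizer_comp hK) ?_).trans hFP
      rw [Subgroup.le_centralizer_iff]; exact h1
  · obtain ⟨N, hN⟩ : ∃ N, N = fittingSubgroup X := ⟨_, rfl⟩
    rw [← hN]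
    have hNFS : N ≤ generalizedFittingSubgroup X := by
      rw [hN]; exact Cfsg.Agent.Lib.helper7.fitting_le_genFitting X
    have hNn : ∀ A : Subgroup X, A ≤ Subgroup.normalizer (N : Set X) := by
      intro A; rw [hN, Subgroup.normalizer_eq_top]; exact le_top
    have hNcop : (Nat.card ↥N).Coprime p := by rw [hN]; exact card_coprime_fitting hO
    have hcopOf : ∀ (A D : Subgroup X), IsPGroup p A → D ≤ N →
        (Nat.card A).Coprime (Nat.card D) := by
      intro A D hA hD
      obtain ⟨k, hk⟩ := IsPGroup.iff_card.1 hA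
      rw [hk]
      apply Nat.Coprime.pow_left
      exact (Nat.Coprime.coprime_dvd_left (Subgroup.card_dvd_of_le hD) hNcop).symm
    obtain ⟨N₁, hN₁⟩ : ∃ N₁, N₁ = ⁅N, Q⁆ := ⟨_, rfl⟩
    have hN₁L : N₁ ≤ ⁅generalizedFittingSubgroup X, Q⁆ := by
      rw [hN₁]; exact Subgroup.commutator_mono hNFS le_rfl
    have hN₁P : N₁ ≤ Subgroup.centralizer (P : Set X) := hN₁L.trans hLP
    have hN₁N : N₁ ≤ N := by
      rw [hN₁]; exact Cfsg.Agent.Lib.helper8.commutator_le_of_le_normalizer (hNn Q)
    have hNN₁ : N ≤ Subgroup.normalizer (N₁ : Set X) := by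
      rw [hN₁]; exact Cfsg.Agent.Lib.helper8.le_normalizer_commutator_left N Q
    have hQN₁ : Q ≤ Subgroup.normalizer (N₁ : Set X) := by
      rw [hN₁]; exact Cfsg.Agent.Lib.helper8.le_normalizer_commutator_right (hNn Q)
    have hNsup : N₁ ⊔ (N ⊓ Subgroup.centralizer (Q : Set X)) = N := by
      rw [hN₁]
      exact Cfsg.Agent.Lib.helper8.commutator_sup_fixed Q N (hNn Q) (hcopOf Q N hQ le_rfl)
        (Or.inl (isSolvable_of_isPGroup Q hQ))
    obtain ⟨D, hD⟩ : ∃ D, D = N ⊓ Subgroup.centralizer (N₁ : Set X) := ⟨_, rfl⟩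
    have hDN : D ≤ N := by rw [hD]; exact inf_le_left
    have hNPD : ⁅N, P⁆ ≤ D := by
      rw [hD]
      refine le_inf (Cfsg.Agent.Lib.helper8.commutator_le_of_le_normalizer (hNn P)) ?_
      rw [← Subgroup.commutator_eq_bot_iff_le_centralizer]
      apply Subgroup.commutator_commutator_eq_bot_of_rotate
      · have : ⁅P, N₁⁆ = ⊥ := by
          rw [Subgroup.commutator_comm, Subgroup.commutator_eq_bot_iff_le_centralizer]
          exact hN₁P
        rw [this, Subgroup.commutator_bot_left]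
      · have h1 : ⁅N₁, N⁆ ≤ N₁ := Cfsg.Agent.Lib.helper8.commutator_le_of_le_normalizer hNN₁
        have h2 : ⁅N₁, P⁆ = ⊥ := by
          rw [Subgroup.commutator_eq_bot_iff_le_centralizer]; exact hN₁P
        rw [← le_bot_iff, ← h2]; exact Subgroup.commutator_mono h1 le_rfl
    have hQD : Q ≤ Subgroup.normalizer (D : Set X) := by
      rw [hD]
      exact le_normalizer_inf _ _ _ (hNn Q)
        (hQN₁.trans (normalizer_le_normalizer_centralizer _))
    have hDsup : ⁅D, Q⁆ ⊔ (D ⊓ Subgroup.centralizer (Q : Set X)) = D :=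
      Cfsg.Agent.Lib.helper8.commutator_sup_fixed Q D hQD (hcopOf Q D hQ hDN)
        (Or.inl (isSolvable_of_isPGroup Q hQ))
    have hD₀F : D ⊓ Subgroup.centralizer (Q : Set X) ≤ F := by
      apply hF4 _ (inf_le_left.trans (hDN.trans hNFS))
      · -- F* normalizes D₀
        have hD₀N₁ : N₁ ≤ Subgroup.centralizer
            ((D ⊓ Subgroup.centralizer (Q : Set X) : Subgroup X) : Set X) := by
          rw [Subgroup.le_centralizer_iff, hD]
          exact inf_le_left.trans inf_le_right
        have h1 : N₁ ≤ Subgroup.normalizer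
            ((D ⊓ Subgroup.centralizer (Q : Set X) : Subgroup X) : Set X) :=
          hD₀N₁.trans (Subgroup.centralizer_le_normalizer _)
        have h2 : N ⊓ Subgroup.centralizer (Q : Set X) ≤ Subgroup.normalizer
            ((D ⊓ Subgroup.centralizer (Q : Set X) : Subgroup X) : Set X) := by
          apply le_normalizer_inf
          · rw [hD]
            apply le_normalizer_inf
            · exact hNn _
            · exact (inf_le_left.trans hNN₁).trans (normalizer_le_normalizer_centralizer _)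
          · exact (inf_le_right.trans (Subgroup.centralizer_le_normalizer _)).trans
              (normalizer_le_normalizer_centralizer Q)
        have h3 : N ≤ Subgroup.normalizer
            ((D ⊓ Subgroup.centralizer (Q : Set X) : Subgroup X) : Set X) := by
          calc N = N₁ ⊔ (N ⊓ Subgroup.centralizer (Q : Set X)) := hNsup.symm
            _ ≤ _ := sup_le h1 h2
        have h4 : layer X ≤ Subgroup.normalizer
            ((D ⊓ Subgroup.centralizer (Q : Set X) : Subgroup X) : Set X) := by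
          refine le_trans ?_ (Subgroup.centralizer_le_normalizer _)
          have h5 := Cfsg.Agent.Lib.helper7.layer_comm_fitting X
          rw [Subgroup.commutator_eq_bot_iff_le_centralizer, ← hN] at h5
          have hle : D ⊓ Subgroup.centralizer (Q : Set X) ≤ N := inf_le_left.trans hDN
          exact h5.trans (Subgroup.centralizer_le hle)
        unfold generalizedFittingSubgroup
        rw [← hN]
        exact sup_le h4 h3
      · rw [Subgroup.le_centralizer_iff]; exact inf_le_right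
    have hDP : D ≤ Subgroup.centralizer (P : Set X) := by
      rw [← hDsup]
      apply sup_le
      · refine le_trans ?_ hN₁P
        rw [hN₁]; exact Subgroup.commutator_mono hDN le_rfl
      · exact hD₀F.trans hFP
    have h6 : ⁅⁅N, P⁆, P⁆ = ⊥ := by
      have h7 : ⁅D, P⁆ = ⊥ := by
        rw [Subgroup.commutator_eq_bot_iff_le_centralizer]; exact hDP
      rw [← le_bot_iff, ← h7]; exact Subgroup.commutator_mono hNPD le_rfl
    have h8 := Cfsg.Agent.Lib.helper8.commutator_commutator_eq P N (hNn P) (hcopOf P N hP le_rfl)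
      (Or.inl (isSolvable_of_isPGroup P hP))
    rw [h6] at h8
    rw [← Subgroup.commutator_eq_bot_iff_le_centralizer]
    exact h8.symm

/-- a subgroup all of whose `p`-subgroups are trivial has order prime to `p`. -/
theorem card_coprime_of_pgroups_trivial {G : Type*} [Group G] [Finite G] (C : Subgroup G)
    (h : ∀ P : Subgroup G, IsPGroup p P → P ≤ C → P = ⊥) : (Nat.card ↥C).Coprime p := by
  have hp : p.Prime := Fact.out
  rw [Nat.coprime_comm, Nat.Prime.coprime_iff_not_dvd hp]
  intro hdvd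
  obtain ⟨x, hx⟩ := exists_prime_orderOf_dvd_card' p hdvd
  have hP : IsPGroup p (Subgroup.zpowers (x : G)) :=
    IsPGroup.of_card (n := 1) (by rw [Nat.card_zpowers, Subgroup.orderOf_coe, hx, pow_one])
  have h1 := h _ hP (Subgroup.zpowers_le.2 x.2)
  have h2 : (x : G) = 1 := Subgroup.mem_bot.1 (h1 ▸ Subgroup.mem_zpowers (x : G))
  have h3 : orderOf (x : G) = 1 := by rw [h2, orderOf_one]
  rw [Subgroup.orderOf_coe, hx] at h3
  exact hp.one_lt.ne' h3

/-- **S2817** -/
theorem commutator_of_genFitting_with_pgroup (hO : pCore p X = ⊥) (Q : Subgroup X)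
    (hQ : IsPGroup p Q) (L : Subgroup X) (hL : L = ⁅generalizedFittingSubgroup X, Q⁆)
    (F : Subgroup X)
    (hF : F ≤ generalizedFittingSubgroup X ∧
      generalizedFittingSubgroup X ≤ Subgroup.normalizer (F : Set X) ∧
      Q ≤ Subgroup.centralizer (F : Set X) ∧
      ∀ N : Subgroup X, N ≤ generalizedFittingSubgroup X →
        generalizedFittingSubgroup X ≤ Subgroup.normalizer (N : Set X) →
        Q ≤ Subgroup.centralizer (N : Set X) → N ≤ F) :
    F = generalizedFittingSubgroup X ⊓ Subgroup.centralizer ((L ⊔ Q : Subgroup X) : Set X) ∧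
    ⁅L, Q⁆ = L ∧ L ⊓ F ≤ (frattini ↥L).map L.subtype ∧
    (∀ B : Subgroup X, IsPGroup p ↥B → B ≤ Subgroup.normalizer (Q : Set X) → ⁅L, B⁆ ≤ F →
      ⁅L, B⁆ = ⊥) ∧
    (Nat.card ↥(Subgroup.centralizer ((F ⊔ L : Subgroup X) : Set X))).Coprime p := by
  subst hL
  have h1 := fsq_part1 hO Q hQ F hF
  have hFC : F ≤ Subgroup.centralizer
      ((⁅generalizedFittingSubgroup X, Q⁆ ⊔ Q : Subgroup X) : Set X) := by
    rw [h1]; exact inf_le_right
  refine ⟨h1, (fsAct_genFitting hO Q hQ).comm_comm, fsq_part3 hO Q hQ F hFC, ?_, ?_⟩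
  · intro B _ hBQ hLB
    exact fsq_part4 hO Q hQ F hFC B hBQ hLB
  · apply card_coprime_of_pgroups_trivial
    intro P hP hPC
    exact fsq_part5_aux hO Q hQ F hF P hP hPC

end s2817

end Cfsg.Agent.Lib.helper14
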