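import Cfsg.Agent.Lib.helper14.FStarAction2
import Cfsg.Agent.Lib.helper7.Local

set_option autoImplicit false
set_option linter.unusedSectionVars false
set_option linter.unusedVariables false

namespace Cfsg.Agent.Lib.helper14

open Cfsg
open scoped commutatorElement Pointwise

universe u

section s2815
variable {X : Type u} [Group X] [Finite X] {p : ℕ} [Fact p.Prime]

/-- a perfect subgroup lies in `O^p`. -/
theorem perfect_le_pResidual (K' : Subgroup X) (hperf : commutator ↥K' = ⊤) :
    K' ≤ pResidual p X := by
  have := pResidual_normal' p X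
  have h := Cfsg.Agent.Lib.helper7.perfect_normal_eq_top_of_pgroup_quotient (p := p) hperf
    ((pResidual p X).subgroupOf K') (by
      intro g
      obtain ⟨k, hk⟩ := Cfsg.Agent.Lib.helper7.exists_pow_coprime_order (p := p) (g : X)
      refine ⟨k, ?_⟩
      rw [Subgroup.mem_subgroupOf]
      exact Subgroup.subset_closure hk)
  exact Subgroup.subgroupOf_eq_top.1 h

theorem pResidual_eq_genFitting (hO : pCore p X = ⊥) (hq : IsQuasisimple ↥(pResidual p X)) :
    pResidual p X = generalizedFittingSubgroup X := by
  have := pResidual_normal' p X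
  have hcomp : IsComponent (pResidual p X) := ⟨Subgroup.Normal.isSubnormal inferInstance, hq⟩
  apply le_antisymm
  · exact comp_le_genFitting hcomp
  · unfold generalizedFittingSubgroup
    apply sup_le
    · apply sSup_le
      intro K' hK'
      exact perfect_le_pResidual K' (Cfsg.Agent.Lib.helper7.qs_perfect hK'.2)
    · intro x hx
      have h1 : orderOf x ∣ Nat.card (fittingSubgroup X) := by
        have := orderOf_dvd_natCard (⟨x, hx⟩ : fittingSubgroup X)
        rwa [Subgroup.orderOf_mk] at this
      exact Subgroup.subset_closure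
        (Nat.Coprime.coprime_dvd_left h1 (card_coprime_fitting hO))

/-- **S2815** -/
theorem quasisimple_pResidual (hp : p ∣ Nat.card X) (hO : pCore p X = ⊥)
    (hq : IsQuasisimple ↥(pResidual p X)) :
    pResidual p X = generalizedFittingSubgroup X ∧
    (∀ Y : Subgroup X, IsPGroup p ↥Y → Y ≠ ⊥ → ⁅pResidual p X, Y⁆ = pResidual p X ∧
      pResidual p X ≤ ⨆ k : ↥(pResidual p X), Y.map (MulAut.conj (k : X)).toMonoidHom) ∧
    (∀ C : Subgroup X, C.Normal → ¬ pResidual p X ≤ C → (Nat.card ↥C).Coprime p) ∧
    IsPIrreducible p X := by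
  have hpp : p.Prime := Fact.out
  have := pResidual_normal' p X
  have h1 := pResidual_eq_genFitting hO hq
  have hcomp : IsComponent (pResidual p X) := ⟨Subgroup.Normal.isSubnormal inferInstance, hq⟩
  have hKn : ∀ A : Subgroup X, A ≤ Subgroup.normalizer (pResidual p X : Set X) := by
    intro A; rw [Subgroup.normalizer_eq_top]; exact le_top
  have h3 : ∀ C : Subgroup X, C.Normal → ¬ pResidual p X ≤ C → (Nat.card ↥C).Coprime p := by
    intro C hC hKC
    have hCn : ∀ A : Subgroup X, A ≤ Subgroup.normalizer (C : Set X) := by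
      intro A; rw [Subgroup.normalizer_eq_top]; exact le_top
    have hCK : ⁅C, pResidual p X⁆ ≤ Subgroup.centralizer (pResidual p X : Set X) := by
      have ha : ⁅C, pResidual p X⁆ ≤ pResidual p X := by
        rw [Subgroup.commutator_comm]
        exact Cfsg.Agent.Lib.helper8.commutator_le_of_le_normalizer (hKn C)
      have hb : ⁅C, pResidual p X⁆ ≤ C :=
        Cfsg.Agent.Lib.helper8.commutator_le_of_le_normalizer (hCn _)
      rcases qs_sub hq (C ⊓ pResidual p X) inf_le_right
        (le_normalizer_inf _ _ _ (hCn _) (hKn _)) with h | h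
      · exact absurd (h ▸ inf_le_left) hKC
      · exact (le_inf hb ha).trans h
    have e1 : ⁅⁅C, pResidual p X⁆, pResidual p X⁆ = ⊥ := by
      rw [Subgroup.commutator_eq_bot_iff_le_centralizer]; exact hCK
    have e2 : ⁅⁅pResidual p X, C⁆, pResidual p X⁆ = ⊥ := by
      rw [Subgroup.commutator_comm (pResidual p X) C]; exact e1
    have e3 := Subgroup.commutator_commutator_eq_bot_of_rotate e2 e1
    rw [qs_comm_self hq, Subgroup.commutator_comm,
      Subgroup.commutator_eq_bot_iff_le_centralizer, h1] at e3
    exact Nat.Coprime.coprime_dvd_left (Subgroup.card_dvd_of_le e3)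
      (centralizer_genFitting_coprime hO)
  refine ⟨h1, ?_, h3, ?_, ?_⟩
  · intro Y hY hYne
    have act := fsAct_genFitting hO Y hY
    have hK2 : ⁅pResidual p X, Y⁆ = pResidual p X := by
      apply le_antisymm
      · exact Cfsg.Agent.Lib.helper8.commutator_le_of_le_normalizer (hKn Y)
      · rcases act.comp_le_or (pResidual p X) ⟨hcomp, h1.le⟩ with h | h
        · rw [← h1] at h; exact h
        · exfalso
          apply hYne
          apply eq_bot_of_pgroup_le_centralizer_genFitting hO Y hY
          rw [← h1, Subgroup.le_centralizer_iff]; exact h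
    refine ⟨hK2, ?_⟩
    conv_lhs => rw [← hK2]
    rw [Subgroup.commutator_le]
    intro k hk y hy
    have e : ⁅k, y⁆ = (k * y * k⁻¹) * (1 * y⁻¹ * 1⁻¹) := by
      simp only [commutatorElement_def]; group
    rw [e]
    apply Subgroup.mul_mem
    · exact Subgroup.mem_iSup_of_mem (⟨k, hk⟩ : ↥(pResidual p X)) ⟨y, hy, rfl⟩
    · exact Subgroup.mem_iSup_of_mem (⟨1, Subgroup.one_mem _⟩ : ↥(pResidual p X))
        ⟨y⁻¹, Y.inv_mem hy, rfl⟩
  · intro hcl
    obtain ⟨P⟩ : Nonempty (Sylow p X) := inferInstance
    have hPn := hcl P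
    have hle := le_pCore hPn P.isPGroup'
    rw [hO, le_bot_iff] at hle
    have hcard := P.card_eq_multiplicity
    rw [hle, Subgroup.card_bot] at hcard
    have h5 : (Nat.card X).factorization p = 0 := by
      by_contra hne
      have : 1 < p ^ (Nat.card X).factorization p := Nat.one_lt_pow hne hpp.one_lt
      omega
    have := (Nat.Prime.dvd_iff_one_le_factorization hpp Nat.card_pos.ne').1 hp
    omega
  · intro N hN hNcl
    by_contra hKN
    have hcop := h3 N hN hKN
    apply hNcl
    intro P
    have hPbot : (P : Subgroup ↥N) = ⊥ := by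
      obtain ⟨k, hk⟩ := IsPGroup.iff_card.1 P.isPGroup'
      have h6 := Nat.Coprime.coprime_dvd_left (Subgroup.card_subgroup_dvd_card (P : Subgroup ↥N)) hcop
      rw [hk] at h6
      have h7 : k = 0 := by
        by_contra hne
        have := (Nat.coprime_pow_left_iff (Nat.pos_of_ne_zero hne) p p).1 h6
        rw [Nat.coprime_self] at this
        exact hpp.one_lt.ne' this
      rw [h7, pow_zero] at hk
      exact Subgroup.card_eq_one.1 hk
    rw [hPbot]
    infer_instance

end s2815

end Cfsg.Agent.Lib.helper14
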