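import Cfsg.Agent.Lib.helper14.FunctorNPC
import Cfsg.Agent.Lib.helper14.NormKill
import Cfsg.Agent.S0065
import Cfsg.Prelude.Def_PLocal
import Cfsg.Prelude.Def_LocalEven

/-!
# Functor-form normal `p`-complement criteria: the Hall–Higman step on a chief factor
(library, seat helper14)
-/

set_option autoImplicit false
set_option linter.style.haveILetI false
set_option linter.unusedVariables false
set_option linter.unusedSectionVars false

namespace Cfsg.Agent.Lib.helper14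

open Cfsg

universe u

/-- a nontrivial subgroup `N` of a `p`-subgroup `M`, normalized by `M`, contains a nontrivial
element centralizing `M`. -/
theorem exists_central_of_normal_pgroup {G : Type*} [Group G] [Finite G] {p : ℕ} [Fact p.Prime]
    (M N : Subgroup G) (hM : IsPGroup p M) (hNM : N ≤ M) (hN : N ≠ ⊥)
    (hnorm : ∀ m ∈ M, ∀ n ∈ N, m * n * m⁻¹ ∈ N) :
    ∃ z ∈ N, z ≠ 1 ∧ ∀ m ∈ M, m * z = z * m := by
  haveI : Group.IsNilpotent M := hM.isNilpotent
  haveI hn : (N.subgroupOf M).Normal := by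
    refine ⟨fun x hx g => ?_⟩
    rw [Subgroup.mem_subgroupOf] at hx ⊢
    exact hnorm g g.2 x hx
  have hN' : N.subgroupOf M ≠ ⊥ := by
    obtain ⟨n, hn1⟩ := (Subgroup.ne_bot_iff_exists_ne_one).1 hN
    intro h
    have h1 : (⟨n.1, hNM n.2⟩ : M) ∈ N.subgroupOf M := by
      rw [Subgroup.mem_subgroupOf]; exact n.2
    rw [h, Subgroup.mem_bot] at h1
    apply hn1
    apply Subtype.ext
    have h3 : ((⟨n.1, hNM n.2⟩ : M) : G) = ((1 : M) : G) := congrArg Subtype.val h1
    exact h3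
  have h2 := Cfsg.Agent.S0065.normal_inf_center_ne_bot (N.subgroupOf M) hN'
  obtain ⟨z, hz1⟩ := (Subgroup.ne_bot_iff_exists_ne_one).1 h2
  refine ⟨((z : M) : G), ?_, ?_, ?_⟩
  · have h3 : (z : M) ∈ N.subgroupOf M := z.2.1
    rw [Subgroup.mem_subgroupOf] at h3
    exact h3
  · intro h
    apply hz1
    apply Subtype.ext
    apply Subtype.ext
    exact h
  · intro m hm
    have h3 := Subgroup.mem_center_iff.1 z.2.2 ⟨m, hm⟩
    exact congrArg Subtype.val h3

theorem isChiefFactor_map {Γ : Type*} {G' : Type*} [Group Γ] [Group G'] (e : Γ ≃* G')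
    {U V : Subgroup Γ} (h : Cfsg.IsChiefFactor U V) :
    Cfsg.IsChiefFactor (U.map e.toMonoidHom) (V.map e.toMonoidHom) := by
  obtain ⟨hVU, hUn, hVn, hmin⟩ := h
  refine ⟨?_, hUn.map e.toMonoidHom e.surjective, hVn.map e.toMonoidHom e.surjective, ?_⟩
  · refine lt_of_le_of_ne (Subgroup.map_mono hVU.le) ?_
    intro heq
    apply hVU.ne
    have := congrArg (Subgroup.comap e.toMonoidHom) heq
    rwa [Subgroup.comap_map_eq_self_of_injective e.injective,
      Subgroup.comap_map_eq_self_of_injective e.injective] at this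
  · intro N' hN'n hVN hNU
    have h1 := hmin (N'.comap e.toMonoidHom) (hN'n.comap _)
      (by
        intro v hv
        exact hVN ⟨v, hv, rfl⟩)
      (by
        intro x hx
        obtain ⟨u, hu, hux⟩ := hNU hx
        have : u = x := e.injective hux
        rw [← this]; exact hu)
    rcases h1 with h1 | h1
    · left
      rw [← h1, Subgroup.map_comap_eq_self_of_surjective e.surjective]
    · right
      rw [← h1, Subgroup.map_comap_eq_self_of_surjective e.surjective]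

theorem iter_mem_iterCommutator {Γ : Type*} [Group Γ] (U : Subgroup Γ) (g : Γ) (n : ℕ) :
    ∀ u ∈ U, (fun w : Γ => g * w * g⁻¹ * w⁻¹)^[n] u ∈
      Cfsg.iterCommutator U (Subgroup.zpowers g) n := by
  induction n with
  | zero => intro u hu; exact hu
  | succ n ih =>
    intro u hu
    rw [Function.iterate_succ_apply']
    have h1 := Subgroup.commutator_mem_commutator (ih u hu) (Subgroup.mem_zpowers g)
    have h2 := Subgroup.inv_mem _ h1
    rw [commutatorElement_inv, commutatorElement_def] at h2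
    exact h2

theorem iter_map {Γ : Type*} {G' : Type*} [Group Γ] [Group G'] (f : Γ →* G') (g : Γ) (n : ℕ)
    (u : Γ) : (fun w : G' => f g * w * (f g)⁻¹ * w⁻¹)^[n] (f u) =
      f ((fun w : Γ => g * w * g⁻¹ * w⁻¹)^[n] u) := by
  induction n generalizing u with
  | zero => rfl
  | succ n ih =>
    rw [Function.iterate_succ_apply, Function.iterate_succ_apply, ← ih]
    congr 1
    rw [map_mul, map_mul, map_mul, map_inv, map_inv]

theorem commutator_zpowers_le {Γ : Type*} [Group Γ] (U V : Subgroup Γ) [hVn : V.Normal] (g : Γ)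
    (h : ∀ u ∈ U, g * u * g⁻¹ * u⁻¹ ∈ V) : ⁅U, Subgroup.zpowers g⁆ ≤ V := by
  let D : Subgroup Γ := (Subgroup.centralizer
    ((U.map (QuotientGroup.mk' V) : Subgroup (Γ ⧸ V)) : Set (Γ ⧸ V))).comap (QuotientGroup.mk' V)
  have hgD : g ∈ D := by
    show QuotientGroup.mk' V g ∈ Subgroup.centralizer _
    rw [Subgroup.mem_centralizer_iff]
    rintro _ ⟨u, hu, rfl⟩
    have h1 : QuotientGroup.mk' V (g * u * g⁻¹ * u⁻¹) = 1 := (QuotientGroup.eq_one_iff _).2 (h u hu)
    rw [map_mul, map_mul, map_mul, map_inv, map_inv] at h1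
    exact (comm_of_comm_eq_one _ _ h1).symm
  have hD : Subgroup.zpowers g ≤ D := (Subgroup.zpowers_le).2 hgD
  rw [Subgroup.commutator_le]
  intro u hu x hx
  have h1 : QuotientGroup.mk' V x ∈ Subgroup.centralizer
    ((U.map (QuotientGroup.mk' V) : Subgroup (Γ ⧸ V)) : Set (Γ ⧸ V)) := hD hx
  have h2 := Subgroup.mem_centralizer_iff.1 h1 _ ⟨u, hu, rfl⟩
  rw [commutatorElement_def, ← QuotientGroup.eq_one_iff, ← QuotientGroup.mk'_apply, map_mul,
    map_mul, map_mul, map_inv, map_inv]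
  exact comm_eq_one_of_comm _ _ h2

/-- **Hall–Higman on a chief factor of a minimal configuration.** -/
theorem chief_kill {G : Type u} [Group G] [Finite G] {p : ℕ} [Fact p.Prime]
    (P H K : Subgroup G) [hHn : H.Normal] [hKn : K.Normal] (hHp : IsPGroup p H)
    (hPp : IsPGroup p P)
    (hKc : ∀ a ∈ K, ∀ b ∈ K, a * b * a⁻¹ * b⁻¹ ∈ H)
    (m : ℕ) (hm : m.Coprime p) (hKm : ∀ x ∈ K, x ^ m ∈ H)
    (hPmax : ∀ M : Subgroup G, P ≤ M → M = P ∨ M = ⊤)
    (hKP : ∀ k ∈ K, k ∈ P → k ∈ H)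
    (hfa : ∀ g ∈ P, (∀ x ∈ K, g * x * g⁻¹ * x⁻¹ ∈ H) → g ∈ H)
    (U V : Subgroup G) (hUV : Cfsg.IsChiefFactor U V) (hUH : U ≤ H) (g : G) (hgP : g ∈ P)
    (hg : ∀ u ∈ U, (fun w : G => g * w * g⁻¹ * w⁻¹)^[p - 1] u ∈ V) :
    g ∈ H ∨ ∀ u ∈ U, g * u * g⁻¹ * u⁻¹ ∈ V := by
  have hp' : p.Prime := Fact.out
  obtain ⟨hVU, hUn, hVn, hmin⟩ := hUV
  haveI := hUn
  haveI := hVn
  have hπ : Function.Surjective (QuotientGroup.mk' V) := QuotientGroup.mk'_surjective V
  have hπ1 : ∀ x : G, QuotientGroup.mk' V x = 1 ↔ x ∈ V := fun x => QuotientGroup.eq_one_iff x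
  set Û : Subgroup (G ⧸ V) := U.map (QuotientGroup.mk' V) with hÛ
  haveI hÛn : Û.Normal := hUn.map _ hπ
  set Ĥ : Subgroup (G ⧸ V) := H.map (QuotientGroup.mk' V) with hĤ
  haveI hĤn : Ĥ.Normal := hHn.map _ hπ
  have hĤp : IsPGroup p Ĥ := hHp.map _
  have hÛĤ : Û ≤ Ĥ := Subgroup.map_mono hUH
  have hÛ1 : Û ≠ ⊥ := by
    intro h
    apply not_le_of_gt hVU
    intro u hu
    rw [← hπ1]
    have : QuotientGroup.mk' V u ∈ Û := ⟨u, hu, rfl⟩
    rw [h] at this
    exact Subgroup.mem_bot.1 this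
  have hminÛ : ∀ N : Subgroup (G ⧸ V), N.Normal → N ≤ Û → N ≠ ⊥ → N = Û := by
    intro N hNn hNÛ hN1
    haveI := hNn.comap (QuotientGroup.mk' V)
    have h1 := hmin (N.comap (QuotientGroup.mk' V) ⊓ U) inferInstance
      (by
        intro v hv
        refine Subgroup.mem_inf.2 ⟨Subgroup.mem_comap.2 ?_, hVU.le hv⟩
        rw [(hπ1 v).2 hv]; exact N.one_mem)
      inf_le_right
    rcases h1 with h1 | h1
    · exfalso
      apply hN1
      rw [eq_bot_iff]
      intro x hx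
      obtain ⟨u, hu, rfl⟩ := hNÛ hx
      have : u ∈ N.comap (QuotientGroup.mk' V) ⊓ U :=
        Subgroup.mem_inf.2 ⟨Subgroup.mem_comap.2 hx, hu⟩
      rw [h1] at this
      exact Subgroup.mem_bot.2 ((hπ1 u).2 this)
    · apply le_antisymm hNÛ
      rintro _ ⟨u, hu, rfl⟩
      have : u ∈ N.comap (QuotientGroup.mk' V) ⊓ U := by rw [h1]; exact hu
      exact Subgroup.mem_comap.1 (Subgroup.mem_inf.1 this).1
  -- `Û` is centralized by `Ĥ`
  have hcent : Û ≤ Subgroup.centralizer (Ĥ : Set (G ⧸ V)) := by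
    obtain ⟨z, hzÛ, hz1, hzc⟩ := exists_central_of_normal_pgroup Ĥ Û hĤp hÛĤ hÛ1
      (fun m _ n hn => hÛn.conj_mem n hn m)
    have h2 := hminÛ (Û ⊓ Subgroup.centralizer (Ĥ : Set (G ⧸ V))) inferInstance inf_le_left (by
      intro h
      have : z ∈ Û ⊓ Subgroup.centralizer (Ĥ : Set (G ⧸ V)) :=
        Subgroup.mem_inf.2 ⟨hzÛ, Subgroup.mem_centralizer_iff.2 (fun m hm => hzc m hm)⟩
      rw [h] at this
      exact hz1 (Subgroup.mem_bot.1 this))
    intro x hx
    have : x ∈ Û ⊓ Subgroup.centralizer (Ĥ : Set (G ⧸ V)) := by rw [h2]; exact hx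
    exact (Subgroup.mem_inf.1 this).2
  have hĤcent : Ĥ ≤ Subgroup.centralizer (Û : Set (G ⧸ V)) := Subgroup.le_centralizer_iff.1 hcent
  have hÛc : ∀ v ∈ Û, ∀ w ∈ Û, v * w = w * v := fun v hv w hw =>
    (Subgroup.mem_centralizer_iff.1 (hcent hw) v (hÛĤ hv))
  have hÛp : ∀ v ∈ Û, v ^ p = 1 := by
    haveI hΩn : (omegaAb p Û hÛc).Normal :=
      ⟨fun v hv x => ⟨hÛn.conj_mem v hv.1 x, by rw [conj_pow, hv.2]; group⟩⟩
    have hΩ1 : omegaAb p Û hÛc ≠ ⊥ := by
      obtain ⟨k, hk⟩ := IsPGroup.iff_card.1 (hĤp.to_le hÛĤ)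
      have hk0 : k ≠ 0 := by
        intro h0
        rw [h0, pow_zero] at hk
        exact hÛ1 (Subgroup.eq_bot_of_card_eq Û hk)
      have hdvd : p ∣ Nat.card Û := by rw [hk]; exact dvd_pow_self p hk0
      obtain ⟨x, hx⟩ := exists_prime_orderOf_dvd_card' p hdvd
      intro h
      have h1 : (x : G ⧸ V) ∈ omegaAb p Û hÛc := by
        refine ⟨x.2, ?_⟩
        have h2 : x ^ p = 1 := by rw [← hx]; exact pow_orderOf_eq_one x
        have h3 : ((x ^ p : Û) : G ⧸ V) = ((1 : Û) : G ⧸ V) := congrArg Subtype.val h2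
        exact h3
      rw [h, Subgroup.mem_bot] at h1
      have h4 : x = 1 := Subtype.ext h1
      rw [h4, orderOf_one] at hx
      exact hp'.one_lt.ne hx
    have h2 := hminÛ (omegaAb p Û hÛc) hΩn (fun v hv => hv.1) hΩ1
    intro v hv
    have : v ∈ omegaAb p Û hÛc := by rw [h2]; exact hv
    exact this.2
  -- the kill
  have hres := norm_kill_group Û hÛc hÛp (QuotientGroup.mk' V g)
    (by
      rintro _ ⟨u, hu, rfl⟩
      rw [iter_map]
      exact (hπ1 _).2 (hg u hu))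
    (K.map (QuotientGroup.mk' V))
    (by
      rintro _ ⟨x, hx, rfl⟩
      exact ⟨g * x * g⁻¹, hKn.conj_mem x hx g, by rw [map_mul, map_mul, map_inv]⟩)
    (by
      rintro _ ⟨x, hx, rfl⟩ _ ⟨y, hy, rfl⟩
      apply hĤcent
      exact ⟨x * y * x⁻¹ * y⁻¹, hKc x hx y hy, by
        rw [map_mul, map_mul, map_mul, map_inv, map_inv]⟩)
    m hm
    (by
      rintro _ ⟨x, hx, rfl⟩
      apply hĤcent
      exact ⟨x ^ m, hKm x hx, by rw [map_pow]⟩)
  haveI hCn : ((Subgroup.centralizer (Û : Set (G ⧸ V))).comap (QuotientGroup.mk' V)).Normal :=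
    Subgroup.Normal.comap inferInstance _
  set C : Subgroup G := K ⊓ (Subgroup.centralizer (Û : Set (G ⧸ V))).comap (QuotientGroup.mk' V)
    with hC
  have hgC : ∀ x ∈ K, g * x * g⁻¹ * x⁻¹ ∈ C := by
    intro x hx
    refine Subgroup.mem_inf.2 ⟨K.mul_mem (hKn.conj_mem x hx g) (K.inv_mem hx),
      Subgroup.mem_comap.2 ?_⟩
    rw [map_mul, map_mul, map_mul, map_inv, map_inv]
    exact hres _ ⟨x, hx, rfl⟩
  rcases hPmax (C ⊔ P) le_sup_right with h1 | h1
  · left
    apply hfa g hgP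
    intro x hx
    have hc := hgC x hx
    have h2 : g * x * g⁻¹ * x⁻¹ ∈ P := by
      rw [← h1]; exact Subgroup.mem_sup_left hc
    exact hKP _ hc.1 h2
  · right
    set Pq : Subgroup (G ⧸ V) := P.map (QuotientGroup.mk' V) with hPq
    have htop : C.map (QuotientGroup.mk' V) ⊔ Pq = ⊤ := by
      rw [← Subgroup.map_sup, h1]
      exact Subgroup.map_top_of_surjective _ hπ
    have hsupp : IsPGroup p (Û ⊔ Pq : Subgroup (G ⧸ V)) :=
      IsPGroup.to_sup_of_normal_left (hĤp.to_le hÛĤ) (hPp.map _)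
    obtain ⟨z, hzÛ, hz1, hzc⟩ := exists_central_of_normal_pgroup (Û ⊔ Pq) Û hsupp le_sup_left hÛ1
      (fun m _ n hn => hÛn.conj_mem n hn m)
    have hzcen : z ∈ Subgroup.center (G ⧸ V) := by
      have h5 : C.map (QuotientGroup.mk' V) ⊔ Pq ≤ Subgroup.centralizer ({z} : Set (G ⧸ V)) := by
        refine sup_le ?_ ?_
        · rintro _ ⟨c, hc, rfl⟩
          rw [Subgroup.mem_centralizer_iff]
          intro y hy
          rw [Set.mem_singleton_iff] at hy
          rw [hy]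
          exact Subgroup.mem_centralizer_iff.1 hc.2 z hzÛ
        · intro x hx
          rw [Subgroup.mem_centralizer_iff]
          intro y hy
          rw [Set.mem_singleton_iff] at hy
          rw [hy]
          exact (hzc x (Subgroup.mem_sup_right hx)).symm
      rw [htop] at h5
      rw [Subgroup.mem_center_iff]
      intro x
      exact (Subgroup.mem_centralizer_iff.1 (h5 (Subgroup.mem_top x)) z rfl).symm
    have h6 := hminÛ (Û ⊓ Subgroup.center (G ⧸ V)) inferInstance inf_le_left (by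
      intro h
      have : z ∈ Û ⊓ Subgroup.center (G ⧸ V) := Subgroup.mem_inf.2 ⟨hzÛ, hzcen⟩
      rw [h] at this
      exact hz1 (Subgroup.mem_bot.1 this))
    intro u hu
    have h7 : QuotientGroup.mk' V u ∈ Û ⊓ Subgroup.center (G ⧸ V) := by
      rw [h6]; exact ⟨u, hu, rfl⟩
    rw [← hπ1, map_mul, map_mul, map_mul, map_inv, map_inv]
    have h8 := Subgroup.mem_center_iff.1 h7.2 (QuotientGroup.mk' V g)
    exact comm_eq_one_of_comm _ _ h8

/-- a minimal configuration (transported to an isomorphic group `Γ`) admits no element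
`g ∈ T \ O_p` with `[U, g; p - 1] ≤ V < [U, g] V` on a chief factor `U/V` below `O_p`. -/
theorem chief_final {p : ℕ} [Fact p.Prime] (W : ∀ (Q : Type u) [Group Q], Subgroup Q)
    (hW : Cfsg.IsCharPFunctor.{u} p W) (𝒞 : Cfsg.Agent.Lib.helper1.Hered.{u})
    {G' : Type u} [Group G'] [Finite G'] (P : Sylow p G') (H K : Subgroup G')
    (h : Cfsg.Agent.Lib.helper1.MinCex p (WF p W hW) (WF p W hW) 𝒞 G' P H K)
    {Γ : Type u} [Group Γ] [Finite Γ] (e : Γ ≃* G') (T : Sylow p Γ)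
    (hT : (T : Subgroup Γ) = (P : Subgroup G').comap e.toMonoidHom)
    (hcore : Cfsg.pCore p Γ = H.comap e.toMonoidHom)
    (g : Γ) (hgT : g ∈ (T : Subgroup Γ)) (hgO : g ∉ Cfsg.pCore p Γ) (U V : Subgroup Γ)
    (hUV : Cfsg.IsChiefFactor U V) (hUO : U ≤ Cfsg.pCore p Γ)
    (hiter : Cfsg.iterCommutator U (Subgroup.zpowers g) (p - 1) ≤ V)
    (hnot : ¬ ⁅U, Subgroup.zpowers g⁆ ≤ V) : False := by
  have hp' : p.Prime := Fact.out
  haveI hHn := h.H_normal
  haveI hKn := h.K_normal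
  obtain ⟨q, hq, hqp, hKq⟩ := h.K_q
  have hKm := uniform_exp H K q hq hKq
  have hcop : (q ^ Nat.card G').Coprime p :=
    Nat.Coprime.pow_left _ ((Nat.coprime_primes hq hp').2 hqp)
  have hfa := faithful_of_sup (P : Subgroup G') H K P.2 h.H_le_P h.K_sup h.core
  have hKP : ∀ k ∈ K, k ∈ (P : Subgroup G') → k ∈ H := by
    intro k hk hkP
    obtain ⟨n, hn⟩ := P.2 ⟨k, hkP⟩
    have h1 : k ^ p ^ n = 1 := by
      have := congrArg Subtype.val hn
      simpa using this
    exact h.K_p k hk n h1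
  have hgP : e g ∈ (P : Subgroup G') := by rw [hT] at hgT; exact hgT
  have hUH : U.map e.toMonoidHom ≤ H := by
    rw [Subgroup.map_le_iff_le_comap, ← hcore]; exact hUO
  have hVn : V.Normal := hUV.2.2.1
  have key := chief_kill (P : Subgroup G') H K h.H_pgroup P.2 h.K_comm (q ^ Nat.card G') hcop hKm
    h.P_max hKP hfa (U.map e.toMonoidHom) (V.map e.toMonoidHom) (isChiefFactor_map e hUV) hUH
    (e g) hgP
    (by
      rintro _ ⟨u, hu, rfl⟩
      have h1 := iter_map e.toMonoidHom g (p - 1) u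
      have h2 : (fun w : G' => e g * w * (e g)⁻¹ * w⁻¹)^[p - 1] (e u) =
          e ((fun w : Γ => g * w * g⁻¹ * w⁻¹)^[p - 1] u) := h1
      show (fun w : G' => e g * w * (e g)⁻¹ * w⁻¹)^[p - 1] (e u) ∈ V.map e.toMonoidHom
      rw [h2]
      exact ⟨_, hiter (iter_mem_iterCommutator U g (p - 1) u hu), rfl⟩)
  rcases key with h1 | h1
  · apply hgO
    rw [hcore]
    exact h1
  · apply hnot
    apply commutator_zpowers_le U V g
    intro u hu
    have h2 := h1 (e u) ⟨u, hu, rfl⟩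
    obtain ⟨v, hv, hve⟩ := h2
    have h3 : e v = e (g * u * g⁻¹ * u⁻¹) := by
      rw [map_mul, map_mul, map_mul, map_inv, map_inv]; exact hve
    rw [← e.injective h3]
    exact hv

end Cfsg.Agent.Lib.helper14
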