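import Mathlib

set_option autoImplicit false

namespace Cfsg.Agent.Lib.helper14

open Matrix

section monomial

variable {F : Type*} [Field F] {p : ℕ} [NeZero p]

/-- monomial matrix: row `i` has the entry `d i` in column `i + k` -/
def monM (d : Fin p → F) (k : Fin p) : Matrix (Fin p) (Fin p) F :=
  Matrix.of fun i j => if j = i + k then d i else 0

lemma monM_apply (d : Fin p → F) (k i j : Fin p) :
    monM d k i j = if j = i + k then d i else 0 := rfl

lemma monM_mul (d d' : Fin p → F) (k k' : Fin p) :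
    monM d k * monM d' k' = monM (fun i => d i * d' (i + k)) (k + k') := by
  ext i j
  rw [Matrix.mul_apply, Finset.sum_eq_single (i + k)]
  · simp [monM_apply, add_assoc]
  · intro b _ hb
    simp [monM_apply, hb]
  · simp

lemma monM_one : monM (fun _ => (1 : F)) (0 : Fin p) = 1 := by
  ext i j
  simp [monM_apply, Matrix.one_apply, eq_comm]

lemma monM_zero_eq_diagonal (d : Fin p → F) : monM d 0 = Matrix.diagonal d := by
  ext i j
  simp [monM_apply, Matrix.diagonal_apply, eq_comm]

lemma monM_inj {d d' : Fin p → F} {k k' : Fin p} (hd : ∀ i, d i ≠ 0)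
    (h : monM d k = monM d' k') : k = k' ∧ d = d' := by
  have hk : k = k' := by
    have := congrFun (congrFun h 0) (0 + k)
    simp only [monM_apply, if_true] at this
    by_contra hne
    rw [if_neg (by simpa using hne)] at this
    exact hd 0 this
  subst hk
  refine ⟨rfl, funext fun i => ?_⟩
  have := congrFun (congrFun h i) (i + k)
  simpa [monM_apply] using this

lemma monM_mul_inv (d : Fin p → F) (k : Fin p) (hd : ∀ i, d i ≠ 0) :
    monM d k * monM (fun i => (d (i - k))⁻¹) (-k) = 1 := by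
  rw [monM_mul, ← monM_one]
  congr 1
  · funext i
    simp [hd i]
  · simp

/-- the monomial unit -/
noncomputable def monU (d : Fin p → F) (k : Fin p) (hd : ∀ i, d i ≠ 0) : GL (Fin p) F :=
  ⟨monM d k, monM (fun i => (d (i - k))⁻¹) (-k), monM_mul_inv d k hd,
    _root_.mul_eq_one_comm.mp (monM_mul_inv d k hd)⟩

lemma monU_val (d : Fin p → F) (k : Fin p) (hd : ∀ i, d i ≠ 0) :
    ((monU d k hd : GL (Fin p) F) : Matrix (Fin p) (Fin p) F) = monM d k := rfl

variable (F p) in
/-- the monomial subgroup with `p`-th roots of unity as entries -/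
def monQ : Subgroup (GL (Fin p) F) where
  carrier := {g | ∃ (d : Fin p → F) (k : Fin p), (∀ i, d i ^ p = 1) ∧
    (g : Matrix (Fin p) (Fin p) F) = monM d k}
  mul_mem' := by
    rintro a b ⟨d, k, hd, ha⟩ ⟨d', k', hd', hb⟩
    refine ⟨fun i => d i * d' (i + k), k + k', fun i => by rw [mul_pow, hd, hd', one_mul], ?_⟩
    rw [Units.val_mul, ha, hb, monM_mul]
  one_mem' := ⟨fun _ => 1, 0, fun _ => one_pow _, by rw [Units.val_one, monM_one]⟩
  inv_mem' := by
    rintro a ⟨d, k, hd, ha⟩
    have hd0 : ∀ i, d i ≠ 0 := fun i h0 => by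
      have := hd i
      rw [h0, zero_pow (NeZero.ne p)] at this
      exact zero_ne_one this
    refine ⟨fun i => (d (i - k))⁻¹, -k, fun i => by rw [inv_pow, hd, inv_one], ?_⟩
    apply Units.inv_eq_of_mul_eq_one_right
    rw [ha]
    exact monM_mul_inv d k hd0

lemma mem_monQ {g : GL (Fin p) F} :
    g ∈ monQ F p ↔ ∃ (d : Fin p → F) (k : Fin p), (∀ i, d i ^ p = 1) ∧
      (g : Matrix (Fin p) (Fin p) F) = monM d k := Iff.rfl

lemma ne_zero_of_pow_eq_one {a : F} (h : a ^ p = 1) : a ≠ 0 := by
  intro h0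
  rw [h0, zero_pow (NeZero.ne p)] at h
  exact zero_ne_one h

lemma card_monQ {ζ : F} (hζ : IsPrimitiveRoot ζ p) : Nat.card (monQ F p) = p ^ (p + 1) := by
  classical
  have hp0 : 0 < p := Nat.pos_of_ne_zero (NeZero.ne p)
  let T := Polynomial.nthRootsFinset p (1 : F)
  have hT : ∀ a : F, a ∈ T ↔ a ^ p = 1 := fun a => Polynomial.mem_nthRootsFinset hp0 1
  have hTc : T.card = p := hζ.card_nthRootsFinset
  let Φ : (Fin p → T) × Fin p → monQ F p := fun x =>
    ⟨monU (fun i => (x.1 i : F)) x.2 (fun i => ne_zero_of_pow_eq_one ((hT _).mp (x.1 i).2)),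
      ⟨fun i => (x.1 i : F), x.2, fun i => (hT _).mp (x.1 i).2, rfl⟩⟩
  have hΦ : Function.Bijective Φ := by
    constructor
    · intro x y hxy
      have h1 : monM (fun i => (x.1 i : F)) x.2 = monM (fun i => (y.1 i : F)) y.2 := by
        have := congrArg (fun g : monQ F p => ((g : GL (Fin p) F) : Matrix (Fin p) (Fin p) F)) hxy
        exact this
      obtain ⟨h2, h3⟩ := monM_inj (fun i => ne_zero_of_pow_eq_one ((hT _).mp (x.1 i).2)) h1
      refine Prod.ext (funext fun i => Subtype.ext (congrFun h3 i)) h2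
    · rintro ⟨g, d, k, hd, hg⟩
      refine ⟨(fun i => ⟨d i, (hT _).mpr (hd i)⟩, k), ?_⟩
      apply Subtype.ext
      apply Units.ext
      exact hg.symm
  rw [← Nat.card_congr (Equiv.ofBijective Φ hΦ), Nat.card_prod, Nat.card_fun, Nat.card_fin,
    Nat.card_eq_fintype_card, Fintype.card_coe, hTc, pow_succ]

end monomial

section sylow

variable {F : Type*} [Field F] [Fintype F]

lemma exists_primitive_root_of_dvd (p : ℕ) [Fact p.Prime] (h1 : p ∣ Fintype.card F - 1) :
    ∃ ζ : F, IsPrimitiveRoot ζ p := by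
  classical
  obtain ⟨g, hg⟩ := IsCyclic.exists_ofOrder_eq_natCard (α := Fˣ)
  have hc : Nat.card Fˣ = Fintype.card F - 1 := by
    rw [Nat.card_eq_fintype_card, Fintype.card_units]
  rw [hc] at hg
  have hq1 : 1 < Fintype.card F := Fintype.one_lt_card
  obtain ⟨m, hm⟩ := h1
  have hm0 : m ≠ 0 := by
    rintro rfl
    omega
  refine ⟨((g ^ m : Fˣ) : F), ?_⟩
  rw [IsPrimitiveRoot.coe_units_iff, IsPrimitiveRoot.iff_orderOf,
    orderOf_pow_of_dvd hm0 (by rw [hg, hm]; exact dvd_mul_left m p), hg, hm,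
    Nat.mul_div_cancel _ (Nat.pos_of_ne_zero hm0)]

lemma factorization_card_GL (p : ℕ) [Fact p.Prime]
    (hp : p ≠ 2) (h1 : p ∣ Fintype.card F - 1) (h2 : ¬ p ^ 2 ∣ Fintype.card F - 1) :
    (Nat.card (GL (Fin p) F)).factorization p = p + 1 := by
  have hpp : p.Prime := Fact.out
  have hodd : Odd p := hpp.odd_of_ne_two hp
  set q := Fintype.card F with hq
  have hq1 : 1 < q := Fintype.one_lt_card
  have hq10 : q - 1 ≠ 0 := by omega
  have hpq : ¬ p ∣ q := by
    intro h
    have h3 : p ∣ q - (q - 1) := Nat.dvd_sub h h1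
    have h4 : q - (q - 1) = 1 := by omega
    rw [h4] at h3
    exact hpp.one_lt.ne' (Nat.dvd_one.mp h3)
  have hv : padicValNat p (q - 1) = 1 := by
    rw [← Nat.factorization_def _ hpp]
    have ha : 1 ≤ (q - 1).factorization p :=
      (hpp.pow_dvd_iff_le_factorization hq10).mp (by simpa using h1)
    have hb : ¬ 2 ≤ (q - 1).factorization p := fun h =>
      h2 ((hpp.pow_dvd_iff_le_factorization hq10).mpr h)
    omega
  have key : ∀ i : Fin p, (q ^ p - q ^ (i : ℕ)).factorization p = if (i : ℕ) = 0 then 2 else 1 := by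
    intro i
    have hi : (i : ℕ) < p := i.2
    have hn0 : p - (i : ℕ) ≠ 0 := by omega
    have hge : 1 < q ^ (p - (i : ℕ)) := Nat.one_lt_pow hn0 hq1
    have e : q ^ p - q ^ (i : ℕ) = q ^ (i : ℕ) * (q ^ (p - (i : ℕ)) - 1) := by
      rw [Nat.mul_sub, mul_one, ← pow_add, Nat.add_sub_cancel' hi.le]
    have hne2 : q ^ (p - (i : ℕ)) - 1 ≠ 0 := by omega
    rw [e, Nat.factorization_mul (pow_ne_zero _ (by omega)) hne2, Finsupp.add_apply,
      Nat.factorization_pow, Finsupp.smul_apply, Nat.factorization_eq_zero_of_not_dvd hpq,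
      smul_zero, zero_add, Nat.factorization_def _ hpp]
    have hlte := padicValNat.pow_sub_pow (p := p) (x := q) (y := 1) hodd hq1 h1 hpq hn0
    rw [one_pow] at hlte
    rw [hlte, hv]
    by_cases h0 : (i : ℕ) = 0
    · rw [if_pos h0, h0, Nat.sub_zero, padicValNat_self]
    · rw [if_neg h0, padicValNat.eq_zero_of_not_dvd]
      intro hd
      have := Nat.le_of_dvd (by omega) hd
      omega
  rw [Matrix.card_GL_field, Nat.factorization_prod, Finset.sum_apply']
  · rw [Finset.sum_congr rfl (fun i _ => key i),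
      Fin.sum_univ_eq_sum_range (fun i => if i = 0 then 2 else 1) p]
    obtain ⟨n, rfl⟩ : ∃ n, p = n + 1 := ⟨p - 1, by have := hpp.pos; omega⟩
    rw [Finset.sum_range_succ']
    simp
  · intro i _
    have hi : (i : ℕ) < p := i.2
    have : Fintype.card F ^ (i : ℕ) < Fintype.card F ^ p := Nat.pow_lt_pow_right hq1 hi
    exact (Nat.sub_pos_of_lt this).ne' 

end sylow

section conj

variable {G : Type*} [Group G] {p : ℕ} [Fact p.Prime]

/-- an element centralizing `x ∈ Q` but not normalizing `Q` gives another Sylow subgroup containing `x` -/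
lemma exists_other_sylow_of_commute (Q : Sylow p G) {x c : G} (hx : x ∈ Q) (hc : c * x = x * c)
    (hcN : c ∉ Subgroup.normalizer (Q : Set G)) : ∃ P : Sylow p G, P ≠ Q ∧ x ∈ P := by
  refine ⟨c • Q, fun h => hcN (Sylow.smul_eq_iff_mem_normalizer.mp h), ?_⟩
  have : x ∈ ((c • Q : Sylow p G) : Subgroup G) := by
    rw [Sylow.coe_subgroup_smul, Subgroup.mem_pointwise_smul_iff_inv_smul_mem]
    have e : (MulAut.conj c)⁻¹ • x = x := by
      rw [← map_inv, MulAut.smul_def, MulAut.conj_apply, inv_inv]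
      rw [mul_assoc, ← hc, inv_mul_cancel_left]
    rw [e]
    exact hx
  exact this

/-- a `p`-element outside a Sylow `p`-subgroup does not normalize it -/
lemma not_mem_normalizer_of_pow_eq_one (Q : Sylow p G) {c : G} {n : ℕ} (hc : c ^ (p ^ n) = 1)
    (hcQ : c ∉ Q) : c ∉ Subgroup.normalizer (Q : Set G) := by
  intro hN
  have hP : IsPGroup p (Subgroup.zpowers c) := by
    rintro ⟨g, hg⟩
    obtain ⟨m, rfl⟩ := Subgroup.mem_zpowers_iff.mp hg
    refine ⟨n, Subtype.ext ?_⟩
    simp only [Subgroup.coe_pow, Subgroup.coe_one]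
    rw [← zpow_natCast, ← _root_.zpow_mul, mul_comm, _root_.zpow_mul, zpow_natCast, hc, _root_.one_zpow]
  have h := hP.inf_normalizer_sylow Q
  have h1 : c ∈ Subgroup.zpowers c ⊓ (Q : Subgroup G) := by
    rw [← h]
    exact ⟨Subgroup.mem_zpowers c, hN⟩
  exact hcQ h1.2

end conj

section cases

variable {F : Type*} [Field F] {p : ℕ} [Fact p.Prime]

lemma monM_mul_apply (e : Fin p → F) (m : Fin p) (A : Matrix (Fin p) (Fin p) F) (a b : Fin p) :
    (monM e m * A) a b = e a * A (a + m) b := by
  rw [Matrix.mul_apply, Finset.sum_eq_single (a + m)]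
  · simp [monM_apply]
  · intro l _ hl
    simp [monM_apply, hl]
  · simp

lemma mul_monM_apply (A : Matrix (Fin p) (Fin p) F) (e : Fin p → F) (k : Fin p) (a b : Fin p) :
    (A * monM e k) a b = A a (b - k) * e (b - k) := by
  rw [Matrix.mul_apply, Finset.sum_eq_single (b - k)]
  · simp [monM_apply]
  · intro l _ hl
    have : b ≠ l + k := fun h => hl (by rw [h]; simp)
    simp [monM_apply, this]
  · simp

lemma idem_pow {A : Type*} [Ring A] [Algebra F A] {N : A} (hN : N * N = N) (a : F) (n : ℕ) :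
    (1 + a • N) ^ n = 1 + ((1 + a) ^ n - 1) • N := by
  induction n with
  | zero => simp
  | succ n ih =>
    rw [pow_succ, ih]
    simp only [add_mul, mul_add, one_mul, mul_one, smul_mul_assoc, mul_smul_comm, hN]
    module

lemma monM_pow (d : Fin p → F) (k : Fin p) (n : ℕ) :
    monM d k ^ n = monM (fun i => ∏ t ∈ Finset.range n, d (i + t • k)) (n • k) := by
  induction n with
  | zero => simp [monM_one]
  | succ n ih =>
    rw [pow_succ, ih, monM_mul]
    congr 1
    funext i
    rw [Finset.prod_range_succ]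

lemma addOrderOf_fin {k : Fin p} (hk : k ≠ 0) : addOrderOf k = p := by
  apply addOrderOf_eq_prime _ hk
  have := card_nsmul_eq_zero (G := Fin p) (x := k)
  rwa [Fintype.card_fin] at this

lemma nsmul_injOn_fin {k : Fin p} (hk : k ≠ 0) :
    Set.InjOn (fun t : ℕ => t • k) (Finset.range p : Set ℕ) := by
  have := nsmul_injOn_Iio_addOrderOf (x := k)
  rw [addOrderOf_fin hk] at this
  intro a ha b hb hab
  exact this (by simpa using ha) (by simpa using hb) hab

lemma prod_orbit {k : Fin p} (hk : k ≠ 0) (d : Fin p → F) (i : Fin p) :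
    ∏ t ∈ Finset.range p, d (i + t • k) = ∏ j, d j := by
  classical
  have hinj : Set.InjOn (fun t : ℕ => i + t • k) (Finset.range p : Set ℕ) := by
    intro a ha b hb hab
    exact nsmul_injOn_fin hk ha hb (add_left_cancel hab)
  rw [← Finset.prod_image (s := Finset.range p) (g := fun t : ℕ => i + t • k) (f := d) hinj]
  congr 1
  apply Finset.eq_univ_of_card
  rw [Finset.card_image_of_injOn hinj, Finset.card_range, Fintype.card_fin]

lemma monM_pow_p {k : Fin p} (hk : k ≠ 0) (d : Fin p → F) :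
    monM d k ^ p = (∏ j, d j) • (1 : Matrix (Fin p) (Fin p) F) := by
  rw [monM_pow]
  have h0 : p • k = 0 := by
    have := card_nsmul_eq_zero (G := Fin p) (x := k)
    rwa [Fintype.card_fin] at this
  rw [h0]
  ext i j
  simp [monM_apply, Matrix.one_apply, prod_orbit hk, eq_comm]

end cases

end Cfsg.Agent.Lib.helper14
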