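import Mathlib
import Cfsg.Agent.Lib.helper14.GLSyl

set_option autoImplicit false

namespace Cfsg.Agent.Lib.helper14

open Matrix

section cases2

variable {F : Type*} [Field F] {p : ℕ} [Fact p.Prime]

lemma glsyl_caseA {ζ : F} (hζ : IsPrimitiveRoot ζ p)
    (Q : Sylow p (GL (Fin p) F)) (hQ : (Q : Subgroup (GL (Fin p) F)) = monQ F p)
    {x : GL (Fin p) F} (hxQ : x ∈ Q) {d : Fin p → F}
    (hx : (x : Matrix (Fin p) (Fin p) F) = monM d 0) {i j : Fin p} (hij : i ≠ j)
    (hdij : d i = d j) : ∃ P : Sylow p (GL (Fin p) F), P ≠ Q ∧ x ∈ P := by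
  classical
  have hpp : p.Prime := Fact.out
  have hζ0 : ζ ≠ 0 := hζ.ne_zero hpp.ne_zero
  have hζ1 : ζ ≠ 1 := hζ.ne_one hpp.one_lt
  set N : Matrix (Fin p) (Fin p) F := Matrix.single i i (1 : F) - Matrix.single i j 1 with hNdef
  have hNii : N i i = 1 := by
    simp [hNdef, Matrix.single_apply, hij.symm]
  have hNij : N i j = -1 := by
    simp [hNdef, Matrix.single_apply, hij]
  have hN : N * N = N := by
    ext a b
    rw [Matrix.mul_apply]
    simp only [hNdef, Matrix.sub_apply, Matrix.single_apply]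
    rw [Finset.sum_eq_single i]
    · by_cases ha : i = a
      · subst ha
        simp [hij.symm]
      · simp [ha]
    · intro l _ hl
      simp [Ne.symm hl]
    · simp
  set C : Matrix (Fin p) (Fin p) F := 1 + (ζ - 1) • N with hCdef
  have hCp : C ^ p = 1 := by
    rw [hCdef, idem_pow hN]
    simp [hζ.pow_eq_one]
  let c : GL (Fin p) F := Units.ofPowEqOne C p hCp hpp.ne_zero
  have hcv : (c : Matrix (Fin p) (Fin p) F) = C := rfl
  have hcomm : c * x = x * c := by
    apply Units.ext
    rw [Units.val_mul, Units.val_mul, hcv, hx, monM_zero_eq_diagonal]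
    have hNd : N * Matrix.diagonal d = Matrix.diagonal d * N := by
      ext a b
      rw [Matrix.mul_diagonal, Matrix.diagonal_mul]
      simp only [hNdef, Matrix.sub_apply, Matrix.single_apply]
      by_cases ha : i = a
      · subst ha
        by_cases hb : i = b
        · subst hb
          ring
        · by_cases hb' : j = b
          · subst hb'
            simp [hij, hdij]
          · simp [hb, hb']
      · simp [ha]
    rw [hCdef, add_mul, mul_add, one_mul, mul_one, smul_mul_assoc, mul_smul_comm, hNd]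
  have hcp : c ^ (p ^ 1) = 1 := by
    apply Units.ext
    rw [pow_one, Units.val_pow_eq_pow_val, hcv, hCp, Units.val_one]
  have hcQ : c ∉ Q := by
    intro hc
    have hc' : c ∈ monQ F p := by rw [← hQ]; exact hc
    obtain ⟨d', k', hd', hcm⟩ := hc'
    rw [hcv] at hcm
    have e1 := congrFun (congrFun hcm i) i
    have e2 := congrFun (congrFun hcm i) j
    simp only [hCdef, Matrix.add_apply, Matrix.smul_apply, Matrix.one_apply, hNii, hNij,
      monM_apply, smul_eq_mul, if_true, if_neg hij] at e1 e2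
    have hk' : k' = 0 := by
      by_contra hk
      rw [if_neg (by simpa using hk)] at e1
      apply hζ0
      linear_combination e1
    subst hk'
    rw [if_neg (by simpa using hij.symm)] at e2
    apply hζ1
    linear_combination -e2
  exact exists_other_sylow_of_commute Q hxQ hcomm
    (not_mem_normalizer_of_pow_eq_one Q hcp hcQ)

lemma glsyl_caseB (hp3 : 3 ≤ p) {ζ : F} (hζ : IsPrimitiveRoot ζ p)
    (Q : Sylow p (GL (Fin p) F)) (hQ : (Q : Subgroup (GL (Fin p) F)) = monQ F p)
    {x : GL (Fin p) F} {d : Fin p → F} (hd : ∀ i, d i ^ p = 1)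
    (hx : (x : Matrix (Fin p) (Fin p) F) = monM d 0) (hinj : Function.Injective d) :
    ∃ P : Sylow p (GL (Fin p) F), P ≠ Q ∧ x ∈ P := by
  classical
  have hpp : p.Prime := Fact.out
  have hζ0 : ζ ≠ 0 := hζ.ne_zero hpp.ne_zero
  have hζ1 : ζ ≠ 1 := hζ.ne_one hpp.one_lt
  have hd0 : ∀ i, d i ≠ 0 := fun i => ne_zero_of_pow_eq_one (hd i)
  set V : Matrix (Fin p) (Fin p) F := Matrix.vandermonde d with hV
  have hdet : V.det ≠ 0 := Matrix.det_vandermonde_ne_zero_iff.mpr hinj
  let g : GL (Fin p) F := Matrix.GeneralLinearGroup.mkOfDetNeZero V hdet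
  have hgv : (g : Matrix (Fin p) (Fin p) F) = V := rfl
  let w : GL (Fin p) F := monU (fun _ => (1 : F)) (-1) (fun _ => one_ne_zero)
  have hwQ : w ∈ (Q : Subgroup (GL (Fin p) F)) := by
    rw [hQ]
    exact ⟨fun _ => 1, -1, fun _ => one_pow _, rfl⟩
  have h1v : ((1 : Fin p) : ℕ) = 1 := by
    rw [Fin.val_one']
    exact Nat.mod_eq_of_lt (by omega)
  have h0v : ((0 : Fin p) : ℕ) = 0 := Fin.val_zero p
  have hxg : x * g = g * w := by
    apply Units.ext
    rw [Units.val_mul, Units.val_mul, hgv, hx, monU_val]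
    ext a b
    rw [monM_mul_apply, mul_monM_apply, hV, Matrix.vandermonde_apply, Matrix.vandermonde_apply]
    simp only [mul_one, add_zero, sub_neg_eq_add]
    rw [Fin.val_add, h1v, ← pow_eq_pow_mod _ (hd a), pow_succ']
  refine ⟨g • Q, ?_, ?_⟩
  · intro hgQ
    have hgN := Sylow.smul_eq_iff_mem_normalizer.mp hgQ
    let e : Fin p → F := Function.update (fun _ => (1 : F)) 0 ζ
    have he0 : e 0 = ζ := Function.update_self _ _ _
    have hene : ∀ b : Fin p, b ≠ 0 → e b = 1 := fun b hb => Function.update_of_ne hb _ _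
    have he : ∀ i, e i ^ p = 1 := by
      intro i
      by_cases hi : i = 0
      · rw [hi, he0, hζ.pow_eq_one]
      · rw [hene i hi, one_pow]
    let y₀ : GL (Fin p) F := monU e 0 (fun i => ne_zero_of_pow_eq_one (he i))
    have hy₀ : y₀ ∈ (Q : Subgroup (GL (Fin p) F)) := by
      rw [hQ]
      exact ⟨e, 0, he, rfl⟩
    have hy := (Subgroup.mem_normalizer_iff.mp hgN y₀).mp hy₀
    rw [hQ] at hy
    obtain ⟨e', m, he', hym⟩ := hy
    have hmat : monM e' m * V = V * monM e 0 := by
      have hgy : g * y₀ * g⁻¹ * g = g * y₀ := by group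
      have h9 := congrArg Units.val hgy
      rw [Units.val_mul, hym, Units.val_mul, hgv] at h9
      exact h9
    have E := fun b => congrFun (congrFun hmat 0) b
    simp only [monM_mul_apply, mul_monM_apply, hV, Matrix.vandermonde_apply, sub_zero] at E
    have E0 := E 0
    have E1 := E ⟨1, by omega⟩
    have E2 := E ⟨2, by omega⟩
    have hb1 : (⟨1, by omega⟩ : Fin p) ≠ 0 := by
      intro h
      have := congrArg Fin.val h
      rw [h0v] at this
      exact one_ne_zero this
    have hb2 : (⟨2, by omega⟩ : Fin p) ≠ 0 := by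
      intro h
      have := congrArg Fin.val h
      rw [h0v] at this
      exact two_ne_zero this
    rw [h0v, pow_zero, pow_zero, mul_one, one_mul, he0] at E0
    rw [hene _ hb1, mul_one, pow_one, pow_one, E0] at E1
    rw [hene _ hb2, mul_one, E0] at E2
    have hdm : d (0 + m) ≠ 0 := hd0 _
    have h3 : ζ * d (0 + m) ^ 2 * (ζ - 1) = 0 := by
      rw [← E1] at E2
      linear_combination -E2
    rcases mul_eq_zero.mp h3 with h4 | h4
    · rcases mul_eq_zero.mp h4 with h5 | h5
      · exact hζ0 h5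
      · exact hdm (pow_eq_zero_iff (two_ne_zero) |>.mp h5)
    · exact hζ1 (sub_eq_zero.mp h4)
  · have : x ∈ ((g • Q : Sylow p (GL (Fin p) F)) : Subgroup (GL (Fin p) F)) := by
      rw [Sylow.coe_subgroup_smul, Subgroup.mem_pointwise_smul_iff_inv_smul_mem]
      have e : (MulAut.conj g)⁻¹ • x = w := by
        rw [← map_inv, MulAut.smul_def, MulAut.conj_apply, inv_inv, mul_assoc, hxg,
          inv_mul_cancel_left]
      rw [e]
      exact hwQ
    exact this

lemma glsyl_caseC2 (hp3 : 3 ≤ p) {ζ : F} (hζ : IsPrimitiveRoot ζ p)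
    (Q : Sylow p (GL (Fin p) F)) (hQ : (Q : Subgroup (GL (Fin p) F)) = monQ F p)
    {x : GL (Fin p) F} (hxQ : x ∈ Q) {d : Fin p → F} {k : Fin p} (hd : ∀ i, d i ^ p = 1)
    (hx : (x : Matrix (Fin p) (Fin p) F) = monM d k) (hk : k ≠ 0) (hc : ∏ j, d j ≠ 1) :
    ∃ P : Sylow p (GL (Fin p) F), P ≠ Q ∧ x ∈ P := by
  classical
  have hpp : p.Prime := Fact.out
  have hodd : Odd p := hpp.odd_of_ne_two (by omega)
  have hζ0 : ζ ≠ 0 := hζ.ne_zero hpp.ne_zero
  have hζ1 : ζ ≠ 1 := hζ.ne_one hpp.one_lt
  have hd0 : ∀ i, d i ≠ 0 := fun i => ne_zero_of_pow_eq_one (hd i)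
  have hXp : monM d k ^ p = (∏ j, d j) • (1 : Matrix (Fin p) (Fin p) F) := monM_pow_p hk d
  have hc₀p : (∏ j, d j) ^ p = 1 := by
    rw [← Finset.prod_pow]
    exact Finset.prod_eq_one (fun i _ => hd i)
  have h1c : 1 + ∏ j, d j ≠ 0 := by
    intro h
    have h5 : ∏ j, d j = -1 := by linear_combination h
    rw [h5, hodd.neg_one_pow] at hc₀p
    apply hc
    rw [h5, hc₀p]
  set C : Matrix (Fin p) (Fin p) F := 1 + monM d k with hC
  have hCS : C * ∑ i ∈ Finset.range p, (-monM d k) ^ i =
      (1 + ∏ j, d j) • (1 : Matrix (Fin p) (Fin p) F) := by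
    have := mul_neg_geom_sum (-monM d k) p
    rw [sub_neg_eq_add, hodd.neg_pow, hXp, sub_neg_eq_add] at this
    rw [hC, this, add_smul, one_smul]
  have hdet : C.det ≠ 0 := by
    intro h0
    have := congrArg Matrix.det hCS
    rw [Matrix.det_mul, h0, zero_mul, Matrix.det_smul, Matrix.det_one, mul_one] at this
    exact pow_ne_zero _ h1c this.symm
  let c : GL (Fin p) F := Matrix.GeneralLinearGroup.mkOfDetNeZero C hdet
  have hcv : (c : Matrix (Fin p) (Fin p) F) = C := rfl
  have hcomm : c * x = x * c := by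
    apply Units.ext
    rw [Units.val_mul, Units.val_mul, hcv, hx, hC, add_mul, mul_add, one_mul, mul_one]
  refine exists_other_sylow_of_commute Q hxQ hcomm ?_
  intro hN
  let e : Fin p → F := Function.update (fun _ => (1 : F)) 0 ζ
  have he0 : e 0 = ζ := Function.update_self _ _ _
  have hene : ∀ b : Fin p, b ≠ 0 → e b = 1 := fun b hb => Function.update_of_ne hb _ _
  have he : ∀ i, e i ^ p = 1 := by
    intro i
    by_cases hi : i = 0
    · rw [hi, he0, hζ.pow_eq_one]
    · rw [hene i hi, one_pow]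
  let y₀ : GL (Fin p) F := monU e 0 (fun i => ne_zero_of_pow_eq_one (he i))
  have hy₀ : y₀ ∈ (Q : Subgroup (GL (Fin p) F)) := by
    rw [hQ]
    exact ⟨e, 0, he, rfl⟩
  have hy := (Subgroup.mem_normalizer_iff.mp hN y₀).mp hy₀
  rw [hQ] at hy
  obtain ⟨e', m, he', hym⟩ := hy
  have hmat : monM e' m * C = C * monM e 0 := by
    have hgy : c * y₀ * c⁻¹ * c = c * y₀ := by group
    have h9 := congrArg Units.val hgy
    rw [Units.val_mul, hym, Units.val_mul, hcv] at h9
    exact h9
  have E := fun b => congrFun (congrFun hmat 0) b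
  simp only [monM_mul_apply, mul_monM_apply, hC, Matrix.add_apply, Matrix.one_apply, monM_apply,
    sub_zero, zero_add] at E
  have E0 := E 0
  have Ek := E k
  have hk' : ¬ (0 = k) := fun h => hk h.symm
  rw [he0] at E0
  rw [hene k hk] at Ek
  rw [if_pos rfl, if_neg hk', add_zero, one_mul] at E0
  rw [if_neg hk', if_pos rfl, zero_add, mul_one] at Ek
  by_cases hm : m = 0
  · subst hm
    rw [if_pos rfl, if_neg (by rw [zero_add]; exact hk'), add_zero, mul_one] at E0
    rw [if_neg hk', if_pos (zero_add k).symm, zero_add, E0] at Ek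
    apply hζ1
    exact mul_right_cancel₀ (hd0 0) (by rw [Ek, one_mul])
  · have hmk : m + k = 0 := by
      by_contra h
      rw [if_neg hm, if_neg (fun h' => h h'.symm), add_zero, mul_zero] at E0
      exact hζ0 E0.symm
    have hmk2 : m = k := by
      by_contra h
      rw [if_neg h, if_neg (fun h' => hm (by simpa using h')), add_zero, mul_zero] at Ek
      exact hd0 0 Ek.symm
    rw [hmk2] at hmk
    have h2 : 2 • k = 0 := by
      rw [two_nsmul]
      exact hmk
    have h3 := addOrderOf_dvd_of_nsmul_eq_zero h2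
    rw [addOrderOf_fin hk] at h3
    have := Nat.le_of_dvd (by norm_num) h3
    omega

lemma glsyl_caseC1 (hp3 : 3 ≤ p) {ζ : F} (hζ : IsPrimitiveRoot ζ p)
    (Q : Sylow p (GL (Fin p) F)) (hQ : (Q : Subgroup (GL (Fin p) F)) = monQ F p)
    {x : GL (Fin p) F} (hxQ : x ∈ Q) {d : Fin p → F} {k : Fin p} (hd : ∀ i, d i ^ p = 1)
    (hx : (x : Matrix (Fin p) (Fin p) F) = monM d k) (hk : k ≠ 0) (hc : ∏ j, d j = 1) :
    ∃ P : Sylow p (GL (Fin p) F), P ≠ Q ∧ x ∈ P := by
  classical
  have hpp : p.Prime := Fact.out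
  have hζ0 : ζ ≠ 0 := hζ.ne_zero hpp.ne_zero
  have hζ1 : ζ ≠ 1 := hζ.ne_one hpp.one_lt
  have hd0 : ∀ i, d i ≠ 0 := fun i => ne_zero_of_pow_eq_one (hd i)
  have hpF : (p : F) ≠ 0 := (hζ.neZero').ne
  have hXp : monM d k ^ p = 1 := by rw [monM_pow_p hk d, hc, one_smul]
  set s : Matrix (Fin p) (Fin p) F := ∑ i ∈ Finset.range p, monM d k ^ i with hs
  have hXs : monM d k * s = s := by
    have h1 : monM d k * s + 1 = s + 1 := by
      rw [hs, Finset.mul_sum]
      have : ∑ i ∈ Finset.range p, monM d k * monM d k ^ i =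
          ∑ i ∈ Finset.range p, monM d k ^ (i + 1) :=
        Finset.sum_congr rfl (fun i _ => (pow_succ' (monM d k) i).symm)
      rw [this]
      have h2 := Finset.sum_range_succ' (fun i => monM d k ^ i) p
      have h3 := Finset.sum_range_succ (fun i => monM d k ^ i) p
      rw [pow_zero] at h2
      rw [hXp] at h3
      rw [← h2, h3]
    exact add_right_cancel h1
  have hXis : ∀ i : ℕ, monM d k ^ i * s = s := by
    intro i
    induction i with
    | zero => rw [pow_zero, one_mul]
    | succ i ih => rw [pow_succ, mul_assoc, hXs, ih]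
  have hss : s * s = (p : F) • s := by
    have : s * s = ∑ i ∈ Finset.range p, monM d k ^ i * s := by
      conv_lhs => rw [hs]
      rw [Finset.sum_mul]
    rw [this, Finset.sum_congr rfl (fun i _ => hXis i), Finset.sum_const, Finset.card_range,
      Nat.cast_smul_eq_nsmul]
  have hcomm_s : s * monM d k = monM d k * s := by
    rw [hs, Finset.sum_mul, Finset.mul_sum]
    exact Finset.sum_congr rfl (fun i _ => by rw [← pow_succ, ← pow_succ'])
  set N : Matrix (Fin p) (Fin p) F := (p : F)⁻¹ • s with hN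
  have hNN : N * N = N := by
    rw [hN, smul_mul_smul_comm, hss, smul_smul]
    congr 1
    field_simp
  set C : Matrix (Fin p) (Fin p) F := 1 + (ζ - 1) • N with hC
  have hCp : C ^ p = 1 := by
    rw [hC, idem_pow hNN]
    simp [hζ.pow_eq_one]
  let c : GL (Fin p) F := Units.ofPowEqOne C p hCp hpp.ne_zero
  have hcv : (c : Matrix (Fin p) (Fin p) F) = C := rfl
  have hcomm : c * x = x * c := by
    apply Units.ext
    rw [Units.val_mul, Units.val_mul, hcv, hx, hC, hN]
    rw [add_mul, mul_add, one_mul, mul_one, smul_mul_assoc, smul_mul_assoc, mul_smul_comm,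
      mul_smul_comm, hcomm_s]
  have hcp : c ^ (p ^ 1) = 1 := by
    apply Units.ext
    rw [pow_one, Units.val_pow_eq_pow_val, hcv, hCp, Units.val_one]
  have hcQ : c ∉ Q := by
    intro hc'
    have hc'' : c ∈ monQ F p := by rw [← hQ]; exact hc'
    obtain ⟨e', m, he', hcm⟩ := hc''
    rw [hcv] at hcm
    have key : ∀ j : ℕ, j ∈ Finset.range p → j ≠ 0 → C 0 (j • k) ≠ 0 := by
      intro j hj hj0
      have hjk : j • k ≠ 0 := by
        intro h
        exact hj0 (nsmul_injOn_fin hk hj (Finset.mem_range.mpr hpp.pos)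
          (show j • k = 0 • k by rw [zero_nsmul]; exact h))
      have hsj : s 0 (j • k) = ∏ t ∈ Finset.range j, d (0 + t • k) := by
        rw [hs, Matrix.sum_apply, Finset.sum_eq_single j]
        · rw [monM_pow, monM_apply, if_pos (zero_add _).symm]
        · intro i hi hij
          rw [monM_pow, monM_apply, if_neg]
          intro h
          exact hij (nsmul_injOn_fin hk hi hj (show i • k = j • k by rw [h, zero_add]))
        · intro h
          exact absurd hj h
      rw [hC, hN, Matrix.add_apply, Matrix.smul_apply, Matrix.smul_apply, Matrix.one_apply,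
        if_neg (Ne.symm hjk), zero_add, hsj]
      simp only [smul_eq_mul]
      refine mul_ne_zero (sub_ne_zero.mpr hζ1) (mul_ne_zero (inv_ne_zero hpF) ?_)
      exact Finset.prod_ne_zero_iff.mpr (fun t _ => hd0 _)
    have k1 := key 1 (Finset.mem_range.mpr (by omega)) one_ne_zero
    have k2 := key 2 (Finset.mem_range.mpr (by omega)) two_ne_zero
    rw [hcm, monM_apply] at k1 k2
    have m1 : 1 • k = 0 + m := by
      by_contra h
      exact k1 (if_neg h)
    have m2 : 2 • k = 0 + m := by
      by_contra h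
      exact k2 (if_neg h)
    have := nsmul_injOn_fin hk (Finset.mem_range.mpr (by omega : 1 < p))
      (Finset.mem_range.mpr (by omega : 2 < p)) (show 1 • k = 2 • k from m1.trans m2.symm)
    omega
  exact exists_other_sylow_of_commute Q hxQ hcomm
    (not_mem_normalizer_of_pow_eq_one Q hcp hcQ)

end cases2

section main

variable {F : Type*} [Field F] [Fintype F]

theorem glsyl_main (p : ℕ) [Fact p.Prime]
    (hp : p ≠ 2) (h1 : p ∣ Fintype.card F - 1) (h2 : ¬ p ^ 2 ∣ Fintype.card F - 1) :
    ∃ Q : Sylow p (Matrix.GeneralLinearGroup (Fin p) F), ∀ x : Matrix.GeneralLinearGroup (Fin p) F,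
      (∃ k : ℕ, orderOf x = p ^ k) → ∃ P : Sylow p (Matrix.GeneralLinearGroup (Fin p) F), P ≠ Q ∧ x ∈ P := by
  classical
  have hpp : p.Prime := Fact.out
  have hp3 : 3 ≤ p := by
    have := hpp.two_le
    omega
  obtain ⟨ζ, hζ⟩ := exists_primitive_root_of_dvd (F := F) p h1
  let Q : Sylow p (GL (Fin p) F) := Sylow.ofCard (monQ F p)
    (by rw [card_monQ hζ, factorization_card_GL p hp h1 h2])
  have hQ : (Q : Subgroup (GL (Fin p) F)) = monQ F p := rfl
  refine ⟨Q, fun x ⟨n, hn⟩ => ?_⟩
  by_cases hxQ : x ∈ Q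
  · have hxQ' : x ∈ monQ F p := by rw [← hQ]; exact hxQ
    obtain ⟨d, k, hd, hx⟩ := hxQ'
    by_cases hk : k = 0
    · subst hk
      by_cases hinj : Function.Injective d
      · exact glsyl_caseB hp3 hζ Q hQ hd hx hinj
      · have : ∃ i j, d i = d j ∧ i ≠ j := by
          by_contra hcon
          apply hinj
          intro i j hij
          by_contra hne
          exact hcon ⟨i, j, hij, hne⟩
        obtain ⟨i, j, hdij, hij⟩ := this
        exact glsyl_caseA hζ Q hQ hxQ hx hij hdij
    · by_cases hc : ∏ j, d j = 1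
      · exact glsyl_caseC1 hp3 hζ Q hQ hxQ hd hx hk hc
      · exact glsyl_caseC2 hp3 hζ Q hQ hxQ hd hx hk hc
  · have hP : IsPGroup p (Subgroup.zpowers x) := by
      apply IsPGroup.of_card (n := n)
      rw [Nat.card_zpowers, hn]
    obtain ⟨P, hP'⟩ := hP.exists_le_sylow
    exact ⟨P, fun h => hxQ (h ▸ hP' (Subgroup.mem_zpowers x)), hP' (Subgroup.mem_zpowers x)⟩

end main

end Cfsg.Agent.Lib.helper14
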