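import Mathlib
import Cfsg.Prelude.Def_PLocal
import Cfsg.Prelude.Def_Transfer

set_option autoImplicit false
open Cfsg

namespace Cfsg.Agent.Lib.helper14

universe u

/-- The holomorph-type ambient group of a subgroup. -/
abbrev Hol {G : Type u} [Group G] (V : Subgroup G) : Type u :=
  ↥V ⋊[MonoidHom.id (MulAut ↥V)] MulAut ↥V

instance hol_finite {G : Type u} [Group G] [Finite G] (V : Subgroup G) : Finite (Hol V) :=
  Finite.of_equiv _ (SemidirectProduct.equivProd).symm

/-- The copy of `V` inside its holomorph. -/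
def holV {G : Type u} [Group G] (V : Subgroup G) : Subgroup (Hol V) :=
  (SemidirectProduct.inl : ↥V →* Hol V).range

/-- The conjugation map of `G` into the holomorph of a normal subgroup. -/
noncomputable def holHom {G : Type u} [Group G] (V : Subgroup G) [V.Normal] : G →* Hol V :=
  (SemidirectProduct.inr : MulAut ↥V →* Hol V).comp (MulAut.conjNormal : G →* MulAut ↥V)

theorem holV_normal {G : Type u} [Group G] (V : Subgroup G) : (holV V).Normal := by
  unfold holV
  rw [SemidirectProduct.range_inl_eq_ker_rightHom]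
  infer_instance

theorem holHom_conj {G : Type u} [Group G] (V : Subgroup G) [V.Normal] (g : G) (v : ↥V) :
    holHom V g * SemidirectProduct.inl v * (holHom V g)⁻¹ =
      SemidirectProduct.inl (⟨g * (v : G) * g⁻¹, (inferInstance : V.Normal).conj_mem _ v.2 g⟩ : ↥V) := by
  unfold holHom
  rw [MonoidHom.comp_apply, ← map_inv, ← SemidirectProduct.inl_aut]
  rfl

theorem holHom_ker {G : Type u} [Group G] (V : Subgroup G) [V.Normal] :
    (holHom V).ker = Subgroup.centralizer (V : Set G) := by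
  ext g
  rw [MonoidHom.mem_ker, Subgroup.mem_centralizer_iff]
  constructor
  · intro h v hv
    have h1 := holHom_conj V g ⟨v, hv⟩
    rw [h, one_mul, inv_one, mul_one] at h1
    have h2 := congrArg Subtype.val (SemidirectProduct.inl_injective h1)
    simp only at h2
    nth_rewrite 1 [h2]; group
  · intro h
    unfold holHom
    rw [MonoidHom.comp_apply]
    have : (MulAut.conjNormal g : MulAut ↥V) = 1 := by
      ext v
      rw [MulAut.conjNormal_apply, MulAut.one_apply, ← h v v.2]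
      group
    rw [this, map_one]

theorem holV_elemAb {G : Type u} [Group G] {p : ℕ} (V : Subgroup G)
    (hV : IsElementaryAbelian p V) : IsElementaryAbelian p (holV V) := by
  refine ⟨⟨⟨?_⟩⟩, ?_⟩
  · rintro ⟨_, ⟨a, rfl⟩⟩ ⟨_, ⟨b, rfl⟩⟩
    apply Subtype.ext
    show SemidirectProduct.inl a * SemidirectProduct.inl b =
      SemidirectProduct.inl b * SemidirectProduct.inl a
    rw [← map_mul, ← map_mul]
    congr 1
    exact hV.1.is_comm.comm a b
  · rintro _ ⟨a, rfl⟩
    rw [← map_pow]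
    have : a ^ p = 1 := Subtype.ext (by simpa using hV.2 a a.2)
    rw [this, map_one]

theorem hol_faithful {G : Type u} [Group G] (V : Subgroup G) [V.Normal] (X : Subgroup G) :
    X.map (holHom V) ⊓ Subgroup.centralizer (holV V : Set (Hol V)) = ⊥ := by
  rw [eq_bot_iff]
  rintro _ ⟨⟨g, hg, rfl⟩, hc⟩
  rw [Subgroup.mem_bot, ← MonoidHom.mem_ker, holHom_ker, Subgroup.mem_centralizer_iff]
  intro v hv
  have h1 := holHom_conj V g ⟨v, hv⟩
  have h2 := hc (SemidirectProduct.inl ⟨v, hv⟩) ⟨_, rfl⟩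
  rw [← h2, mul_inv_cancel_right] at h1
  have h3 := congrArg Subtype.val (SemidirectProduct.inl_injective h1)
  simp only at h3
  nth_rewrite 1 [h3]; group

theorem hol_mem_cent {G : Type u} [Group G] (V : Subgroup G) [V.Normal] (B : Subgroup G)
    (v : ↥V) :
    (SemidirectProduct.inl v : Hol V) ∈
        Subgroup.centralizer ((B.map (holHom V) : Subgroup (Hol V)) : Set (Hol V)) ↔
      (v : G) ∈ Subgroup.centralizer (B : Set G) := by
  rw [Subgroup.mem_centralizer_iff, Subgroup.mem_centralizer_iff]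
  constructor
  · intro h b hb
    have h1 := holHom_conj V b v
    have h2 := h (holHom V b) (Subgroup.mem_map_of_mem _ hb)
    rw [h2, mul_inv_cancel_right] at h1
    have h3 := congrArg Subtype.val (SemidirectProduct.inl_injective h1)
    simp only at h3
    nth_rewrite 2 [h3]; group
  · rintro h _ ⟨b, hb, rfl⟩
    have h1 := holHom_conj V b v
    have h2 : (⟨b * (v : G) * b⁻¹, (inferInstance : V.Normal).conj_mem _ v.2 b⟩ : ↥V) = v :=
      Subtype.ext (by
        show b * (v : G) * b⁻¹ = v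
        rw [h b hb]; group)
    rw [h2] at h1
    rw [eq_mul_inv_iff_mul_eq.mp h1.symm]

theorem hol_cent_eq {G : Type u} [Group G] (V : Subgroup G) [V.Normal] (B : Subgroup G) :
    holV V ⊓ Subgroup.centralizer ((B.map (holHom V) : Subgroup (Hol V)) : Set (Hol V)) =
      ((V ⊓ Subgroup.centralizer (B : Set G)).subgroupOf V).map
        (SemidirectProduct.inl : ↥V →* Hol V) := by
  ext x
  constructor
  · rintro ⟨⟨v, rfl⟩, hx⟩
    refine Subgroup.mem_map.mpr ⟨v, ?_, rfl⟩
    rw [Subgroup.mem_subgroupOf]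
    exact ⟨v.2, (hol_mem_cent V B v).mp hx⟩
  · intro hx
    obtain ⟨v, hv, rfl⟩ := Subgroup.mem_map.mp hx
    rw [Subgroup.mem_subgroupOf] at hv
    exact ⟨⟨v, rfl⟩, (hol_mem_cent V B v).mpr hv.2⟩

theorem hol_cent_card {G : Type u} [Group G] (V : Subgroup G) [V.Normal] (B : Subgroup G) :
    Nat.card ↥(holV V ⊓
        Subgroup.centralizer ((B.map (holHom V) : Subgroup (Hol V)) : Set (Hol V))) =
      Nat.card ↥(V ⊓ Subgroup.centralizer (B : Set G)) := by
  rw [hol_cent_eq, Subgroup.card_map_of_injective SemidirectProduct.inl_injective]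
  exact Nat.card_congr (Subgroup.subgroupOfEquivOfLe inf_le_left).toEquiv

theorem card_inf_ker_mul_card_map {G G' : Type*} [Group G] [Group G'] (f : G →* G')
    (K : Subgroup G) :
    Nat.card ↥(f.ker ⊓ K) * Nat.card ↥(K.map f) = Nat.card ↥K := by
  rw [← Subgroup.relIndex_ker, ← Subgroup.inf_relIndex_right, ← Subgroup.relIndex_bot_left,
    ← Subgroup.relIndex_bot_left, Subgroup.relIndex_mul_relIndex _ _ _ bot_le inf_le_right]

theorem hol_bestOffender {G : Type u} [Group G] [Finite G] {p : ℕ} (V : Subgroup G)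
    [V.Normal] (A : Subgroup G) (hA : IsBestOffenderOn p V A) :
    IsBestOffenderOn p (holV V) (A.map (holHom V)) := by
  obtain ⟨h1, h2, h3⟩ := hA
  refine ⟨?_, ?_, ?_⟩
  · intro 𝔅 h𝔅
    obtain ⟨B, hB⟩ : ∃ B : Subgroup G, B = A ⊓ 𝔅.comap (holHom V) := ⟨_, rfl⟩
    have hBA : B ≤ A := hB ▸ inf_le_left
    have hBmap : B.map (holHom V) = 𝔅 := by
      apply le_antisymm
      · rintro _ ⟨x, hx, rfl⟩
        rw [hB] at hx
        exact hx.2
      · intro y hy
        obtain ⟨a, ha, rfl⟩ := h𝔅 hy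
        exact Subgroup.mem_map_of_mem _ (hB ▸ ⟨ha, hy⟩)
    have hker : (holHom V).ker ⊓ B = (holHom V).ker ⊓ A := by
      apply le_antisymm (inf_le_inf_left _ hBA)
      rintro x ⟨hx1, hx2⟩
      refine ⟨hx1, hB ▸ ⟨hx2, ?_⟩⟩
      show holHom V x ∈ 𝔅
      rw [MonoidHom.mem_ker.mp hx1]
      exact one_mem _
    have e1 := card_inf_ker_mul_card_map (holHom V) B
    have e2 := card_inf_ker_mul_card_map (holHom V) A
    rw [hker, hBmap] at e1
    have e3 := hol_cent_card V B
    rw [hBmap] at e3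
    have e4 := hol_cent_card V A
    have h5 := h1 B hBA
    rw [e3, e4]
    rw [← e1, ← e2, mul_assoc, mul_assoc] at h5
    exact Nat.le_of_mul_le_mul_left h5 Nat.card_pos
  · rw [← Subgroup.map_commutator]
    rintro _ ⟨x, hx, rfl⟩
    have hx' : x ∈ (holHom V).ker := by rw [holHom_ker]; exact h2 hx
    rw [MonoidHom.mem_ker.mp hx']
    exact one_mem _
  · rintro _ ⟨a, ha, rfl⟩
    have hx' : a ^ p ∈ (holHom V).ker := by rw [holHom_ker]; exact h3 a ha
    rw [← map_pow, MonoidHom.mem_ker.mp hx']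
    exact one_mem _

theorem exists_min_offender {G : Type u} [Group G] [Finite G] {p : ℕ} (V A₀ : Subgroup G)
    (hA₀ : IsBestOffenderOn p V A₀) (hA₀V : ⁅V, A₀⁆ ≠ ⊥) :
    ∃ A : Subgroup G, A ≤ A₀ ∧ IsBestOffenderOn p V A ∧ ⁅V, A⁆ ≠ ⊥ ∧
      ∀ B : Subgroup G, B ≤ A → IsBestOffenderOn p V B → ⁅V, B⁆ ≠ ⊥ → B = A := by
  classical
  have hfin : Set.Finite {B : Subgroup G | B ≤ A₀ ∧ IsBestOffenderOn p V B ∧ ⁅V, B⁆ ≠ ⊥} :=
    Set.toFinite _
  obtain ⟨A, hA⟩ := hfin.exists_minimal ⟨A₀, le_rfl, hA₀, hA₀V⟩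
  refine ⟨A, hA.1.1, hA.1.2.1, hA.1.2.2, fun B hBA hB hBV => ?_⟩
  exact le_antisymm hBA (hA.2 ⟨hBA.trans hA.1.1, hB, hBV⟩ hBA)

end Cfsg.Agent.Lib.helper14
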