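import Cfsg.Agent.Lib.helper14.TransferEval
import Cfsg.Agent.Lib.helper14.YMinimal
import Cfsg.Agent.Lib.helper1.FrobChar

set_option autoImplicit false
set_option linter.unusedSectionVars false
set_option linter.unusedVariables false

namespace Cfsg.Agent.Lib.helper14

open Cfsg
open scoped commutatorElement Pointwise

universe u

section isoCentral
variable {G : Type u} [Group G] [Finite G]

/-- a subgroup all of whose Sylow subgroups lie in `Z` lies in `Z`. -/
theorem le_of_forall_sylIn_le (D Z : Subgroup G)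
    (h : ∀ r : ℕ, r.Prime → ∀ R : Subgroup G, SylIn r D R → R ≤ Z) : D ≤ Z := by
  have hdvd : Nat.card D ∣ Nat.card ↥(D ⊓ Z) := by
    rw [← Nat.factorization_prime_le_iff_dvd Nat.card_pos.ne' Nat.card_pos.ne']
    intro r hr
    haveI : Fact r.Prime := ⟨hr⟩
    obtain ⟨R₁⟩ : Nonempty (Sylow r D) := inferInstance
    have hX := sylIn_of_sylow_subtype D R₁
    have hle : (R₁ : Subgroup D).map D.subtype ≤ D ⊓ Z := le_inf hX.1 (h r hr _ hX)
    have h2 := Subgroup.card_dvd_of_le hle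
    rw [hX.2] at h2
    exact (hr.pow_dvd_iff_le_factorization Nat.card_pos.ne').mp h2
  have := Subgroup.eq_of_le_of_card_ge (inf_le_left : D ⊓ Z ≤ D)
    (Nat.le_of_dvd Nat.card_pos hdvd)
  rw [← this]; exact inf_le_right

theorem exists_sylIn_ge {p : ℕ} [Fact p.Prime] (K A : Subgroup G) (hA : IsPGroup p A)
    (hAK : A ≤ K) : ∃ T, SylIn p K T ∧ A ≤ T := by
  obtain ⟨R₁⟩ : Nonempty (Sylow p K) := inferInstance
  have hX := sylIn_of_sylow_subtype K R₁
  obtain ⟨k, hk, hle⟩ := hX.exists_conj_le A hAK hA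
  exact ⟨_, hX.map_conj k (Subgroup.le_normalizer hk), hle⟩

theorem SylIn.map_conj' {p : ℕ} [Fact p.Prime] {K T : Subgroup G} (h : SylIn p K T) (g : G) :
    SylIn p (K.map (MulAut.conj g).toMonoidHom) (T.map (MulAut.conj g).toMonoidHom) := by
  refine ⟨Subgroup.map_mono h.1, ?_⟩
  rw [card_map_conj, card_map_conj]; exact h.2

theorem coprime_card_of_forall_pow_eq_one {p : ℕ} [Fact p.Prime] (W : Subgroup G) (u : ℕ)
    (hu : u.Coprime p) (h : ∀ w ∈ W, w ^ u = 1) : (Nat.card W).Coprime p := by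
  have hp : p.Prime := Fact.out
  rw [Nat.coprime_comm, hp.coprime_iff_not_dvd]
  intro hdvd
  obtain ⟨w, hw⟩ := exists_prime_orderOf_dvd_card' p hdvd
  have h1 : (w : G) ^ u = 1 := h w w.2
  have h2 : orderOf (w : G) ∣ u := orderOf_dvd_of_pow_eq_one h1
  rw [Subgroup.orderOf_coe, hw] at h2
  exact (hp.coprime_iff_not_dvd.mp hu.symm) h2

/-- `x` centralizes a group `K` that is `p'` modulo a central subgroup centralized by `x`, provided
`x` centralizes all its invariant `p'`-subgroups. -/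
theorem centralizes_of_central_coprime {p : ℕ} [Fact p.Prime] (K Z₀ : Subgroup G) (x : G)
    (hZK : Z₀ ≤ K) (hZc : K ≤ Subgroup.centralizer (Z₀ : Set G))
    (hcop : (Z₀.relIndex K).Coprime p)
    (hxK : ∀ k ∈ K, x * k * x⁻¹ ∈ K) (hxZ : ∀ z ∈ Z₀, x * z = z * x)
    (hb : ∀ H : Subgroup G, (Nat.card H).Coprime p → (∀ h ∈ H, x * h * x⁻¹ ∈ H) →
      ∀ h ∈ H, x * h = h * x) :
    ∀ k ∈ K, x * k = k * x := by
  have hp : p.Prime := Fact.out
  -- index of the centre
  have hZle : Z₀.subgroupOf K ≤ Subgroup.center K := by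
    intro z hz
    rw [Subgroup.mem_center_iff]
    intro g
    have := hZc g.2 (z : G) (Subgroup.mem_subgroupOf.1 hz)
    apply Subtype.ext
    simpa using this.symm
  set i : ℕ := (Subgroup.center K).index with hi
  have hicop : i.Coprime p :=
    Nat.Coprime.coprime_dvd_left (Subgroup.index_dvd_of_le hZle) hcop
  obtain ⟨e, b', hb', hn⟩ := Nat.exists_eq_pow_mul_and_not_dvd (n := Nat.card K)
    Nat.card_pos.ne' p hp.ne_one
  have hb'cop : b'.Coprime p := (hp.coprime_iff_not_dvd.mpr hb').symm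
  have hcomm : ∀ a b : Subgroup.center K, Commute a b := fun a b =>
    Subtype.ext (Subgroup.mem_center_iff.1 b.2 (a : K))
  let ψ : K →* Subgroup.center K :=
    { toFun := fun k => (MonoidHom.transferCenterPow K k) ^ b'
      map_one' := by simp
      map_mul' := fun a b => by rw [map_mul, (hcomm _ _).mul_pow] }
  have hψ : ∀ k : K, ψ k = 1 ↔ ((k : G) ^ i) ^ b' = 1 := by
    intro k
    have h1 : ((ψ k : Subgroup.center K) : K) = (k ^ i) ^ b' := by
      show ((MonoidHom.transferCenterPow K k) ^ b' : Subgroup.center K).1 = _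
      rw [Subgroup.coe_pow, MonoidHom.transferCenterPow_apply]
    constructor
    · intro h
      have h2 : ((ψ k : Subgroup.center K) : K) = 1 := by rw [h]; rfl
      rw [h1] at h2
      have := congrArg Subtype.val h2
      simpa using this
    · intro h
      apply Subtype.ext
      rw [h1]
      apply Subtype.ext
      simpa using h
  set W : Subgroup G := (ψ.ker).map K.subtype with hW
  have hWmem : ∀ w : G, w ∈ W ↔ w ∈ K ∧ (w ^ i) ^ b' = 1 := by
    intro w
    constructor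
    · rintro ⟨k, hk, rfl⟩
      exact ⟨k.2, (hψ k).1 (MonoidHom.mem_ker.1 hk)⟩
    · rintro ⟨hwK, hw⟩
      exact ⟨⟨w, hwK⟩, MonoidHom.mem_ker.2 ((hψ ⟨w, hwK⟩).2 hw), rfl⟩
  have hWcop : (Nat.card W).Coprime p := by
    apply coprime_card_of_forall_pow_eq_one W (i * b') (Nat.Coprime.mul_left hicop hb'cop)
    intro w hw
    rw [pow_mul]; exact ((hWmem w).1 hw).2
  have hWx : ∀ w ∈ W, x * w * x⁻¹ ∈ W := by
    intro w hw
    obtain ⟨hwK, hw1⟩ := (hWmem w).1 hw
    refine (hWmem _).2 ⟨hxK w hwK, ?_⟩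
    rw [conj_pow, conj_pow, hw1]; simp
  have hWc := hb W hWcop hWx
  intro k hk
  -- p'-part
  have hy : x * k ^ (p ^ e) = k ^ (p ^ e) * x := by
    apply hWc
    refine (hWmem _).2 ⟨K.pow_mem hk _, ?_⟩
    have h3 : ((k ^ (p ^ e)) ^ i) ^ b' = (k ^ Nat.card K) ^ i := by
      rw [← pow_mul, ← pow_mul, ← pow_mul, hn]; congr 1; ring
    rw [h3]
    have : (⟨k, hk⟩ : K) ^ Nat.card K = 1 := pow_card_eq_one'
    have h2 := congrArg Subtype.val this
    simp only [Subgroup.coe_pow, Subgroup.coe_one] at h2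
    rw [h2, one_pow]
  -- p-part
  have hz : x * k ^ b' = k ^ b' * x := by
    apply hxZ
    haveI : (Z₀.subgroupOf K).Normal := by
      constructor
      intro n hn g
      have := hZle hn
      rw [Subgroup.mem_center_iff] at this
      rw [this g, mul_inv_cancel_right]
      exact hn
    have h1 := Subgroup.pow_index_mem (Z₀.subgroupOf K) (⟨k ^ b', K.pow_mem hk _⟩ : K)
    rw [Subgroup.mem_subgroupOf] at h1
    simp only [Subgroup.coe_pow] at h1
    have hord : orderOf (k ^ b') ∣ p ^ e := by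
      apply orderOf_dvd_of_pow_eq_one
      rw [← pow_mul, mul_comm, ← hn]
      have : (⟨k, hk⟩ : K) ^ Nat.card K = 1 := pow_card_eq_one'
      have h2 := congrArg Subtype.val this
      simp only [Subgroup.coe_pow, Subgroup.coe_one] at h2
      exact h2
    have hc : ((Z₀.subgroupOf K).index).Coprime (orderOf (k ^ b')) :=
      Nat.Coprime.coprime_dvd_right hord (Nat.Coprime.pow_right e hcop)
    obtain ⟨m, hm⟩ := exists_pow_eq_self_of_coprime hc
    rw [← hm]
    exact Z₀.pow_mem h1 m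
  have hcop2 : (p ^ e).Coprime b' := (Nat.Coprime.pow_right e hb'cop).symm
  obtain ⟨a, b, hab⟩ := Nat.isCoprime_iff_coprime.mpr hcop2
  have hk2 : k = (k ^ (p ^ e)) ^ a * (k ^ b') ^ b := by
    rw [← zpow_natCast, ← zpow_natCast, ← zpow_mul, ← zpow_mul, ← zpow_add]
    have : ((p ^ e : ℕ) : ℤ) * a + (b' : ℤ) * b = 1 := by
      rw [← hab]; ring
    rw [this, zpow_one]
  have hc1 : Commute x ((k ^ (p ^ e)) ^ a) := Commute.zpow_right hy a
  have hc2 : Commute x ((k ^ b') ^ b) := Commute.zpow_right hz b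
  rw [hk2]
  exact (hc1.mul_right hc2)

end isoCentral

section isoMain
variable {G : Type u} [Group G] [Finite G] {p : ℕ} [Fact p.Prime]

theorem iso_conj_eq (S : Sylow p G) (x : G) (hx : x ∈ S)
    (hU : ∀ g : G, g⁻¹ * x * g ∈ S → g⁻¹ * x * g = x) (P : Subgroup G) (hP : IsPGroup p P)
    (hxP : x ∈ P) (g : G) (hg : g⁻¹ * x * g ∈ P) : g⁻¹ * x * g = x := by
  obtain ⟨u, hu⟩ := exists_le_sylow_conj S P hP
  have h1 : u⁻¹ * x * u ∈ (S : Subgroup G) := (mem_map_conj _ u x).1 (hu hxP)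
  have h2 : (g * u)⁻¹ * x * (g * u) ∈ (S : Subgroup G) := by
    have := (mem_map_conj _ u _).1 (hu hg)
    have h3 : (g * u)⁻¹ * x * (g * u) = u⁻¹ * (g⁻¹ * x * g) * u := by group
    rw [h3]; exact this
  have e1 := hU u h1
  have e2 := hU (g * u) h2
  have h3 : g⁻¹ * x * g = u * ((g * u)⁻¹ * x * (g * u)) * u⁻¹ := by group
  rw [h3, e2]
  have : u * x * u⁻¹ = u * (u⁻¹ * x * u) * u⁻¹ := by rw [e1]
  rw [this]; group

theorem iso_comm_conj (S : Sylow p G) (x : G) (hx : x ∈ S)
    (hU : ∀ g : G, g⁻¹ * x * g ∈ S → g⁻¹ * x * g = x) (g : G)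
    (hc : x * (g⁻¹ * x * g) = (g⁻¹ * x * g) * x) : g⁻¹ * x * g = x := by
  have h1 : IsPGroup p (Subgroup.zpowers x) :=
    IsPGroup.to_le S.isPGroup' (Subgroup.zpowers_le.2 hx)
  have h2 : IsPGroup p (Subgroup.zpowers (g⁻¹ * x * g)) := by
    have : Subgroup.zpowers (g⁻¹ * x * g) ≤
        (Subgroup.zpowers x).map (MulAut.conj g⁻¹).toMonoidHom := by
      rw [Subgroup.zpowers_le]
      exact ⟨x, Subgroup.mem_zpowers x, by simp⟩
    exact (h1.map _).to_le this
  have h3 : Subgroup.zpowers x ≤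
      Subgroup.normalizer ((Subgroup.zpowers (g⁻¹ * x * g) : Subgroup G) : Set G) := by
    rw [Subgroup.zpowers_le]
    apply Subgroup.centralizer_le_normalizer
    rw [Subgroup.mem_centralizer_iff]
    intro y hy
    obtain ⟨n, rfl⟩ := Subgroup.mem_zpowers_iff.1 hy
    exact (Commute.zpow_left (show Commute (g⁻¹ * x * g) x from hc.symm) n).eq
  have hP := IsPGroup.to_sup_of_normal_right' h1 h2 h3
  exact iso_conj_eq S x hx hU _ hP (Subgroup.mem_sup_left (Subgroup.mem_zpowers x)) g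
    (Subgroup.mem_sup_right (Subgroup.mem_zpowers _))

theorem iso_central_aux (S : Sylow p G) (x : G) (hx : x ∈ S)
    (hU : ∀ g : G, g⁻¹ * x * g ∈ S → g⁻¹ * x * g = x)
    (hb : ∀ H : Subgroup G, (Nat.card H).Coprime p → (∀ h ∈ H, x * h * x⁻¹ ∈ H) →
      ∀ h ∈ H, x * h = h * x) :
    ∀ n : ℕ, ∀ H : Subgroup G, Nat.card H = n → x ∈ H → ∀ h ∈ H, x * h = h * x := by
  intro n
  induction n using Nat.strong_induction_on with
  | _ n ih =>
  intro H hn hxH
  by_contra hcon
  push Not at hcon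
  set C : Subgroup G := Subgroup.centralizer ({x} : Set G) with hC
  have hCmem : ∀ g : G, g ∈ C ↔ x * g = g * x := by
    intro g; rw [hC, Subgroup.mem_centralizer_iff]; simp
  set M : Subgroup G := H ⊓ C with hM
  have hMH : M ≤ H := inf_le_left
  have hxM : x ∈ M := ⟨hxH, (hCmem x).2 rfl⟩
  have hMne : M ≠ H := by
    intro h
    obtain ⟨h0, hh0, hh1⟩ := hcon
    apply hh1
    have : h0 ∈ M := by rw [h]; exact hh0
    exact (hCmem h0).1 this.2
  have h3 : ∀ K : Subgroup G, K ≤ H → K ≠ H → x ∈ K → K ≤ M := by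
    intro K hKH hKne hxK
    have hlt : Nat.card K < Nat.card H := by
      by_contra hle
      push Not at hle
      exact hKne (Subgroup.eq_of_le_of_card_ge hKH hle)
    intro k hk
    exact ⟨hKH hk, (hCmem k).2 (ih _ (hn ▸ hlt) K rfl hxK k hk)⟩
  have h4 : ∀ g ∈ H, g ∉ M → g⁻¹ * x * g ∉ M := by
    intro g hgH hgM hmem
    have hc : x * (g⁻¹ * x * g) = (g⁻¹ * x * g) * x := (hCmem _).1 hmem.2
    have := iso_comm_conj S x hx hU g hc
    apply hgM
    refine ⟨hgH, (hCmem g).2 ?_⟩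
    calc x * g = g * (g⁻¹ * x * g) := by group
      _ = g * x := by rw [this]
  obtain ⟨g₀, hg₀H, hg₀M⟩ : ∃ g ∈ H, g ∉ M := by
    by_contra hno
    push Not at hno
    exact hMne (le_antisymm hMH (fun g hg => hno g hg))
  have h5 : ∀ N : Subgroup G, N ≤ M → H ≤ Subgroup.normalizer (N : Set G) →
      H ≤ Subgroup.centralizer (N : Set G) := by
    intro N hNM hHN
    by_contra hnot
    have hx2 : x ∈ H ⊓ Subgroup.centralizer (N : Set G) := by
      refine Subgroup.mem_inf.2 ⟨hxH, ?_⟩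
      rw [Subgroup.mem_centralizer_iff]
      intro n hn
      exact ((hCmem n).1 (hNM hn).2).symm
    have hle := h3 (H ⊓ Subgroup.centralizer (N : Set G)) inf_le_left
      (fun h => hnot (inf_eq_left.1 h)) hx2
    apply h4 g₀ hg₀H hg₀M
    apply hle
    refine Subgroup.mem_inf.2 ⟨H.mul_mem (H.mul_mem (H.inv_mem hg₀H) hxH) hg₀H, ?_⟩
    rw [Subgroup.mem_centralizer_iff]
    intro n hn
    have h6 : g₀ * n * g₀⁻¹ ∈ N := ((Subgroup.mem_normalizer_iff.1 (hHN hg₀H)) n).1 hn
    have h7 : x * (g₀ * n * g₀⁻¹) = (g₀ * n * g₀⁻¹) * x := (hCmem _).1 (hNM h6).2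
    calc n * (g₀⁻¹ * x * g₀) = g₀⁻¹ * ((g₀ * n * g₀⁻¹) * x) * g₀ := by group
      _ = g₀⁻¹ * (x * (g₀ * n * g₀⁻¹)) * g₀ := by rw [h7]
      _ = g₀⁻¹ * x * g₀ * n := by group
  set Z : Subgroup G := H ⊓ Subgroup.centralizer (H : Set G) with hZ
  have hZM : Z ≤ M := by
    intro z hz
    refine ⟨hz.1, (hCmem z).2 ?_⟩
    exact (Subgroup.mem_centralizer_iff.1 hz.2) x hxH
  have h6 : ∀ R : Subgroup G, R ≤ M → ¬ R ≤ Z →
      H ⊓ Subgroup.normalizer (R : Set G) ≤ M := by
    intro R hRM hRZ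
    apply h3 _ inf_le_left
    · intro h
      apply hRZ
      have hHN : H ≤ Subgroup.normalizer (R : Set G) := inf_eq_left.1 h
      have hHC := h5 R hRM hHN
      intro r hr
      refine Subgroup.mem_inf.2 ⟨hMH (hRM hr), ?_⟩
      rw [Subgroup.mem_centralizer_iff]
      intro k hk
      exact ((Subgroup.mem_centralizer_iff.1 (hHC hk)) r hr).symm
    · refine Subgroup.mem_inf.2 ⟨hxH, ?_⟩
      apply Subgroup.centralizer_le_normalizer
      rw [Subgroup.mem_centralizer_iff]
      intro r hr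
      exact ((hCmem r).1 (hRM hr).2).symm
  have hZconj : ∀ g ∈ H, ∀ z ∈ Z, g * z * g⁻¹ = z := by
    intro g hg z hz
    have := (Subgroup.mem_centralizer_iff.1 hz.2) g hg
    rw [this]; group
  have h6' : ∀ g ∈ H, ∀ R : Subgroup G, R ≤ M.map (MulAut.conj g).toMonoidHom → ¬ R ≤ Z →
      H ⊓ Subgroup.normalizer (R : Set G) ≤ M.map (MulAut.conj g).toMonoidHom := by
    intro g hg R hRM hRZ
    have h1 : R.map (MulAut.conj g⁻¹).toMonoidHom ≤ M := by
      rw [map_conj_le_iff, inv_inv]; exact hRM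
    have h2 : ¬ R.map (MulAut.conj g⁻¹).toMonoidHom ≤ Z := by
      intro hle
      apply hRZ
      intro r hr
      have hm : g⁻¹ * r * g ∈ Z := hle ⟨r, hr, by simp⟩
      have := hZconj g hg _ hm
      have h3 : r = g * (g⁻¹ * r * g) * g⁻¹ := by group
      rw [h3, this]; exact hm
    have h3' := h6 _ h1 h2
    intro k hk
    have hk2 : g⁻¹ * k * g ∈ H ⊓ Subgroup.normalizer
        ((R.map (MulAut.conj g⁻¹).toMonoidHom : Subgroup G) : Set G) := by
      refine Subgroup.mem_inf.2 ⟨H.mul_mem (H.mul_mem (H.inv_mem hg) hk.1) hg, ?_⟩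
      have := conj_mem_normalizer_map_conj R hk.2 g⁻¹
      rwa [inv_inv] at this
    exact (mem_map_conj _ g k).2 (h3' hk2)
  have h7 : ∀ g ∈ H, g ∉ M → M ⊓ M.map (MulAut.conj g).toMonoidHom ≤ Z := by
    intro g hgH hgM
    apply le_of_forall_sylIn_le
    intro r hr R hR
    haveI : Fact r.Prime := ⟨hr⟩
    by_contra hRZ
    have hN1 : H ⊓ Subgroup.normalizer (R : Set G) ≤ M := h6 R (hR.1.trans inf_le_left) hRZ
    have hN2 : H ⊓ Subgroup.normalizer (R : Set G) ≤ M.map (MulAut.conj g).toMonoidHom :=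
      h6' g hgH R (hR.1.trans inf_le_right) hRZ
    have hND : H ⊓ Subgroup.normalizer (R : Set G) ≤ M ⊓ M.map (MulAut.conj g).toMonoidHom :=
      le_inf hN1 hN2
    have hkey : ∀ K : Subgroup G, M ⊓ M.map (MulAut.conj g).toMonoidHom ≤ K → K ≤ H →
        SylIn r K R := by
      intro K hDK hKH
      obtain ⟨R₁, hR₁, hRR₁⟩ := exists_sylIn_ge K R hR.isPGroup (hR.1.trans hDK)
      by_cases hne : R = R₁
      · rw [hne]; exact hR₁
      · exfalso
        obtain ⟨k, hkR₁, hkR, hkN⟩ := exists_normalizer_not_mem' R₁ R hR₁.isPGroup hRR₁ hne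
        have hkD : k ∈ M ⊓ M.map (MulAut.conj g).toMonoidHom := hND ⟨hKH (hR₁.1 hkR₁), hkN⟩
        have hsup : R ⊔ Subgroup.zpowers k ≤ R₁ := sup_le hRR₁ (Subgroup.zpowers_le.2 hkR₁)
        have := hR.eq_of_le (le_sup_left : R ≤ R ⊔ Subgroup.zpowers k)
          (hR₁.isPGroup.to_le hsup) (sup_le hR.1 (Subgroup.zpowers_le.2 hkD))
        apply hkR
        rw [← this]
        exact Subgroup.mem_sup_right (Subgroup.mem_zpowers k)
    have hA : SylIn r M R := hkey M inf_le_left hMH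
    have hB : SylIn r (M.map (MulAut.conj g).toMonoidHom) R := hkey _ inf_le_right (by
      intro y hy
      have := (mem_map_conj _ g y).1 hy
      have h2 : y = g * (g⁻¹ * y * g) * g⁻¹ := by group
      rw [h2]
      exact H.mul_mem (H.mul_mem hgH (hMH this)) (H.inv_mem hgH))
    have hB' : SylIn r M (R.map (MulAut.conj g⁻¹).toMonoidHom) := by
      have := hB.map_conj' g⁻¹
      rwa [map_conj_map_conj, inv_mul_cancel, map_conj_one] at this
    obtain ⟨m, hmM, hm⟩ := hA.exists_conj_eq hB'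
    have h8 : m⁻¹ * g⁻¹ ∈ Subgroup.normalizer (R : Set G) := by
      apply mem_normalizer_of_map_conj_eq
      rw [← map_conj_map_conj, hm, map_conj_map_conj, inv_mul_cancel, map_conj_one]
    have h9 : m⁻¹ * g⁻¹ ∈ M := hN1 ⟨H.mul_mem (H.inv_mem (hMH hmM)) (H.inv_mem hgH), h8⟩
    apply hgM
    have : g = (m * (m⁻¹ * g⁻¹))⁻¹ := by group
    rw [this]
    exact M.inv_mem (M.mul_mem hmM h9)
  -- the index of `M` in `H` is prime to `p`
  have hidx : (M.relIndex H).Coprime p := by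
    have hp : p.Prime := Fact.out
    have hxp : IsPGroup p (Subgroup.zpowers (⟨x, hxH⟩ : H)) := by
      have h1 : IsPGroup p (Subgroup.zpowers x) :=
        IsPGroup.to_le S.isPGroup' (Subgroup.zpowers_le.2 hx)
      have : Subgroup.zpowers (⟨x, hxH⟩ : H) ≤ (Subgroup.zpowers x).subgroupOf H := by
        rw [Subgroup.zpowers_le, Subgroup.mem_subgroupOf]; exact Subgroup.mem_zpowers x
      exact (h1.comap_subtype).to_le this
    obtain ⟨P₀, hP₀⟩ := hxp.exists_le_sylow
    have hPM : (P₀ : Subgroup H) ≤ M.subgroupOf H := by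
      intro s hs
      rw [Subgroup.mem_subgroupOf]
      refine ⟨s.2, (hCmem _).2 ?_⟩
      have hPp : IsPGroup p ((P₀ : Subgroup H).map H.subtype) := P₀.isPGroup'.map _
      have hxP : x ∈ (P₀ : Subgroup H).map H.subtype :=
        ⟨⟨x, hxH⟩, hP₀ (Subgroup.mem_zpowers _), rfl⟩
      have hsx : (s : G)⁻¹ * x * (s : G) ∈ (P₀ : Subgroup H).map H.subtype :=
        ⟨s⁻¹ * ⟨x, hxH⟩ * s, (P₀ : Subgroup H).mul_mem ((P₀ : Subgroup H).mul_mem
          ((P₀ : Subgroup H).inv_mem hs) (hP₀ (Subgroup.mem_zpowers _))) hs, rfl⟩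
      have := iso_conj_eq S x hx hU _ hPp hxP (s : G) hsx
      calc x * (s : G) = (s : G) * ((s : G)⁻¹ * x * (s : G)) := by group
        _ = (s : G) * x := by rw [this]
    have h1 : (M.subgroupOf H).index ∣ (P₀ : Subgroup H).index := Subgroup.index_dvd_of_le hPM
    have h2 : ¬ p ∣ (P₀ : Subgroup H).index := P₀.not_dvd_index
    have h3 : ((P₀ : Subgroup H).index).Coprime p := (hp.coprime_iff_not_dvd.mpr h2).symm
    exact Nat.Coprime.coprime_dvd_left h1 h3
  -- the quotient by the centre of `H`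
  let Zc : Subgroup H := Subgroup.center H
  have hZc : ∀ h : H, h ∈ Zc ↔ (h : G) ∈ Z := by
    intro h
    rw [Subgroup.mem_center_iff]
    constructor
    · intro hh
      refine Subgroup.mem_inf.2 ⟨h.2, ?_⟩
      rw [Subgroup.mem_centralizer_iff]
      intro k hk
      have := congrArg Subtype.val (hh ⟨k, hk⟩)
      simpa using this
    · intro hh g
      apply Subtype.ext
      have := (Subgroup.mem_centralizer_iff.1 hh.2) g g.2
      simpa using this
  let π := QuotientGroup.mk' Zc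
  have hπ : Function.Surjective π := QuotientGroup.mk'_surjective Zc
  have hker : π.ker = Zc := QuotientGroup.ker_mk' Zc
  set M' : Subgroup H := M.subgroupOf H with hM'
  have hZcM' : Zc ≤ M' := by
    intro z hz
    rw [Subgroup.mem_subgroupOf]
    exact hZM ((hZc z).1 hz)
  set Mbar : Subgroup (H ⧸ Zc) := M'.map π with hMbar
  have hFrob : Cfsg.IsFrobeniusComplement Mbar := by
    refine ⟨?_, ?_, ?_⟩
    · intro hbot
      have h1 : M' ≤ π.ker := (Subgroup.map_eq_bot_iff _).1 hbot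
      rw [hker] at h1
      have h2 : (⟨x, hxH⟩ : H) ∈ Zc := h1 (Subgroup.mem_subgroupOf.2 hxM)
      have h3 := (hZc _).1 h2
      obtain ⟨h0, hh0, hh1⟩ := hcon
      exact hh1 ((Subgroup.mem_centralizer_iff.1 h3.2) h0 hh0).symm
    · intro htop
      have h1 : Subgroup.comap π (Subgroup.map π M') = ⊤ := by
        rw [← hMbar, htop]; exact Subgroup.comap_top π
      rw [Subgroup.comap_map_eq, hker, sup_eq_left.2 hZcM'] at h1
      apply hMne
      apply le_antisymm hMH
      intro h hh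
      have : (⟨h, hh⟩ : H) ∈ M' := by rw [h1]; trivial
      exact Subgroup.mem_subgroupOf.1 this
    · intro q hq
      obtain ⟨g, rfl⟩ := hπ q
      have hgM : (g : G) ∉ M := by
        intro hg
        exact hq ⟨g, Subgroup.mem_subgroupOf.2 hg, rfl⟩
      rw [eq_bot_iff]
      intro y hy
      obtain ⟨hy1, hy2⟩ := Subgroup.mem_inf.1 hy
      obtain ⟨m, hm, rfl⟩ := hy1
      rw [Subgroup.mem_pointwise_smul_iff_inv_smul_mem] at hy2
      obtain ⟨m₂, hm₂, hm₂e⟩ := hy2
      have h1 : π m₂ = π (g⁻¹ * m * g) := by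
        rw [hm₂e]; simp [MulAut.smul_def]
      have h2 : m₂⁻¹ * (g⁻¹ * m * g) ∈ Zc := by
        have := (QuotientGroup.eq (s := Zc)).1 h1
        exact this
      have h3 : g⁻¹ * m * g ∈ M' := by
        have := M'.mul_mem hm₂ (hZcM' h2)
        rwa [mul_inv_cancel_left] at this
      have h4 : (m : G) ∈ M ⊓ M.map (MulAut.conj (g : G)).toMonoidHom := by
        refine ⟨Subgroup.mem_subgroupOf.1 hm, (mem_map_conj _ _ _).2 ?_⟩
        exact Subgroup.mem_subgroupOf.1 h3
      have h5 := h7 (g : G) g.2 hgM h4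
      have h6 : m ∈ Zc := (hZc m).2 h5
      rw [Subgroup.mem_bot]
      rw [← hker] at h6
      exact MonoidHom.mem_ker.1 h6
  obtain ⟨Nb, -, hNbn, hNbc⟩ := Cfsg.Agent.Lib.helper1.frobenius_theorem Mbar hFrob
  set K' : Subgroup H := Nb.comap π with hK'
  set K : Subgroup G := K'.map H.subtype with hK
  have hcardNb : (Nat.card Nb).Coprime p := by
    rw [← hNbc.index_eq_card, hMbar, Subgroup.index_map_eq _ hπ (by rw [hker]; exact hZcM')]
    exact hidx
  have hZK' : Zc ≤ K' := by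
    rw [← hker]; exact MonoidHom.ker_le_comap π Nb
  have hrel : (Zc.relIndex K') = Nat.card Nb := by
    have h1 := Subgroup.relIndex_comap (⊥ : Subgroup (H ⧸ Zc)) π K'
    rw [MonoidHom.comap_bot, hker, hK', Subgroup.map_comap_eq_self_of_surjective hπ,
      Subgroup.relIndex_bot_left] at h1
    exact h1
  have hZmap : Zc.map H.subtype = Z := by
    ext z
    constructor
    · rintro ⟨h, hh, rfl⟩; exact (hZc h).1 hh
    · intro hz; exact ⟨⟨z, hz.1⟩, (hZc _).2 hz, rfl⟩
  have hKC : ∀ k ∈ K, x * k = k * x := by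
    apply centralizes_of_central_coprime (p := p) K Z x
    · rw [← hZmap]; exact Subgroup.map_mono hZK'
    · intro k hk
      rw [Subgroup.mem_centralizer_iff]
      intro z hz
      obtain ⟨k', hk', rfl⟩ := hk
      exact ((Subgroup.mem_centralizer_iff.1 hz.2) k' k'.2).symm
    · rw [← hZmap, hK, Subgroup.relIndex_map_map_of_injective _ _ H.subtype_injective, hrel]
      exact hcardNb
    · rintro _ ⟨k', hk', rfl⟩
      haveI : K'.Normal := hNbn.comap π
      exact ⟨⟨x, hxH⟩ * k' * (⟨x, hxH⟩ : H)⁻¹, Subgroup.Normal.conj_mem inferInstance k' hk' _, rfl⟩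
    · intro z hz; exact (hCmem z).1 (hZM hz).2
    · exact hb
  have hK'M' : K' ≤ M' := by
    intro k hk
    rw [Subgroup.mem_subgroupOf]
    exact ⟨k.2, (hCmem _).2 (hKC _ ⟨k, hk, rfl⟩)⟩
  have hNbM : Nb ≤ Mbar := by
    rw [← Subgroup.map_comap_eq_self_of_surjective hπ Nb]
    exact Subgroup.map_mono hK'M'
  have hNbbot : Nb = ⊥ := by
    have := hNbc.disjoint
    rw [disjoint_iff, inf_eq_left.2 hNbM] at this
    exact this
  have := hNbc.sup_eq_top
  rw [hNbbot, bot_sup_eq] at this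
  exact hFrob.2.1 this

/-- **S3064** -/
theorem isolated_central (S : Sylow p G) (x : G) (hx : x ∈ S)
    (hU : ∀ g : G, g⁻¹ * x * g ∈ S → g⁻¹ * x * g = x)
    (hb : ∀ H : Subgroup G, (Nat.card H).Coprime p → (∀ h ∈ H, x * h * x⁻¹ ∈ H) →
      ∀ h ∈ H, x * h = h * x) : x ∈ Subgroup.center G := by
  rw [Subgroup.mem_center_iff]
  intro g
  exact (iso_central_aux S x hx hU hb _ ⊤ rfl (Subgroup.mem_top x) g (Subgroup.mem_top g)).symm

end isoMain

end Cfsg.Agent.Lib.helper14
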