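import Cfsg.Agent.Lib.helper15.Rank1
import Cfsg.Agent.S4024
import Cfsg.Prelude.Def_IsolatedElements
import Cfsg.Prelude.Def_CaseTheorems

set_option autoImplicit false
set_option linter.unusedSectionVars false
set_option linter.unusedVariables false

namespace Cfsg.Agent.Lib.helper14

open Cfsg
open scoped commutatorElement Pointwise

section rankOne
variable {G : Type*} [Group G] [Finite G] {p : ℕ} [Fact p.Prime]

/-- **S2971**: an isolated element of odd prime order in a group of `p`-rank one is central
modulo the `p'`-core. -/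
theorem isolated_rank_one (hp2 : p ≠ 2) (hrk : Cfsg.PRankLE p 1 G) (x : G) (hx : orderOf x = p)
    (hiso : Cfsg.IsIsolated x) : Cfsg.InZStar p x := by
  classical
  have hp : p.Prime := Fact.out
  have hx1 : x ≠ 1 := by
    intro h; rw [h, orderOf_one] at hx; exact hp.one_lt.ne hx
  have hxp : x ^ p = 1 := by rw [← hx]; exact pow_orderOf_eq_one x
  have hcardx : Nat.card (Subgroup.zpowers x) = p := by rw [Nat.card_zpowers, hx]
  -- (1) elements of order dividing p commuting with x are powers of x
  have hU : ∀ y : G, x * y = y * x → y ^ p = 1 → y ∈ Subgroup.zpowers x := by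
    intro y hxy hy
    by_contra hne
    obtain ⟨hE, hcard⟩ := Cfsg.Agent.Lib.helper15.elemAb_pair x y hxy hx hy hne
    have := hrk _ hE.1 hE.2
    rw [pow_one] at this
    have h2 : p ^ 2 ≤ p := hcard.trans this
    have h3 : p < p ^ 2 := by
      calc p = p ^ 1 := (pow_one p).symm
        _ < p ^ 2 := Nat.pow_lt_pow_right hp.one_lt (by norm_num)
    omega
  -- powers of x generate the same group
  have hgen : ∀ w ∈ Subgroup.zpowers x, w ≠ 1 → x ∈ Subgroup.zpowers w := by
    intro w hw hw1
    have h1 := mem_zpowers_of_prime_card hcardx (g := (⟨w, hw⟩ : Subgroup.zpowers x))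
      (g' := ⟨x, Subgroup.mem_zpowers x⟩) (by
        intro h; exact hw1 (congrArg Subtype.val h))
    obtain ⟨k, hk⟩ := Subgroup.mem_zpowers_iff.1 h1
    refine Subgroup.mem_zpowers_iff.2 ⟨k, ?_⟩
    have := congrArg Subtype.val hk
    simpa using this
  -- (2) a Sylow subgroup containing x
  have hxpg : IsPGroup p (Subgroup.zpowers x) := IsPGroup.of_card (n := 1) (by rw [hcardx, pow_one])
  obtain ⟨S, hS⟩ := hxpg.exists_le_sylow
  have hxS : x ∈ (S : Subgroup G) := hS (Subgroup.mem_zpowers x)
  -- (3) x is central in S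
  have hxZ : ∀ s ∈ (S : Subgroup G), x * s = s * x := by
    haveI : Nontrivial (S : Subgroup G) := ⟨⟨⟨x, hxS⟩, 1, fun h => hx1 (congrArg Subtype.val h)⟩⟩
    haveI := S.isPGroup'.center_nontrivial
    have hcz : IsPGroup p (Subgroup.center (S : Subgroup G)) := S.isPGroup'.to_subgroup _
    obtain ⟨k, hk⟩ := IsPGroup.iff_card.mp hcz
    have hk0 : k ≠ 0 := by
      intro h
      rw [h, pow_zero] at hk
      have := (Subgroup.card_eq_one (H := Subgroup.center (S : Subgroup G))).1 hk
      exact (Subgroup.nontrivial_iff_ne_bot _).1 inferInstance this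
    have hdvd : p ∣ Nat.card (Subgroup.center (S : Subgroup G)) := by
      rw [hk]; exact dvd_pow_self p hk0
    obtain ⟨z, hz⟩ := exists_prime_orderOf_dvd_card' p hdvd
    have hzc : ∀ s : (S : Subgroup G), s * (z : (S : Subgroup G)) = (z : (S : Subgroup G)) * s :=
      fun s => Subgroup.mem_center_iff.1 z.2 s
    have hzG : ∀ s ∈ (S : Subgroup G), s * ((z : (S : Subgroup G)) : G) = ((z : (S : Subgroup G)) : G) * s := by
      intro s hs
      have := congrArg Subtype.val (hzc ⟨s, hs⟩)
      simpa using this
    have hz1 : ((z : (S : Subgroup G)) : G) ≠ 1 := by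
      intro h
      have h1 : z = 1 := Subtype.ext (Subtype.ext h)
      rw [h1, orderOf_one] at hz
      exact hp.one_lt.ne hz
    have hzp : ((z : (S : Subgroup G)) : G) ^ p = 1 := by
      have := pow_orderOf_eq_one z
      rw [hz] at this
      have := congrArg (fun w : Subgroup.center (S : Subgroup G) => ((w : (S : Subgroup G)) : G)) this
      simpa using this
    have hzx := hU _ (hzG x hxS) hzp
    obtain ⟨j, hj⟩ := Subgroup.mem_zpowers_iff.1 (hgen _ hzx hz1)
    intro s hs
    rw [← hj]
    exact ((Commute.zpow_left (show Commute ((z : (S : Subgroup G)) : G) s from (hzG s hs).symm) j)).eq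
  have hUS : ∀ y ∈ (S : Subgroup G), y ^ p = 1 → y ∈ Subgroup.zpowers x :=
    fun y hy hyp => hU y (hxZ y hy) hyp
  -- (5) S is cyclic, hence abelian
  have hScyc : IsCyclic (S : Subgroup G) := by
    set U : Subgroup (S : Subgroup G) := Subgroup.zpowers (⟨x, hxS⟩ : (S : Subgroup G)) with hUdef
    have hUcard : Nat.card U = p := by
      rw [hUdef, Nat.card_zpowers]
      exact (Subgroup.orderOf_mk x hxS).trans hx
    by_cases hUt : U = ⊤
    · exact isCyclic_iff_exists_zpowers_eq_top.2 ⟨_, hUt⟩
    · apply Cfsg.Agent.S4024.cyclic_of_unique hp2 S.isPGroup' U ?_ hUt ?_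
      · intro h
        rw [h, Subgroup.card_bot] at hUcard
        exact hp.one_lt.ne hUcard
      · intro V hV
        rw [hUcard] at hV
        apply Subgroup.eq_of_le_of_card_ge
        · intro v hv
          have hvp : (v : G) ^ p = 1 := by
            have h1 : (⟨v, hv⟩ : V) ^ p = 1 := by
              have h0 : (⟨v, hv⟩ : V) ^ Nat.card V = 1 := pow_card_eq_one'
              rwa [hV] at h0
            have := congrArg (fun w : V => ((w : (S : Subgroup G)) : G)) h1
            simpa using this
          have := hUS (v : G) v.2 hvp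
          obtain ⟨k, hk⟩ := Subgroup.mem_zpowers_iff.1 this
          refine Subgroup.mem_zpowers_iff.2 ⟨k, ?_⟩
          apply Subtype.ext
          simpa using hk
        · rw [hV, hUcard]
  have hScomm : ∀ a ∈ (S : Subgroup G), ∀ b ∈ (S : Subgroup G), a * b = b * a := by
    intro a ha b hb
    have := (IsCyclic.isMulCommutative (α := (S : Subgroup G))).is_comm.comm ⟨a, ha⟩ ⟨b, hb⟩
    exact congrArg Subtype.val this
  -- (6) the normalizer of S centralizes S
  have hNC : Subgroup.normalizer ((S : Subgroup G) : Set G) ≤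
      Subgroup.centralizer ((S : Subgroup G) : Set G) := by
    intro n hn
    have hnS : ∀ s ∈ (S : Subgroup G), n * s * n⁻¹ ∈ (S : Subgroup G) :=
      fun s hs => (Subgroup.mem_normalizer_iff.1 hn s).1 hs
    -- n centralizes x
    have hnx : n * x * n⁻¹ = x := by
      apply hiso
      have h1 : (n * x * n⁻¹) ^ p = 1 := by rw [conj_pow, hxp]; group
      exact hxZ _ (hnS x hxS)
    -- p'-part of the group order
    obtain ⟨a, j, hj, hcard⟩ := Nat.exists_eq_pow_mul_and_not_dvd (n := Nat.card G)
      Nat.card_pos.ne' p hp.ne_one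
    have hnj : n ^ j ∈ (S : Subgroup G) := by
      have h1 : IsPGroup p (Subgroup.zpowers (n ^ j)) := by
        apply IsPGroup.of_card (n := orderOf (n ^ j) |>.factorization p)
        rw [Nat.card_zpowers]
        have hdvd : orderOf (n ^ j) ∣ p ^ a := by
          apply orderOf_dvd_of_pow_eq_one
          rw [← pow_mul, mul_comm, ← hcard]
          exact pow_card_eq_one'
        obtain ⟨k, hk, hk2⟩ := (Nat.dvd_prime_pow hp).1 hdvd
        rw [hk2, hp.factorization_pow]
        simp
      have h2 : Subgroup.zpowers (n ^ j) ≤ Subgroup.normalizer ((S : Subgroup G) : Set G) := by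
        rw [Subgroup.zpowers_le]
        exact Subgroup.pow_mem _ hn j
      have h3 := IsPGroup.to_sup_of_normal_right' h1 S.isPGroup' h2
      have h4 := S.is_maximal' h3 le_sup_right
      rw [← h4]
      exact Subgroup.mem_sup_left (Subgroup.mem_zpowers _)
    rw [Subgroup.mem_centralizer_iff]
    by_contra hcon
    push Not at hcon
    -- a counterexample of minimal order
    have hex : ∃ k : ℕ, ∃ s ∈ (S : Subgroup G), s * n ≠ n * s ∧ orderOf s = k := by
      obtain ⟨s, hs, hs2⟩ := hcon
      exact ⟨_, s, hs, hs2, rfl⟩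
    obtain ⟨s, hsS, hsn, hsmin⟩ := Nat.find_spec hex
    have hmin : ∀ s' ∈ (S : Subgroup G), orderOf s' < orderOf s → s' * n = n * s' := by
      intro s' hs' hlt
      by_contra hne
      exact Nat.find_min hex (hsmin ▸ hlt) ⟨s', hs', hne, rfl⟩
    have hs1 : s ≠ 1 := by
      intro h; apply hsn; rw [h]; group
    -- s ^ p is centralized by n
    have hsp : s ^ p * n = n * s ^ p := by
      apply hmin _ (Subgroup.pow_mem _ hsS p)
      have hps : p ∣ orderOf s := by
        obtain ⟨k, hk⟩ := (IsPGroup.iff_orderOf.1 S.isPGroup') ⟨s, hsS⟩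
        rw [Subgroup.orderOf_mk] at hk
        rw [hk]
        apply dvd_pow_self
        intro h0
        rw [h0, pow_zero] at hk
        exact hs1 (orderOf_eq_one_iff.1 hk)
      rw [orderOf_pow' s hp.ne_zero, Nat.gcd_eq_right hps]
      exact Nat.div_lt_self (orderOf_pos s) hp.one_lt
    -- δ(s) has order p
    set d := n * s * n⁻¹ * s⁻¹ with hd
    have hdS : d ∈ (S : Subgroup G) := Subgroup.mul_mem _ (hnS s hsS) (Subgroup.inv_mem _ hsS)
    have hdp : d ^ p = 1 := by
      have h1 : (n * s * n⁻¹) * s⁻¹ = s⁻¹ * (n * s * n⁻¹) :=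
        hScomm _ (hnS s hsS) _ (Subgroup.inv_mem _ hsS)
      rw [hd, (show Commute (n * s * n⁻¹) s⁻¹ from h1).mul_pow, conj_pow, ← hsp]
      group
    have hd1 : d ≠ 1 := by
      intro h
      apply hsn
      have : n * s * n⁻¹ = s := by
        have := mul_inv_eq_one.1 (hd ▸ h)
        exact this
      calc s * n = (n * s * n⁻¹) * n := by rw [this]
        _ = n * s := by group
    have hdx := hUS d hdS hdp
    -- n centralizes d
    have hnd : n * d * n⁻¹ = d := by
      obtain ⟨k, hk⟩ := Subgroup.mem_zpowers_iff.1 hdx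
      rw [← hk, ← conj_zpow, hnx]
    have hiter : ∀ i : ℕ, n ^ i * s * (n ^ i)⁻¹ = d ^ i * s := by
      intro i
      induction i with
      | zero => simp
      | succ i ih =>
        calc n ^ (i + 1) * s * (n ^ (i + 1))⁻¹ = n * (n ^ i * s * (n ^ i)⁻¹) * n⁻¹ := by
              rw [pow_succ']; group
          _ = n * (d ^ i * s) * n⁻¹ := by rw [ih]
          _ = (n * d * n⁻¹) ^ i * (n * s * n⁻¹) := by rw [conj_pow]; group
          _ = d ^ i * (d * s) := by rw [hnd, hd]; group
          _ = d ^ (i + 1) * s := by rw [pow_succ]; group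
    have h1 := hiter j
    have h2 : n ^ j * s * (n ^ j)⁻¹ = s := by
      rw [hScomm _ hnj _ hsS]; group
    rw [h2] at h1
    have h3 : d ^ j = 1 := by
      have : d ^ j * s = 1 * s := by rw [← h1, one_mul]
      exact mul_right_cancel this
    have h4 : orderOf d ∣ j := orderOf_dvd_of_pow_eq_one h3
    have h5 : orderOf d = p := by
      have := orderOf_dvd_of_pow_eq_one hdp
      rcases (Nat.dvd_prime hp).1 this with h | h
      · exact absurd (orderOf_eq_one_iff.1 h) hd1
      · exact h
    rw [h5] at h4
    exact hj h4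
  -- (7) Burnside's normal complement
  set φ := MonoidHom.transferSylow S hNC with hφ
  have hcompl := MonoidHom.ker_transferSylow_isComplement' S hNC
  have hKcop : (Nat.card φ.ker).Coprime p := by
    rw [← hcompl.index_eq_card]
    exact (hp.coprime_iff_not_dvd.mpr S.not_dvd_index).symm
  have hKle : φ.ker ≤ Cfsg.pPrimeCore p G := le_sSup ⟨inferInstance, hKcop⟩
  intro g
  apply hKle
  rw [MonoidHom.mem_ker, map_mul, map_mul, map_mul, map_inv, map_inv]
  have hc : ∀ a b : (S : Subgroup G), a * b = b * a := fun a b =>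
    Subtype.ext (hScomm _ a.2 _ b.2)
  rw [hc (φ g) (φ x)]
  group

end rankOne

end Cfsg.Agent.Lib.helper14
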