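import Cfsg.Agent.Lib.helper14.PRedSubnormal2
import Cfsg.Agent.Lib.helper14.ParabolicChar
import Cfsg.Agent.Lib.helper14.Trace
import Cfsg.Agent.Lib.helper14.PGroupFrattini
import Cfsg.Agent.Lib.helper14.Amalgam5

set_option autoImplicit false
set_option linter.unusedSectionVars false
set_option linter.unusedVariables false

namespace Cfsg.Agent.Lib.helper14

open Cfsg
open scoped commutatorElement Pointwise IsMulCommutative

universe u

section
variable {G : Type u} [Group G] [Finite G] {p : ℕ} [Fact p.Prime]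

/-- If `T` is a `p`-group normalizing `K` with `T ∩ K` a Sylow `p`-subgroup of `K`, and every
`T`-fixed point of the abelian `p`-group `V` is `K`-fixed, then every `T ∩ K`-fixed point of `V`
is `K`-fixed. -/
theorem centralizer_sylow_of_fixed (V K T : Subgroup G) [IsMulCommutative ↥V]
    (hVp : IsPGroup p V) (hT : IsPGroup p T) (hTK : T ≤ Subgroup.normalizer (K : Set G))
    (hKV : K ≤ Subgroup.normalizer (V : Set G)) (hTV : T ≤ Subgroup.normalizer (V : Set G))
    (hidx : ¬ p ∣ (T ⊓ K).relIndex K)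
    (hfix : V ⊓ Subgroup.centralizer (T : Set G) ≤ Subgroup.centralizer (K : Set G)) :
    V ⊓ Subgroup.centralizer ((T ⊓ K : Subgroup G) : Set G) ≤ Subgroup.centralizer (K : Set G) := by
  classical
  have hp : p.Prime := Fact.out
  obtain ⟨T₀, hT₀⟩ : ∃ T₀, T₀ = T ⊓ K := ⟨_, rfl⟩
  rw [← hT₀] at hidx ⊢
  have hT₀K : T₀ ≤ K := by rw [hT₀]; exact inf_le_right
  have hT₀T : T₀ ≤ T := by rw [hT₀]; exact inf_le_left
  have hNA : ∀ n ∈ K, ∀ a ∈ V, n * a * n⁻¹ ∈ V :=
    fun n hn a ha => (Subgroup.mem_normalizer_iff.1 (hKV hn) a).1 ha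
  have hNT : ∀ n ∈ T, ∀ a ∈ V, n * a * n⁻¹ ∈ V :=
    fun n hn a ha => (Subgroup.mem_normalizer_iff.1 (hTV hn) a).1 ha
  let S' : Subgroup K := T₀.subgroupOf K
  have : Fintype (↥K ⧸ S') := Fintype.ofFinite _
  let c : ↥K → (↥V →* ↥V) := fun n => conjEndo V (n : G) (hNA n n.2)
  let Tr : ↥V →* ↥V := ∏ q : ↥K ⧸ S', c q.out
  have hTr : ∀ a, Tr a = ∏ q : ↥K ⧸ S', c q.out a := fun a => MonoidHom.finsetProd_apply _ _ a
  have hc : ∀ (n : K) (a : V), ((c n a : V) : G) = n * a * (n : G)⁻¹ := fun n a => rfl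
  have hcmul : ∀ (n n' : K) (a : V), c (n * n') a = c n (c n' a) := by
    intro n n' a; apply Subtype.ext; simp only [hc, Subgroup.coe_mul]; group
  have hcoset : ∀ a : V, (a : G) ∈ Subgroup.centralizer (T₀ : Set G) →
      ∀ k : K, c ((QuotientGroup.mk k : ↥K ⧸ S').out) a = c k a := by
    intro a ha k
    obtain ⟨s, hs⟩ := QuotientGroup.mk_out_eq_mul S' k
    rw [hs, hcmul]
    congr 1
    apply Subtype.ext
    rw [hc]
    have hsT : ((s : K) : G) ∈ T₀ := s.2
    have h0 := (Subgroup.mem_centralizer_iff.1 ha) _ hsT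
    rw [h0]; group
  have hfixK : ∀ a : V, (a : G) ∈ Subgroup.centralizer (T₀ : Set G) →
      ∀ n : K, c n (Tr a) = Tr a := by
    intro a ha n
    rw [hTr, map_prod]
    have hterm : ∀ q : ↥K ⧸ S', c n (c q.out a) = c ((n • q).out) a := by
      intro q
      rw [← hcmul]
      have h1 : (n • q) = QuotientGroup.mk (n * q.out) := by
        conv_lhs => rw [← QuotientGroup.out_eq' q]
        rfl
      rw [h1, hcoset a ha]
    rw [Finset.prod_congr rfl (fun q _ => hterm q)]
    exact Fintype.prod_equiv (MulAction.toPerm n) _ _ (fun q => rfl)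
  have hTrC : ∀ a : V, (a : G) ∈ Subgroup.centralizer (T₀ : Set G) →
      ((Tr a : V) : G) ∈ Subgroup.centralizer (K : Set G) := by
    intro a ha
    rw [Subgroup.mem_centralizer_iff]
    intro n hn
    have h1 := congrArg Subtype.val (hfixK a ha ⟨n, hn⟩)
    rw [hc] at h1
    simp only at h1
    calc n * ((Tr a : V) : G) = (n * ((Tr a : V) : G) * n⁻¹) * n := by group
      _ = ((Tr a : V) : G) * n := by rw [h1]
  have hpow : ∀ w : V, (w : G) ∈ Subgroup.centralizer (K : Set G) →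
      Tr w = w ^ (T₀.relIndex K) := by
    intro w hw
    rw [hTr]
    have h1 : ∀ q : ↥K ⧸ S', c q.out w = w := by
      intro q; apply Subtype.ext; rw [hc]
      have h0 := (Subgroup.mem_centralizer_iff.1 hw) _ (q.out).2
      rw [h0]; group
    rw [Finset.prod_congr rfl (fun q _ => h1 q), Finset.prod_const, Finset.card_univ]
    congr 1
    rw [← Nat.card_eq_fintype_card]; rfl
  have hTN : T ≤ Subgroup.normalizer (T₀ : Set G) := by
    rw [hT₀]; exact le_normalizer_inf T K T Subgroup.le_normalizer hTK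
  have hTC : T ≤ Subgroup.normalizer ((Subgroup.centralizer (T₀ : Set G) : Subgroup G) : Set G) :=
    hTN.trans (normalizer_le_normalizer_centralizer T₀)
  have hequiv : ∀ t ∈ T, ∀ a : V, (a : G) ∈ Subgroup.centralizer (T₀ : Set G) →
      ∀ (ht : ∀ a ∈ V, t * a * t⁻¹ ∈ V), conjEndo V t ht (Tr a) = Tr (conjEndo V t ht a) := by
    intro t htT a ha ht
    have htK : ∀ k ∈ K, t * k * t⁻¹ ∈ K :=
      fun k hk => (Subgroup.mem_normalizer_iff.1 (hTK htT) k).1 hk
    let φ : ↥K → ↥K := fun k => ⟨t * k * t⁻¹, htK k k.2⟩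
    have hφc : ∀ x y : ↥K, (((φ x)⁻¹ * φ y : K) : G) = t * ((x⁻¹ * y : K) : G) * t⁻¹ := by
      intro x y
      simp only [φ, Subgroup.coe_mul, Subgroup.coe_inv]; group
    have hφ : ∀ a b : ↥K, QuotientGroup.leftRel S' a b → QuotientGroup.leftRel S' (φ a) (φ b) := by
      intro x y hxy
      rw [QuotientGroup.leftRel_apply] at hxy ⊢
      have h1 : ((x⁻¹ * y : K) : G) ∈ T₀ := hxy
      show (((φ x)⁻¹ * φ y : K) : G) ∈ T₀
      rw [hφc]
      exact (Subgroup.mem_normalizer_iff.1 (hTN htT) _).1 h1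
    let e : ↥K ⧸ S' → ↥K ⧸ S' := Quotient.map' φ (fun x y h => hφ x y h)
    have he : ∀ k : K, e (QuotientGroup.mk k) = QuotientGroup.mk (φ k) := fun k => rfl
    have hinj : Function.Injective e := by
      intro q₁ q₂ h
      obtain ⟨x, rfl⟩ := QuotientGroup.mk_surjective q₁
      obtain ⟨y, rfl⟩ := QuotientGroup.mk_surjective q₂
      rw [he, he, QuotientGroup.eq] at h
      rw [QuotientGroup.eq]
      have h1 : (((φ x)⁻¹ * φ y : K) : G) ∈ T₀ := h
      rw [hφc] at h1
      exact (Subgroup.mem_normalizer_iff.1 (hTN htT) _).2 h1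
    have hbij : Function.Bijective e := Finite.injective_iff_bijective.1 hinj
    have ha' : ((conjEndo V t ht a : V) : G) ∈ Subgroup.centralizer (T₀ : Set G) := by
      show t * (a : G) * t⁻¹ ∈ _
      exact (Subgroup.mem_normalizer_iff.1 (hTC htT) _).1 ha
    rw [hTr, hTr, map_prod]
    have hterm : ∀ q : ↥K ⧸ S', conjEndo V t ht (c q.out a) =
        c ((e q).out) (conjEndo V t ht a) := by
      intro q
      have h1 : e q = QuotientGroup.mk (φ q.out) := by
        conv_lhs => rw [← QuotientGroup.out_eq' q]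
        rfl
      rw [h1, hcoset _ ha']
      apply Subtype.ext
      show t * (((q.out : K) : G) * (a : G) * ((q.out : K) : G)⁻¹) * t⁻¹ =
        (t * ((q.out : K) : G) * t⁻¹) * (t * (a : G) * t⁻¹) * (t * ((q.out : K) : G) * t⁻¹)⁻¹
      group
    rw [Finset.prod_congr rfl (fun q _ => hterm q)]
    exact Function.Bijective.prod_comp hbij (fun q => c q.out (conjEndo V t ht a))
  obtain ⟨Ker, hKer⟩ : ∃ Ker : Subgroup G, Ker = (Tr.ker.map V.subtype) ⊓
    Subgroup.centralizer (T₀ : Set G) := ⟨_, rfl⟩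
  have hKerV : Ker ≤ V := by rw [hKer]; exact inf_le_left.trans (Subgroup.map_subtype_le _)
  have hmemKer : ∀ x, x ∈ Ker ↔ ∃ hx : x ∈ V, Tr ⟨x, hx⟩ = 1 ∧
      x ∈ Subgroup.centralizer (T₀ : Set G) := by
    intro x
    rw [hKer, Subgroup.mem_inf]
    constructor
    · rintro ⟨⟨a, ha, rfl⟩, h2⟩
      exact ⟨a.2, ha, h2⟩
    · rintro ⟨hx, h1, h2⟩
      exact ⟨⟨⟨x, hx⟩, h1, rfl⟩, h2⟩
  have hKerT : T ≤ Subgroup.normalizer (Ker : Set G) := by
    apply le_normalizer_of_conj_mem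
    intro t ht x hx
    obtain ⟨hxV, hx1, hx2⟩ := (hmemKer x).1 hx
    rw [hmemKer]
    refine ⟨hNT t ht x hxV, ?_, (Subgroup.mem_normalizer_iff.1 (hTC ht) _).1 hx2⟩
    have h0 := hequiv t ht ⟨x, hxV⟩ hx2 (hNT t ht)
    rw [hx1, map_one] at h0
    exact h0.symm
  have hKerK : Ker ⊓ Subgroup.centralizer (K : Set G) = ⊥ := by
    rw [eq_bot_iff]
    intro x hx
    obtain ⟨hxV, hx1, hx2⟩ := (hmemKer x).1 (Subgroup.mem_inf.1 hx).1
    have h1 := hpow ⟨x, hxV⟩ (Subgroup.mem_inf.1 hx).2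
    rw [hx1] at h1
    have h2 : x ^ (T₀.relIndex K) = 1 := by
      have h0 := congrArg Subtype.val h1.symm
      simpa using h0
    obtain ⟨k, hk⟩ := hVp ⟨x, hxV⟩
    have h3 : x ^ (p ^ k) = 1 := by simpa using congrArg Subtype.val hk
    have h4 : orderOf x ∣ Nat.gcd (T₀.relIndex K) (p ^ k) :=
      Nat.dvd_gcd (orderOf_dvd_of_pow_eq_one h2) (orderOf_dvd_of_pow_eq_one h3)
    have h5 : Nat.gcd (T₀.relIndex K) (p ^ k) = 1 :=
      Nat.Coprime.pow_right k ((Nat.Prime.coprime_iff_not_dvd hp).2 hidx).symm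
    rw [h5, Nat.dvd_one, orderOf_eq_one_iff] at h4
    rw [Subgroup.mem_bot]; exact h4
  have hKerBot : Ker = ⊥ := by
    by_contra hne
    have h1 := inf_centralizer_ne_bot_of_le_normalizer Ker T (hVp.to_le hKerV) hT hne hKerT
    apply h1
    rw [eq_bot_iff, ← hKerK]
    intro x hx
    exact Subgroup.mem_inf.2 ⟨(Subgroup.mem_inf.1 hx).1,
      hfix (Subgroup.mem_inf.2 ⟨hKerV (Subgroup.mem_inf.1 hx).1, (Subgroup.mem_inf.1 hx).2⟩)⟩
  intro u hu
  have huV := (Subgroup.mem_inf.1 hu).1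
  have huC := (Subgroup.mem_inf.1 hu).2
  obtain ⟨a, ha⟩ : ∃ a : V, a = ⟨u, huV⟩ := ⟨_, rfl⟩
  have hau : (a : G) = u := by rw [ha]
  have haC : (a : G) ∈ Subgroup.centralizer (T₀ : Set G) := by rw [hau]; exact huC
  have hTa := hTrC a haC
  have hker : ((a ^ (T₀.relIndex K) * (Tr a)⁻¹ : V) : G) ∈ Ker := by
    rw [hmemKer]
    refine ⟨(a ^ (T₀.relIndex K) * (Tr a)⁻¹ : V).2, ?_, ?_⟩
    · show Tr (a ^ (T₀.relIndex K) * (Tr a)⁻¹) = 1
      rw [map_mul, map_pow, map_inv, hpow (Tr a) hTa, mul_inv_cancel]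
    · have hcen : Subgroup.centralizer (K : Set G) ≤ Subgroup.centralizer (T₀ : Set G) :=
        Subgroup.centralizer_le hT₀K
      rw [Subgroup.coe_mul, Subgroup.coe_pow, Subgroup.coe_inv]
      exact Subgroup.mul_mem _ (Subgroup.pow_mem _ haC _) (Subgroup.inv_mem _ (hcen hTa))
  rw [hKerBot, Subgroup.mem_bot] at hker
  have h1 : a ^ (T₀.relIndex K) = Tr a := by
    have h0 : a ^ (T₀.relIndex K) * (Tr a)⁻¹ = 1 := Subtype.ext hker
    exact mul_inv_eq_one.1 h0
  have h2 : u ^ (T₀.relIndex K) ∈ Subgroup.centralizer (K : Set G) := by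
    have h0 := congrArg Subtype.val h1
    rw [Subgroup.coe_pow, hau] at h0
    rw [h0]; exact hTa
  obtain ⟨k, hk⟩ := hVp ⟨u, huV⟩
  have h3 : u ^ (p ^ k) = 1 := by simpa using congrArg Subtype.val hk
  have hcop : (T₀.relIndex K).Coprime (orderOf u) :=
    Nat.Coprime.coprime_dvd_right (orderOf_dvd_of_pow_eq_one h3)
      (Nat.Coprime.pow_right k ((Nat.Prime.coprime_iff_not_dvd hp).2 hidx).symm)
  obtain ⟨m, hm⟩ := exists_pow_eq_self_of_coprime hcop
  rw [← hm]
  exact Subgroup.pow_mem _ h2 m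


theorem omegaCenter_le_core (K S : Subgroup G)
    (hK : K ⊓ Subgroup.centralizer (pCoreOf p K : Set G) ≤ pCoreOf p K) (hS : SylIn p K S) :
    omegaOne p (S ⊓ Subgroup.centralizer (S : Set G)) ≤
      pCoreOf p K ⊓ Subgroup.centralizer (pCoreOf p K : Set G) := by
  intro x hx
  have h1 := omegaOne_center_le p S hx
  have h2 := Subgroup.mem_inf.1 h1
  have hQS : pCoreOf p K ≤ S := hS.core_le
  have h3 : Subgroup.centralizer (S : Set G) ≤ Subgroup.centralizer (pCoreOf p K : Set G) :=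
    Subgroup.centralizer_le hQS
  exact Subgroup.mem_inf.2 ⟨hK (Subgroup.mem_inf.2 ⟨hS.1 h2.1, h3 h2.2⟩), h3 h2.2⟩

/-- Kieler's lemma, normal case, first inclusion. -/
theorem kieler_step_le (H T L : Subgroup G)
    (hH : H ⊓ Subgroup.centralizer (pCoreOf p H : Set G) ≤ pCoreOf p H)
    (hT : SylIn p H T) (hLH : L ≤ H) (hHL : H ≤ Subgroup.normalizer (L : Set G)) :
    L ⊓ Subgroup.centralizer
      ((omegaOne p (T ⊓ Subgroup.centralizer (T : Set G)) : Subgroup G) : Set G) ≤
    Subgroup.centralizer ((omegaOne p ((T ⊓ L) ⊓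
      Subgroup.centralizer ((T ⊓ L : Subgroup G) : Set G)) : Subgroup G) : Set G) := by
  obtain ⟨Z, hZ⟩ : ∃ Z, Z = omegaOne p (T ⊓ Subgroup.centralizer (T : Set G)) := ⟨_, rfl⟩
  obtain ⟨TL, hTL⟩ : ∃ TL, TL = T ⊓ L := ⟨_, rfl⟩
  obtain ⟨ZL, hZL⟩ : ∃ ZL, ZL = omegaOne p (TL ⊓ Subgroup.centralizer (TL : Set G)) := ⟨_, rfl⟩
  obtain ⟨K, hK⟩ : ∃ K, K = L ⊓ Subgroup.centralizer (Z : Set G) := ⟨_, rfl⟩
  rw [← hZ, ← hTL, ← hZL, ← hK]
  have hTp : IsPGroup p T := hT.isPGroup
  have hTH : T ≤ H := hT.1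
  have hZT : Z ≤ T := by rw [hZ]; exact (omegaOne_center_le p T).trans inf_le_left
  have hZC : Z ≤ Subgroup.centralizer (T : Set G) := by
    rw [hZ]; exact (omegaOne_center_le p T).trans inf_le_right
  have hTCZ : T ≤ Subgroup.centralizer (Z : Set G) := by
    intro t ht
    rw [Subgroup.mem_centralizer_iff]
    intro z hz
    exact ((Subgroup.mem_centralizer_iff.1 (hZC hz)) t ht).symm
  have hTNZ : T ≤ Subgroup.normalizer (Z : Set G) := by
    rw [hZ]; exact Subgroup.le_normalizer.trans (le_normalizer_omegaOne_center p T)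
  have hTL_syl : SylIn p L TL := by rw [hTL]; exact hT.inf L hLH hHL
  have hTLK : TL ≤ K := by rw [hK, hTL]; exact le_inf inf_le_right (inf_le_left.trans hTCZ)
  have hKL : K ≤ L := by rw [hK]; exact inf_le_left
  have hTLsylK : SylIn p K TL := hTL_syl.of_le K hTLK hKL
  have hTK_eq : T ⊓ K = TL := by
    rw [hK, hTL]; apply le_antisymm
    · exact le_inf inf_le_left (inf_le_right.trans inf_le_left)
    · exact le_inf inf_le_left (le_inf inf_le_right (inf_le_left.trans hTCZ))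
  have hTNK : T ≤ Subgroup.normalizer (K : Set G) := by
    rw [hK]
    exact le_normalizer_inf L _ T (hTH.trans hHL)
      (hTNZ.trans (normalizer_le_normalizer_centralizer Z))
  have hZH : Z ≤ H := hZT.trans hTH
  have hZp : IsPGroup p Z := hTp.to_le hZT
  have hN := charp_inf_normalizer H Z hH hZH hZp
  have hC : (H ⊓ Subgroup.centralizer (Z : Set G)) ⊓
      Subgroup.centralizer (pCoreOf p (H ⊓ Subgroup.centralizer (Z : Set G)) : Set G) ≤
      pCoreOf p (H ⊓ Subgroup.centralizer (Z : Set G)) := by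
    apply charp_normal_rel (H ⊓ Subgroup.normalizer (Z : Set G)) _ hN
    · exact inf_le_inf_left H (Subgroup.centralizer_le_normalizer _)
    · exact le_normalizer_inf H _ _ (inf_le_left.trans Subgroup.le_normalizer)
        (inf_le_right.trans (normalizer_le_normalizer_centralizer Z))
  have hKchar : K ⊓ Subgroup.centralizer (pCoreOf p K : Set G) ≤ pCoreOf p K := by
    apply charp_normal_rel (H ⊓ Subgroup.centralizer (Z : Set G)) K hC
    · rw [hK]; exact inf_le_inf_right _ hLH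
    · rw [hK]
      exact le_normalizer_inf L _ _ (inf_le_left.trans hHL)
        (inf_le_right.trans Subgroup.le_normalizer)
  obtain ⟨Q, hQ⟩ : ∃ Q, Q = pCoreOf p K := ⟨_, rfl⟩
  obtain ⟨A, hA⟩ : ∃ A, A = omegaOne p (Q ⊓ Subgroup.centralizer (Q : Set G)) := ⟨_, rfl⟩
  obtain ⟨V, hV⟩ : ∃ V, V = ⨆ k : K, ZL.map (MulAut.conj (k : G)).toMonoidHom := ⟨_, rfl⟩
  have hZLA : ZL ≤ A := by
    intro x hx
    rw [hZL] at hx
    have h1 := omegaOne_center_mem p TL hx
    have h2 := omegaCenter_le_core K TL hKchar hTLsylK hx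
    rw [← hQ] at h2
    rw [hA]
    exact mem_omegaOne_center (Subgroup.mem_inf.1 h2).1 (Subgroup.mem_inf.1 h2).2 h1.2
  have hKA : K ≤ Subgroup.normalizer (A : Set G) := by
    rw [hA, hQ]; exact (le_normalizer_pCoreOf p K).trans (le_normalizer_omegaOne_center p _)
  have hVA : V ≤ A := by
    rw [hV]; apply iSup_le; intro k
    have := Subgroup.map_mono (f := (MulAut.conj (k : G)).toMonoidHom) hZLA
    rw [map_conj_eq_of_mem_normalizer A (hKA k.2)] at this
    exact this
  have hZLV : ZL ≤ V := by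
    rw [hV]
    have := le_iSup (fun k : K => ZL.map (MulAut.conj (k : G)).toMonoidHom) 1
    rw [OneMemClass.coe_one, map_conj_one] at this
    exact this
  have hAmem : ∀ x ∈ A, (x ∈ Q ∧ x ∈ Subgroup.centralizer (Q : Set G)) ∧ x ^ p = 1 := by
    intro x hx
    rw [hA] at hx
    exact omegaOne_center_mem p Q hx
  have hVcomm : IsMulCommutative ↥V := ⟨⟨fun a b => by
      apply Subtype.ext
      have ha := (hAmem _ (hVA a.2)).1
      have hb := (hAmem _ (hVA b.2)).1
      exact (Subgroup.mem_centralizer_iff.1 hb.2 _ ha.1)⟩⟩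
  have hQp : IsPGroup p Q := by rw [hQ]; exact isPGroup_pCoreOf p K
  have hVQ : V ≤ Q := fun x hx => (hAmem x (hVA hx)).1.1
  have hVp : IsPGroup p V := hQp.to_le hVQ
  have hQTL : Q ≤ TL := by rw [hQ]; exact hTLsylK.core_le
  have hTLT : TL ≤ T := by rw [hTL]; exact inf_le_left
  have hfix : V ⊓ Subgroup.centralizer (T : Set G) ≤ Subgroup.centralizer (K : Set G) := by
    intro x hx
    have hx1 := (Subgroup.mem_inf.1 hx).1
    have hx2 := (Subgroup.mem_inf.1 hx).2
    have hxZ : x ∈ Z := by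
      rw [hZ]
      exact mem_omegaOne_center (hTLT (hQTL (hVQ hx1))) hx2 (hAmem x (hVA hx1)).2
    rw [Subgroup.mem_centralizer_iff]
    intro k hk
    have hkC : k ∈ Subgroup.centralizer (Z : Set G) := by
      rw [hK] at hk; exact (Subgroup.mem_inf.1 hk).2
    exact ((Subgroup.mem_centralizer_iff.1 hkC) x hxZ).symm
  have hKNV : K ≤ Subgroup.normalizer (V : Set G) := by
    rw [hV]
    apply le_normalizer_iSup_conj ZL K K
    intro k hk b
    refine ⟨⟨k * b, K.mul_mem hk b.2⟩, ?_⟩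
    rw [map_conj_map_conj]
  have hTNTL : T ≤ Subgroup.normalizer (TL : Set G) := by
    rw [hTL]; exact le_normalizer_inf T L T Subgroup.le_normalizer (hTH.trans hHL)
  have hTNZL : T ≤ Subgroup.normalizer (ZL : Set G) := by
    rw [hZL]; exact hTNTL.trans (le_normalizer_omegaOne_center p TL)
  have hTNV : T ≤ Subgroup.normalizer (V : Set G) := by
    rw [hV]
    apply le_normalizer_iSup_conj ZL K T
    intro t ht b
    refine ⟨⟨t * b * t⁻¹, (Subgroup.mem_normalizer_iff.1 (hTNK ht) _).1 b.2⟩, ?_⟩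
    rw [map_conj_map_conj]
    show ZL.map (MulAut.conj (t * (b : G))).toMonoidHom ≤
      ZL.map (MulAut.conj (t * (b : G) * t⁻¹)).toMonoidHom
    have h1 : t * (b : G) = (t * b * t⁻¹) * t := by group
    have h2 : ZL.map (MulAut.conj (t * (b : G))).toMonoidHom =
        ZL.map (MulAut.conj (t * (b : G) * t⁻¹)).toMonoidHom := by
      conv_lhs => rw [h1]
      rw [← map_conj_map_conj, map_conj_eq_of_mem_normalizer ZL (hTNZL ht)]
    rw [h2]
  have hidx : ¬ p ∣ (T ⊓ K).relIndex K := by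
    rw [hTK_eq]; exact hTLsylK.not_dvd_relIndex
  have key := centralizer_sylow_of_fixed V K T hVp hTp hTNK hKNV hTNV hidx hfix
  rw [hTK_eq] at key
  intro k hk
  rw [Subgroup.mem_centralizer_iff]
  intro z hz
  have hzC : z ∈ Subgroup.centralizer (TL : Set G) := by
    rw [hZL] at hz
    exact (omegaOne_center_mem p TL hz).1.2
  have h1 := key (Subgroup.mem_inf.2 ⟨hZLV hz, hzC⟩)
  exact ((Subgroup.mem_centralizer_iff.1 h1) k hk).symm

/-- Kieler's lemma, normal case, second inclusion. -/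
theorem kieler_step_ge (H T L : Subgroup G)
    (hH : H ⊓ Subgroup.centralizer (pCoreOf p H : Set G) ≤ pCoreOf p H)
    (hT : SylIn p H T) (hLH : L ≤ H) (hHL : H ≤ Subgroup.normalizer (L : Set G)) :
    L ⊓ Subgroup.centralizer ((omegaOne p ((T ⊓ L) ⊓
      Subgroup.centralizer ((T ⊓ L : Subgroup G) : Set G)) : Subgroup G) : Set G) ≤
    Subgroup.centralizer
      ((omegaOne p (T ⊓ Subgroup.centralizer (T : Set G)) : Subgroup G) : Set G) := by
  obtain ⟨Z, hZ⟩ : ∃ Z, Z = omegaOne p (T ⊓ Subgroup.centralizer (T : Set G)) := ⟨_, rfl⟩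
  obtain ⟨TL, hTL⟩ : ∃ TL, TL = T ⊓ L := ⟨_, rfl⟩
  obtain ⟨ZL, hZL⟩ : ∃ ZL, ZL = omegaOne p (TL ⊓ Subgroup.centralizer (TL : Set G)) := ⟨_, rfl⟩
  obtain ⟨K, hK⟩ : ∃ K, K = L ⊓ Subgroup.centralizer (ZL : Set G) := ⟨_, rfl⟩
  rw [← hZ, ← hTL, ← hZL, ← hK]
  have hTp : IsPGroup p T := hT.isPGroup
  have hTH : T ≤ H := hT.1
  have hTLT : TL ≤ T := by rw [hTL]; exact inf_le_left
  have hTLL : TL ≤ L := by rw [hTL]; exact inf_le_right
  have hZLTL : ZL ≤ TL := by rw [hZL]; exact (omegaOne_center_le p TL).trans inf_le_left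
  have hZLC : ZL ≤ Subgroup.centralizer (TL : Set G) := by
    rw [hZL]; exact (omegaOne_center_le p TL).trans inf_le_right
  have hTLC : TL ≤ Subgroup.centralizer (ZL : Set G) := by
    intro t ht
    rw [Subgroup.mem_centralizer_iff]
    intro z hz
    exact ((Subgroup.mem_centralizer_iff.1 (hZLC hz)) t ht).symm
  have hTNTL : T ≤ Subgroup.normalizer (TL : Set G) := by
    rw [hTL]; exact le_normalizer_inf T L T Subgroup.le_normalizer (hTH.trans hHL)
  have hTNZL : T ≤ Subgroup.normalizer (ZL : Set G) := by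
    rw [hZL]; exact hTNTL.trans (le_normalizer_omegaOne_center p TL)
  have hLchar := charp_normal_rel H L hH hLH hHL
  have hZLp : IsPGroup p ZL := hTp.to_le (hZLTL.trans hTLT)
  have hN := charp_inf_normalizer L ZL hLchar (hZLTL.trans hTLL) hZLp
  have hKL : K ≤ L := by rw [hK]; exact inf_le_left
  have hKchar : K ⊓ Subgroup.centralizer (pCoreOf p K : Set G) ≤ pCoreOf p K := by
    apply charp_normal_rel (L ⊓ Subgroup.normalizer (ZL : Set G)) K hN
    · rw [hK]; exact inf_le_inf_left L (Subgroup.centralizer_le_normalizer _)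
    · rw [hK]
      exact le_normalizer_inf L _ _ (inf_le_left.trans Subgroup.le_normalizer)
        (inf_le_right.trans (normalizer_le_normalizer_centralizer ZL))
  have hTNK : T ≤ Subgroup.normalizer (K : Set G) := by
    rw [hK]
    exact le_normalizer_inf L _ T (hTH.trans hHL)
      (hTNZL.trans (normalizer_le_normalizer_centralizer ZL))
  obtain ⟨M, hM⟩ : ∃ M, M = T ⊔ K := ⟨_, rfl⟩
  have hTM : T ≤ M := by rw [hM]; exact le_sup_left
  have hKM : K ≤ M := by rw [hM]; exact le_sup_right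
  have hMH : M ≤ H := by rw [hM]; exact sup_le hTH (hKL.trans hLH)
  have hMNK : M ≤ Subgroup.normalizer (K : Set G) := by
    rw [hM]; exact sup_le hTNK Subgroup.le_normalizer
  have hcopK : ∀ x ∈ M, (orderOf x).Coprime p → x ∈ K := by
    intro x hx hcop
    rw [hM] at hx
    exact mem_of_coprime_of_mem_sup' T K hTp hTNK hcop hx
  obtain ⟨Q, hQ⟩ : ∃ Q, Q = pCoreOf p K := ⟨_, rfl⟩
  have hQp : IsPGroup p Q := by rw [hQ]; exact isPGroup_pCoreOf p K
  have hQK : Q ≤ K := by rw [hQ]; exact pCoreOf_le p K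
  have hMNQ : M ≤ Subgroup.normalizer (Q : Set G) := by
    rw [hQ]; exact le_normalizer_pCoreOf_of_le_normalizer p K M hMNK
  have hQM : Q ≤ pCoreOf p M := le_pCoreOf M Q (hQK.trans hKM) hQp hMNQ
  obtain ⟨D, hD⟩ : ∃ D, D = M ⊓ Subgroup.centralizer (Q : Set G) := ⟨_, rfl⟩
  have hDp : IsPGroup p D := by
    apply isPGroup_of_coprime_trivial
    intro x hx hcop
    rw [hD] at hx
    have hxK := hcopK x (Subgroup.mem_inf.1 hx).1 hcop
    have hxQ : x ∈ Q := by
      rw [hQ]; apply hKchar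
      rw [← hQ]
      exact Subgroup.mem_inf.2 ⟨hxK, (Subgroup.mem_inf.1 hx).2⟩
    obtain ⟨k, hk⟩ := hQp ⟨x, hxQ⟩
    exact eq_one_of_coprime_of_pow x ⟨k, by simpa using congrArg Subtype.val hk⟩ hcop
  have hMND : M ≤ Subgroup.normalizer (D : Set G) := by
    rw [hD]
    exact le_normalizer_inf M _ M Subgroup.le_normalizer
      (hMNQ.trans (normalizer_le_normalizer_centralizer Q))
  have hDM : D ≤ pCoreOf p M := le_pCoreOf M D (by rw [hD]; exact inf_le_left) hDp hMND
  have hMchar : M ⊓ Subgroup.centralizer (pCoreOf p M : Set G) ≤ pCoreOf p M := by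
    intro x hx
    apply hDM
    rw [hD]
    have h3 : Subgroup.centralizer (pCoreOf p M : Set G) ≤ Subgroup.centralizer (Q : Set G) :=
      Subgroup.centralizer_le hQM
    exact Subgroup.mem_inf.2 ⟨(Subgroup.mem_inf.1 hx).1, h3 (Subgroup.mem_inf.1 hx).2⟩
  have hTsylM : SylIn p M T := hT.of_le M hTM hMH
  obtain ⟨h1, -, -⟩ := zL_structure' M hMchar
  obtain ⟨ZM, hZM⟩ : ∃ ZM, ZM = sylowCenterClosure p M := ⟨_, rfl⟩
  obtain ⟨R, hR⟩ : ∃ R, R = (pResidual p ↥M).map M.subtype := ⟨_, rfl⟩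
  rw [← hZM, ← hR] at h1
  have hRK : R ≤ K := by
    rw [hR, pResidual_map_subtype, Subgroup.closure_le]
    intro x hx
    exact hcopK x hx.1 hx.2
  have hZMM : ZM ≤ M := by rw [hZM]; exact sylowCenterClosure_le p M
  have hMNZM : M ≤ Subgroup.normalizer (ZM : Set G) := by
    rw [hZM]
    exact le_normalizer_of_conj_mem _ M (fun a ha x hx => sylowCenterClosure_conj_mem p M ha hx)
  have hMNR : M ≤ Subgroup.normalizer (R : Set G) := by
    rw [hR]; have := pResidual_normal' p ↥M; exact le_normalizer_map_subtype M _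
  have hcommK : ⁅ZM, R⁆ ≤ K := by
    rw [Subgroup.commutator_le]
    intro z hz r hr
    have h2 : z * r * z⁻¹ ∈ K :=
      (Subgroup.mem_normalizer_iff.1 (hMNK (hZMM hz)) r).1 (hRK hr)
    have h3 : ⁅z, r⁆ = (z * r * z⁻¹) * r⁻¹ := by rw [commutatorElement_def]
    rw [h3]
    exact K.mul_mem h2 (K.inv_mem (hRK hr))
  have hZZM : Z ≤ ZM := by
    obtain ⟨S, hS⟩ := (sylIn_iff_exists_sylow hTM).2 hTsylM
    rw [hZ, hZM, sylowCenterClosure_def]
    have := le_iSup (fun S : Sylow p M =>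
      omegaOne p ((S : Subgroup _).map M.subtype ⊓
        Subgroup.centralizer (((S : Subgroup _).map M.subtype : Subgroup G) : Set G))) S
    rw [hS, Subgroup.map_subgroupOf_eq_of_le hTM] at this
    exact this
  have hcen : omegaOne p (M ⊓ Subgroup.centralizer (M : Set G)) ≤ Z := by
    intro x hx
    have h2 := omegaOne_center_mem p M hx
    have h3 : Subgroup.centralizer (M : Set G) ≤ Subgroup.centralizer (pCoreOf p M : Set G) :=
      Subgroup.centralizer_le (pCoreOf_le p M)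
    have h4 : Subgroup.centralizer (M : Set G) ≤ Subgroup.centralizer (T : Set G) :=
      Subgroup.centralizer_le hTM
    have h5 : x ∈ pCoreOf p M := hMchar (Subgroup.mem_inf.2 ⟨h2.1.1, h3 h2.1.2⟩)
    rw [hZ]
    exact mem_omegaOne_center (hTsylM.core_le h5) (h4 h2.1.2) h2.2
  have hDn : M ≤ Subgroup.normalizer ((⁅ZM, R⁆ : Subgroup G) : Set G) :=
    le_normalizer_commutator ZM R M hMNZM hMNR
  have hZmem : ∀ x ∈ Z, (x ∈ T ∧ x ∈ Subgroup.centralizer (T : Set G)) ∧ x ^ p = 1 := by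
    intro x hx
    rw [hZ] at hx
    exact omegaOne_center_mem p T hx
  intro x hx
  rw [Subgroup.mem_centralizer_iff]
  intro z hz
  have hz1 : z ∈ ZM := hZZM hz
  rw [h1] at hz1
  have hz2 : z ∈ ((omegaOne p (M ⊓ Subgroup.centralizer (M : Set G)) ⊔ ⁅ZM, R⁆ : Subgroup G) :
      Set G) := hz1
  have hle : omegaOne p (M ⊓ Subgroup.centralizer (M : Set G)) ≤
      Subgroup.normalizer ((⁅ZM, R⁆ : Subgroup G) : Set G) :=
    ((omegaOne_center_le p M).trans inf_le_left).trans hDn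
  rw [Subgroup.coe_mul_of_left_le_normalizer_right _ _ hle] at hz2
  obtain ⟨a, ha, d, hd, rfl⟩ := Set.mem_mul.1 hz2
  have haZ : a ∈ Z := hcen ha
  have hdZ : d ∈ Z := by
    have : d = a⁻¹ * (a * d) := by group
    rw [this]; exact Z.mul_mem (Z.inv_mem haZ) hz
  have hdK : d ∈ K := hcommK hd
  have hdmem := hZmem d hdZ
  have hdTL : d ∈ TL := by rw [hTL]; exact Subgroup.mem_inf.2 ⟨hdmem.1.1, hKL hdK⟩
  have hCT : Subgroup.centralizer (T : Set G) ≤ Subgroup.centralizer (TL : Set G) :=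
    Subgroup.centralizer_le hTLT
  have hdZL : d ∈ ZL := by
    rw [hZL]; exact mem_omegaOne_center hdTL (hCT hdmem.1.2) hdmem.2
  have hxC : x ∈ Subgroup.centralizer (ZL : Set G) := by
    rw [hK] at hx; exact (Subgroup.mem_inf.1 hx).2
  have hxd := (Subgroup.mem_centralizer_iff.1 hxC) d hdZL
  have hac := (omegaOne_center_mem p M ha).1.2
  have hxa := (Subgroup.mem_centralizer_iff.1 hac) x (hKM hx)
  calc a * d * x = a * (d * x) := by group
    _ = a * (x * d) := by rw [hxd]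
    _ = (a * x) * d := by group
    _ = (x * a) * d := by rw [hxa]
    _ = x * (a * d) := by group

/-- Kieler's lemma, normal case. -/
theorem kieler_step (H T L : Subgroup G)
    (hH : H ⊓ Subgroup.centralizer (pCoreOf p H : Set G) ≤ pCoreOf p H)
    (hT : SylIn p H T) (hLH : L ≤ H) (hHL : H ≤ Subgroup.normalizer (L : Set G)) :
    L ⊓ Subgroup.centralizer
      ((omegaOne p (T ⊓ Subgroup.centralizer (T : Set G)) : Subgroup G) : Set G) =
    L ⊓ Subgroup.centralizer ((omegaOne p ((T ⊓ L) ⊓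
      Subgroup.centralizer ((T ⊓ L : Subgroup G) : Set G)) : Subgroup G) : Set G) :=
  le_antisymm (le_inf inf_le_left (kieler_step_le H T L hH hT hLH hHL))
    (le_inf inf_le_left (kieler_step_ge H T L hH hT hLH hHL))

/-- **S2805** Kieler's lemma. -/
theorem kieler_lemma (hG : Subgroup.centralizer (pCore p G : Set G) ≤ pCore p G) (T : Sylow p G)
    (L : Subgroup G) (hL : L.IsSubnormal) :
    L ⊓ Subgroup.centralizer ((omegaOne p ((T : Subgroup G) ⊓
      Subgroup.centralizer ((T : Subgroup G) : Set G))) : Set G) =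
    L ⊓ Subgroup.centralizer ((omegaOne p (((T : Subgroup G) ⊓ L) ⊓
      Subgroup.centralizer ((((T : Subgroup G) ⊓ L) : Subgroup G) : Set G))) : Set G) := by
  have key : (L ⊓ Subgroup.centralizer (pCoreOf p L : Set G) ≤ pCoreOf p L ∧
      SylIn p L ((T : Subgroup G) ⊓ L)) ∧
      L ⊓ Subgroup.centralizer ((omegaOne p ((T : Subgroup G) ⊓
        Subgroup.centralizer ((T : Subgroup G) : Set G))) : Set G) =
      L ⊓ Subgroup.centralizer ((omegaOne p (((T : Subgroup G) ⊓ L) ⊓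
        Subgroup.centralizer ((((T : Subgroup G) ⊓ L) : Subgroup G) : Set G))) : Set G) := by
    induction hL with
    | top =>
      refine ⟨⟨charp_top_iff.2 hG, ?_⟩, ?_⟩
      · rw [inf_top_eq]; exact sylIn_top T
      · rw [inf_top_eq]
    | step B K hle hK hN ih =>
      have hKB : K ≤ Subgroup.normalizer (B : Set G) :=
        (Subgroup.normal_subgroupOf_iff_le_normalizer hle).1 hN
      obtain ⟨⟨ih1, ih2⟩, ih3⟩ := ih
      have hTB : ((T : Subgroup G) ⊓ K) ⊓ B = (T : Subgroup G) ⊓ B := by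
        rw [inf_assoc, inf_eq_right.2 hle]
      have hstep := kieler_step K ((T : Subgroup G) ⊓ K) B ih1 ih2 hle hKB
      rw [hTB] at hstep
      refine ⟨⟨charp_normal_rel K B ih1 hle hKB, ?_⟩, ?_⟩
      · have := ih2.inf B hle hKB
        rw [hTB] at this
        exact this
      · rw [← hstep]
        have h1 : B ⊓ Subgroup.centralizer ((omegaOne p ((T : Subgroup G) ⊓
            Subgroup.centralizer ((T : Subgroup G) : Set G))) : Set G) =
            B ⊓ (K ⊓ Subgroup.centralizer ((omegaOne p ((T : Subgroup G) ⊓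
            Subgroup.centralizer ((T : Subgroup G) : Set G))) : Set G)) := by
          rw [← inf_assoc, inf_eq_left.2 hle]
        rw [h1, ih3, ← inf_assoc, inf_eq_left.2 hle]
  exact key.2

end

end Cfsg.Agent.Lib.helper14
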