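import Mathlib
import Cfsg.Prelude.Def_Transfer
import Cfsg.Prelude.Def_MonsterType
import Cfsg.Agent.Lib.helper14.LES2

set_option autoImplicit false

namespace Cfsg.Agent.Lib.helper14

universe u

section LES11

variable {G : Type u} [Group G]

/-- Abstract data of a 2-subgroup `P` of symplectic type and exponent dividing 4, with central
involution `c`, containing its centralizer and normalized by the centralizer of `c`. -/
structure ES4 (P : Subgroup G) (c : G) : Prop where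
  mem : c ∈ P
  ne : c ≠ 1
  sq : c * c = 1
  cen : ∀ x ∈ P, x * c = c * x
  comm : ∀ x ∈ P, ∀ y ∈ P, x * y * x⁻¹ * y⁻¹ = 1 ∨ x * y * x⁻¹ * y⁻¹ = c
  sqs : ∀ x ∈ P, x * x = 1 ∨ x * x = c
  zen : ∀ x ∈ P, (∀ y ∈ P, y * x = x * y) → x * x = 1 → x = 1 ∨ x = c
  self : ∀ h : G, (∀ y ∈ P, h * y = y * h) → h ∈ P
  nor : ∀ h : G, h * c = c * h → ∀ y ∈ P, h * y * h⁻¹ ∈ P

theorem ES4.toES2 {P : Subgroup G} {c : G} (h : ES4 P c)
    (hc : ∀ x ∈ P, (∀ y ∈ P, y * x = x * y) → x * x = 1) : ES2 P c :=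
  ⟨h.mem, h.ne, h.sq, h.cen, h.comm, h.sqs, fun x hx hx' => h.zen x hx hx' (hc x hx hx'), h.self,
    h.nor⟩

theorem ES4.conj {P : Subgroup G} {c : G} (h : ES4 P c) (g : G) :
    ES4 (P.map (MulAut.conj g).toMonoidHom) (g * c * g⁻¹) := by
  have key : ∀ x, x ∈ P.map (MulAut.conj g).toMonoidHom ↔ g⁻¹ * x * g ∈ P := mem_conj_iff P g
  refine ⟨conj_mem_conj P g h.mem, ?_, ?_, ?_, ?_, ?_, ?_, ?_, ?_⟩
  · intro e
    apply h.ne
    calc c = g⁻¹ * (g * c * g⁻¹) * g := by group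
      _ = 1 := by rw [e]; group
  · calc g * c * g⁻¹ * (g * c * g⁻¹) = g * (c * c) * g⁻¹ := by group
      _ = 1 := by rw [h.sq]; group
  · intro x hx
    rw [key] at hx
    have := h.cen _ hx
    calc x * (g * c * g⁻¹) = g * ((g⁻¹ * x * g) * c) * g⁻¹ := by group
      _ = g * (c * (g⁻¹ * x * g)) * g⁻¹ := by rw [this]
      _ = g * c * g⁻¹ * x := by group
  · intro x hx y hy
    rw [key] at hx hy
    have e0 : x * y * x⁻¹ * y⁻¹ = g * ((g⁻¹ * x * g) * (g⁻¹ * y * g) * (g⁻¹ * x * g)⁻¹ *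
        (g⁻¹ * y * g)⁻¹) * g⁻¹ := by group
    rcases h.comm _ hx _ hy with e | e
    · left
      rw [e0, e]; group
    · right
      rw [e0, e]
  · intro x hx
    rw [key] at hx
    have e0 : x * x = g * ((g⁻¹ * x * g) * (g⁻¹ * x * g)) * g⁻¹ := by group
    rcases h.sqs _ hx with e | e
    · left
      rw [e0, e]; group
    · right
      rw [e0, e]
  · intro x hx hc hxx
    rw [key] at hx
    have h1 := h.zen _ hx (by
      intro y hy
      have := hc _ (conj_mem_conj P g hy)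
      calc y * (g⁻¹ * x * g) = g⁻¹ * ((g * y * g⁻¹) * x) * g := by group
        _ = g⁻¹ * (x * (g * y * g⁻¹)) * g := by rw [this]
        _ = g⁻¹ * x * g * y := by group) (by
      calc (g⁻¹ * x * g) * (g⁻¹ * x * g) = g⁻¹ * (x * x) * g := by group
        _ = 1 := by rw [hxx]; group)
    rcases h1 with e | e
    · left
      calc x = g * (g⁻¹ * x * g) * g⁻¹ := by group
        _ = 1 := by rw [e]; group
    · right
      calc x = g * (g⁻¹ * x * g) * g⁻¹ := by group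
        _ = g * c * g⁻¹ := by rw [e]
  · intro k hk
    rw [key]
    apply h.self
    intro y hy
    have := hk _ (conj_mem_conj P g hy)
    calc g⁻¹ * k * g * y = g⁻¹ * (k * (g * y * g⁻¹)) * g := by group
      _ = g⁻¹ * ((g * y * g⁻¹) * k) * g := by rw [this]
      _ = y * (g⁻¹ * k * g) := by group
  · intro k hk y hy
    rw [key] at hy ⊢
    have hk' : (g⁻¹ * k * g) * c = c * (g⁻¹ * k * g) := by
      calc (g⁻¹ * k * g) * c = g⁻¹ * (k * (g * c * g⁻¹)) * g := by group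
        _ = g⁻¹ * ((g * c * g⁻¹) * k) * g := by rw [hk]
        _ = c * (g⁻¹ * k * g) := by group
    have := h.nor _ hk' _ hy
    have e : g⁻¹ * (k * y * k⁻¹) * g = (g⁻¹ * k * g) * (g⁻¹ * y * g) * (g⁻¹ * k * g)⁻¹ := by
      group
    rw [e]; exact this


/-- The setting for the proof by contradiction of the symmetry lemma. -/
structure LSet4 (Q P : Subgroup G) (z a g : G) : Prop where
  hQ : ES4 Q z
  hP : ES4 P a
  ha : a ∈ Q
  haz : a ≠ z
  hzn : z ∉ P
  hag : a = g * z * g⁻¹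
  hPm : ∀ x, x ∈ P ↔ g⁻¹ * x * g ∈ Q

namespace LSet4

variable {Q P : Subgroup G} {z a g : G} (S : LSet4 Q P z a g)
include S

theorem zinv : z⁻¹ = z := inv_eq_of_mul_eq_one_left S.hQ.sq
theorem ainv : a⁻¹ = a := inv_eq_of_mul_eq_one_left S.hP.sq
theorem az : a * z = z * a := S.hQ.cen a S.ha

theorem exists_v : ∃ v ∈ Q, v * a * v⁻¹ = z * a := by
  by_contra hcon
  push Not at hcon
  have h1 : ∀ y ∈ Q, y * a = a * y := by
    intro y hy
    rcases S.hQ.comm y hy a S.ha with e | e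
    · calc y * a = (y * a * y⁻¹ * a⁻¹) * a * y := by group
        _ = a * y := by rw [e]; group
    · exfalso
      apply hcon y hy
      calc y * a * y⁻¹ = (y * a * y⁻¹ * a⁻¹) * a := by group
        _ = z * a := by rw [e]
  rcases S.hQ.zen a S.ha h1 S.hP.sq with e | e
  · exact S.hP.ne e
  · exact S.haz e

theorem idx {v : G} (hv : v * a * v⁻¹ = z * a) {q : G} (hq : q ∈ Q) :
    q * a = a * q ∨ (v⁻¹ * q) * a = a * (v⁻¹ * q) := by
  rcases S.hQ.comm q hq a S.ha with e | e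
  · left
    calc q * a = (q * a * q⁻¹ * a⁻¹) * a * q := by group
      _ = a * q := by rw [e]; group
  · right
    have e1 : q * a * q⁻¹ = v * a * v⁻¹ := by
      rw [hv]
      calc q * a * q⁻¹ = (q * a * q⁻¹ * a⁻¹) * a := by group
        _ = z * a := by rw [e]
    calc (v⁻¹ * q) * a = v⁻¹ * (q * a * q⁻¹) * q := by group
      _ = v⁻¹ * (v * a * v⁻¹) * q := by rw [e1]
      _ = a * (v⁻¹ * q) := by group

theorem hav {v : G} (hv : v * a * v⁻¹ = z * a) : a * v = z * (v * a) := by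
  calc a * v = (z * z) * a * v := by rw [S.hQ.sq, one_mul]
    _ = z * (z * a) * v := by group
    _ = z * (v * a * v⁻¹) * v := by rw [hv]
    _ = z * (v * a) := by group

theorem cen_crit {v : G} (hvQ : v ∈ Q) (hv : v * a * v⁻¹ = z * a) {m : G} (hm : m ∈ Q)
    (hmv : m * v = v * m) (hmR : ∀ r ∈ Q, r * a = a * r → m * r = r * m) :
    ∀ q ∈ Q, q * m = m * q := by
  intro q hq
  rcases S.idx hv hq with e | e
  · exact (hmR q hq e).symm
  · have h2 := hmR (v⁻¹ * q) (Q.mul_mem (Q.inv_mem hvQ) hq) e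
    calc q * m = v * ((v⁻¹ * q) * m) := by group
      _ = v * (m * (v⁻¹ * q)) := by rw [h2]
      _ = (v * m) * v⁻¹ * q := by group
      _ = (m * v) * v⁻¹ * q := by rw [hmv]
      _ = m * q := by group

theorem zR {v : G} (hvQ : v ∈ Q) (hv : v * a * v⁻¹ = z * a) {n : G} (hn : n ∈ Q)
    (hnR : ∀ r ∈ Q, r * a = a * r → n * r = r * n) :
    (∀ q ∈ Q, q * n = n * q) ∨ (∀ q ∈ Q, q * (n * a) = (n * a) * q) := by
  rcases S.hQ.comm n hn v hvQ with e | e
  · have h1 : n * v = v * n := by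
      calc n * v = (n * v * n⁻¹ * v⁻¹) * v * n := by group
        _ = v * n := by rw [e]; group
    left
    exact S.cen_crit hvQ hv hn h1 hnR
  · have hnv : n * v = z * v * n := by
      calc n * v = (n * v * n⁻¹ * v⁻¹) * v * n := by group
        _ = z * v * n := by rw [e]
    have hna : (n * a) * v = v * (n * a) := by
      calc (n * a) * v = n * (a * v) := by group
        _ = n * (z * (v * a)) := by rw [S.hav hv]
        _ = (n * z) * v * a := by group
        _ = (z * n) * v * a := by rw [S.hQ.cen n hn]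
        _ = z * (n * v) * a := by group
        _ = z * (z * v * n) * a := by rw [hnv]
        _ = (z * z) * v * n * a := by group
        _ = v * (n * a) := by rw [S.hQ.sq]; group
    have hnaR : ∀ r ∈ Q, r * a = a * r → (n * a) * r = r * (n * a) := by
      intro r hr hra
      calc (n * a) * r = n * (a * r) := by group
        _ = n * (r * a) := by rw [hra]
        _ = (n * r) * a := by group
        _ = (r * n) * a := by rw [hnR r hr hra]
        _ = r * (n * a) := by group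
    right
    exact S.cen_crit hvQ hv (Q.mul_mem hn S.ha) hna hnaR

/-- A central element of `Q` lying in `P` is trivial. -/
theorem cenP {m : G} (hmQ : m ∈ Q) (hmP : m ∈ P) (hc : ∀ q ∈ Q, q * m = m * q) : m = 1 := by
  have hmm : m * m = 1 := by
    rcases S.hQ.sqs m hmQ with e | e
    · exact e
    · exfalso; apply S.hzn; rw [← e]; exact P.mul_mem hmP hmP
  rcases S.hQ.zen m hmQ hc hmm with e | e
  · exact e
  · exfalso; apply S.hzn; rw [← e]; exact hmP

theorem inter {n : G} (hnQ : n ∈ Q) (hnP : n ∈ P) : n = 1 ∨ n = a := by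
  obtain ⟨v, hvQ, hv⟩ := S.exists_v
  have hnR : ∀ r ∈ Q, r * a = a * r → n * r = r * n := by
    intro r hr hra
    rcases S.hQ.comm n hnQ r hr with e | e
    · calc n * r = (n * r * n⁻¹ * r⁻¹) * r * n := by group
        _ = r * n := by rw [e]; group
    · exfalso
      apply S.hzn
      rw [← e]
      have h1 : r * n⁻¹ * r⁻¹ ∈ P := S.hP.nor r hra n⁻¹ (P.inv_mem hnP)
      have : n * r * n⁻¹ * r⁻¹ = n * (r * n⁻¹ * r⁻¹) := by group
      rw [this]
      exact P.mul_mem hnP h1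
  rcases S.zR hvQ hv hnQ hnR with h | h
  · left; exact S.cenP hnQ hnP h
  · right
    have h1 := S.cenP (Q.mul_mem hnQ S.ha) (P.mul_mem hnP S.hP.mem) h
    calc n = (n * a) * a⁻¹ := by group
      _ = a := by rw [h1, S.ainv, one_mul]

theorem vinv {v : G} (hvQ : v ∈ Q) (hv : v * a * v⁻¹ = z * a) : v⁻¹ * a * v = z * a := by
  have hzv : v⁻¹ * z = z * v⁻¹ := S.hQ.cen _ (Q.inv_mem hvQ)
  calc v⁻¹ * a * v = (z * z) * (v⁻¹ * a * v) := by rw [S.hQ.sq, one_mul]
    _ = z * (z * v⁻¹) * a * v := by group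
    _ = z * (v⁻¹ * z) * a * v := by rw [hzv]
    _ = z * (v⁻¹ * (z * a) * v) := by group
    _ = z * (v⁻¹ * (v * a * v⁻¹) * v) := by rw [hv]
    _ = z * a := by group

theorem claim2 {x : G} (hx : x ∈ P) : x * z * x⁻¹ ≠ a * z := by
  intro e
  obtain ⟨v, hvQ, hv⟩ := S.exists_v
  apply S.hzn
  have hcz : ((v * g)⁻¹ * x) * z = z * ((v * g)⁻¹ * x) := by
    have h1 : v⁻¹ * (a * z) * v = a := by
      rw [S.az, ← hv]; group
    have h2 : g⁻¹ * a * g = z := by rw [S.hag]; group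
    calc ((v * g)⁻¹ * x) * z = (v * g)⁻¹ * (x * z * x⁻¹) * x := by group
      _ = (v * g)⁻¹ * (a * z) * x := by rw [e]
      _ = g⁻¹ * (v⁻¹ * (a * z) * v) * g * ((v * g)⁻¹ * x) := by group
      _ = g⁻¹ * a * g * ((v * g)⁻¹ * x) := by rw [h1]
      _ = z * ((v * g)⁻¹ * x) := by rw [h2]
  have h3 : ((v * g)⁻¹ * x) * a * ((v * g)⁻¹ * x)⁻¹ ∈ Q := S.hQ.nor _ hcz a S.ha
  have hxa : x * a = a * x := S.hP.cen x hx
  have h4 : ((v * g)⁻¹ * x) * a * ((v * g)⁻¹ * x)⁻¹ = g⁻¹ * (v⁻¹ * a * v) * g := by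
    calc ((v * g)⁻¹ * x) * a * ((v * g)⁻¹ * x)⁻¹ = (v * g)⁻¹ * (x * a) * x⁻¹ * (v * g) := by group
      _ = (v * g)⁻¹ * (a * x) * x⁻¹ * (v * g) := by rw [hxa]
      _ = g⁻¹ * (v⁻¹ * a * v) * g := by group
  rw [h4, ← S.hPm, S.vinv hvQ hv] at h3
  have : z = (z * a) * a⁻¹ := by group
  rw [this]
  exact P.mul_mem h3 (P.inv_mem S.hP.mem)

theorem tr {t r : G} (ht : t ∈ P) (htz : t * z = z * t) (hr : r ∈ Q) (hra : r * a = a * r) :
    t * r * t⁻¹ * r⁻¹ = 1 ∨ t * r * t⁻¹ * r⁻¹ = a := by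
  apply S.inter
  · exact Q.mul_mem (S.hQ.nor t htz r hr) (Q.inv_mem hr)
  · have h1 := S.hP.nor r hra t⁻¹ (P.inv_mem ht)
    have : t * r * t⁻¹ * r⁻¹ = t * (r * t⁻¹ * r⁻¹) := by group
    rw [this]; exact P.mul_mem ht h1

theorem e1 {x : G} (hx : x ∈ P) (h : z * x * z⁻¹ * x⁻¹ = 1 ∨ z * x * z⁻¹ * x⁻¹ = a) :
    z * x = x * z := by
  rcases h with e | e
  · calc z * x = (z * x * z⁻¹ * x⁻¹) * x * z := by group
      _ = x * z := by rw [e]; group
  · exfalso
    apply S.claim2 hx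
    calc x * z * x⁻¹ = (z * x * z⁻¹ * x⁻¹)⁻¹ * z := by group
      _ = a⁻¹ * z := by rw [e]
      _ = a * z := by rw [S.ainv]

theorem zP {w : G} (hw : w ∈ P) : z * w * z⁻¹ ∈ P := S.hP.nor z S.az.symm w hw

theorem ycomm {x : G} (hx : x ∈ P) :
    z * (z * x * z⁻¹ * x⁻¹) = (z * x * z⁻¹ * x⁻¹) * z := by
  have hy : z * x * z⁻¹ * x⁻¹ ∈ P := P.mul_mem (S.zP hx) (P.inv_mem hx)
  apply S.e1 hy
  have h0 : z * (z * x * z⁻¹ * x⁻¹) * z⁻¹ * (z * x * z⁻¹ * x⁻¹) = 1 := by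
    calc z * (z * x * z⁻¹ * x⁻¹) * z⁻¹ * (z * x * z⁻¹ * x⁻¹)
        = (z * z) * x * (z * z)⁻¹ * x⁻¹ := by group
      _ = 1 := by rw [S.hQ.sq]; group
  have h1 : z * (z * x * z⁻¹ * x⁻¹) * z⁻¹ = (z * x * z⁻¹ * x⁻¹)⁻¹ :=
    eq_inv_of_mul_eq_one_left h0
  rw [h1]
  rcases S.hP.sqs _ hy with e | e
  · left
    rw [← mul_inv_rev, e, inv_one]
  · right
    rw [← mul_inv_rev, e, S.ainv]

theorem e3 {r : G} (hr : r ∈ Q) (hra : r * a = a * r) (hrr : r * r = z) {x : G} (hx : x ∈ P)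
    (hc : z * (r * x * r⁻¹ * x⁻¹) = (r * x * r⁻¹ * x⁻¹) * z) : z * x = x * z := by
  have hcP : r * x * r⁻¹ * x⁻¹ ∈ P := P.mul_mem (S.hP.nor r hra x hx) (P.inv_mem hx)
  apply S.e1 hx
  have hid : z * x * z⁻¹ * x⁻¹ = ((r * x * r⁻¹ * x⁻¹) * r * (r * x * r⁻¹ * x⁻¹)⁻¹ * r⁻¹)⁻¹ *
      ((r * x * r⁻¹ * x⁻¹) * (r * x * r⁻¹ * x⁻¹)) := by
    rw [← hrr]
    simp only [mul_inv_rev, inv_inv, mul_assoc, inv_mul_cancel_left, mul_inv_cancel_left,
      mul_inv_cancel, inv_mul_cancel, mul_one, one_mul]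
  rw [hid]
  rcases S.tr hcP hc.symm hr hra with e | e <;> rcases S.hP.sqs _ hcP with f | f
  · left; rw [e, f]; simp
  · right; rw [e, f]; simp
  · right; rw [e, f, S.ainv]; simp
  · left; rw [e, f, S.ainv, S.hP.sq]

theorem cent_of_r {r : G} (hr : r ∈ Q) (hra : r * a = a * r) (hrr : r * r = z) {x : G}
    (hx : x ∈ P) : z * x = x * z := by
  have hc1P : r * x * r⁻¹ * x⁻¹ ∈ P := P.mul_mem (S.hP.nor r hra x hx) (P.inv_mem hx)
  apply S.e3 hr hra hrr hx
  apply S.e3 hr hra hrr hc1P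
  have hid : r * (r * x * r⁻¹ * x⁻¹) * r⁻¹ * (r * x * r⁻¹ * x⁻¹)⁻¹ =
      (z * x * z⁻¹ * x⁻¹) * ((x * (r * x * r⁻¹)⁻¹) * (x * (r * x * r⁻¹)⁻¹)) := by
    rw [← hrr]
    simp only [mul_inv_rev, inv_inv, mul_assoc, inv_mul_cancel_left, mul_inv_cancel_left,
      mul_inv_cancel, inv_mul_cancel, mul_one, one_mul]
  rw [hid]
  have hsP : x * (r * x * r⁻¹)⁻¹ ∈ P := P.mul_mem hx (P.inv_mem (S.hP.nor r hra x hx))
  have hy := S.ycomm hx
  rcases S.hP.sqs _ hsP with f | f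
  · rw [f, mul_one]; exact hy
  · rw [f]
    calc z * (z * x * z⁻¹ * x⁻¹ * a) = (z * (z * x * z⁻¹ * x⁻¹)) * a := by group
      _ = ((z * x * z⁻¹ * x⁻¹) * z) * a := by rw [hy]
      _ = (z * x * z⁻¹ * x⁻¹) * (z * a) := by group
      _ = (z * x * z⁻¹ * x⁻¹) * (a * z) := by rw [S.az]
      _ = (z * x * z⁻¹ * x⁻¹ * a) * z := by group

end LSet4

/-- **Symmetry of orthogonality** for 2-subgroups of symplectic type and exponent 4: if
`g z g⁻¹ ∈ Q` then `z ∈ g Q g⁻¹`. -/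
theorem les4_sym {Q : Subgroup G} {z : G} (hQ : ES4 Q z) (g : G) (ha : g * z * g⁻¹ ∈ Q) :
    z ∈ Q.map (MulAut.conj g).toMonoidHom := by
  by_cases haz : g * z * g⁻¹ = z
  · have := conj_mem_conj Q g hQ.mem
    rw [haz] at this; exact this
  · by_contra hzn
    have S : LSet4 Q (Q.map (MulAut.conj g).toMonoidHom) z (g * z * g⁻¹) g :=
      ⟨hQ, hQ.conj g, ha, haz, hzn, rfl, mem_conj_iff Q g⟩
    by_cases hr : ∃ r ∈ Q, r * (g * z * g⁻¹) = (g * z * g⁻¹) * r ∧ r * r = z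
    · obtain ⟨r, hr, hra, hrr⟩ := hr
      exact hzn (S.hP.self z (fun y hy => S.cent_of_r hr hra hrr hy))
    · push Not at hr
      have h2 : ES2 Q z := by
        apply hQ.toES2
        intro x hx hxc
        rcases hQ.sqs x hx with e | e
        · exact e
        · exact absurd e (hr x hx (hxc _ ha).symm)
      exact hzn (les_sym h2 g ha)

/-- An involution of `Q` other than `z` is conjugate in `Q` to its product with `z`. -/
theorem ES4.exists_v {Q : Subgroup G} {z a : G} (hQ : ES4 Q z) (ha : a ∈ Q) (haa : a * a = 1)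
    (ha1 : a ≠ 1) (haz : a ≠ z) : ∃ v ∈ Q, v * a * v⁻¹ = z * a := by
  by_contra hcon
  push Not at hcon
  have h1 : ∀ y ∈ Q, y * a = a * y := by
    intro y hy
    rcases hQ.comm y hy a ha with e | e
    · calc y * a = (y * a * y⁻¹ * a⁻¹) * a * y := by group
        _ = a * y := by rw [e]; group
    · exfalso
      apply hcon y hy
      calc y * a * y⁻¹ = (y * a * y⁻¹ * a⁻¹) * a := by group
        _ = z * a := by rw [e]
  rcases hQ.zen a ha h1 haa with e | e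
  · exact ha1 e
  · exact haz e

end LES11

end Cfsg.Agent.Lib.helper14
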