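import Cfsg.Agent.Lib.helper14.PIrredQuot

set_option autoImplicit false

namespace Cfsg.Agent.Lib.helper14

open Cfsg
open scoped commutatorElement Pointwise

variable {G : Type*} [Group G]

theorem isPClosed_congr {A B : Type*} [Group A] [Group B] [Finite A] {p : ℕ} [Fact p.Prime]
    (e : A ≃* B) (h : IsPClosed p A) : IsPClosed p B :=
  isPClosed_map e.toMonoidHom e.surjective h

theorem pIrreducible_module_centralizers [Finite G] {p : ℕ} [Fact p.Prime] (V H : Subgroup G)
    (hH : IsPIrreducible p ↥H)
    (hnc : ¬ (pResidual p ↥H).map H.subtype ≤ Subgroup.centralizer (V : Set G))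
    [hn : ((Subgroup.centralizer (V : Set G)).subgroupOf H).Normal] :
    IsPClosed p ↥(H ⊓ Subgroup.centralizer (V : Set G)) ∧
    (∀ T : Subgroup G, T ≤ H → IsPGroup p ↥T →
      T ⊓ Subgroup.centralizer (V : Set G) ≤ pCoreOf p H) ∧
    (pCoreOf p H ≤ Subgroup.centralizer (V : Set G) →
      (∀ T : Subgroup G, T ≤ H → IsPGroup p ↥T →
        T ⊓ Subgroup.centralizer (V : Set G) = T ⊓ pCoreOf p H) ∧
      pCore p (↥H ⧸ (Subgroup.centralizer (V : Set G)).subgroupOf H) = ⊥) := by
  set C : Subgroup ↥H := (Subgroup.centralizer (V : Set G)).subgroupOf H with hC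
  have hnc' : ¬ pResidual p ↥H ≤ C := by
    intro hle
    apply hnc
    rintro _ ⟨x, hx, rfl⟩
    exact Subgroup.mem_subgroupOf.1 (hle hx)
  have hCcl : IsPClosed p ↥C := by
    by_contra hcl
    exact hnc' (hH.2 C hn hcl)
  have h2 : ∀ T : Subgroup G, T ≤ H → IsPGroup p ↥T →
      T ⊓ Subgroup.centralizer (V : Set G) ≤ pCoreOf p H := by
    intro T hTH hT
    have hYp : IsPGroup p ((T ⊓ Subgroup.centralizer (V : Set G)).subgroupOf H) :=
      (hT.to_le inf_le_left).comap_subtype
    have hYC : (T ⊓ Subgroup.centralizer (V : Set G)).subgroupOf H ≤ C := by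
      intro x hx
      rw [Subgroup.mem_subgroupOf] at hx
      exact Subgroup.mem_subgroupOf.2 hx.2
    have := le_pCore_of_pClosed_normal C hCcl _ hYC hYp
    intro x hx
    exact ⟨⟨x, hTH hx.1⟩, this (Subgroup.mem_subgroupOf.2 hx), rfl⟩
  refine ⟨?_, h2, ?_⟩
  · have e := Subgroup.subgroupOfEquivOfLe
      (inf_le_left : H ⊓ Subgroup.centralizer (V : Set G) ≤ H)
    rw [Subgroup.inf_subgroupOf_left] at e
    exact isPClosed_congr e hCcl
  · intro hO
    have hO' : pCore p ↥H ≤ C := by
      intro z hz
      exact Subgroup.mem_subgroupOf.2 (hO ⟨z, hz, rfl⟩)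
    refine ⟨?_, ?_⟩
    · intro T hTH hT
      apply le_antisymm
      · exact le_inf inf_le_left (h2 T hTH hT)
      · exact le_inf inf_le_left (inf_le_right.trans hO)
    · set Ob : Subgroup (↥H ⧸ C) := pCore p (↥H ⧸ C) with hOb
      have hObn : Ob.Normal := pCore_normal' p _
      have hObp : IsPGroup p Ob := isPGroup_pCore p _
      set N : Subgroup ↥H := Ob.comap (QuotientGroup.mk' C) with hN
      have hNn : N.Normal := hObn.comap _
      -- p'-elements of N lie in C
      have hp' : ∀ g : ↥H, g ∈ N → (orderOf g).Coprime p → g ∈ C := by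
        intro g hg hcop
        have h1 : QuotientGroup.mk' C g = 1 := by
          apply eq_one_of_coprime_of_pow (p := p)
          · obtain ⟨k, hk⟩ := hObp ⟨_, hg⟩
            refine ⟨k, ?_⟩
            have := congrArg Subtype.val hk
            simpa using this
          · exact Nat.Coprime.coprime_dvd_left (orderOf_map_dvd _ _) hcop
        exact (QuotientGroup.eq_one_iff g).1 h1
      have hNcl : IsPClosed p ↥N := by
        by_contra hcl
        apply hnc'
        have hR := hH.2 N hNn hcl
        show Subgroup.closure {g : ↥H | Nat.Coprime (orderOf g) p} ≤ C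
        rw [Subgroup.closure_le]
        intro g hg
        exact hp' g (hR (Subgroup.subset_closure hg)) hg
      have hNC : N ≤ C := by
        intro n hn'
        have hp : p.Prime := Fact.out
        obtain ⟨a, m, hm, hnm⟩ :=
          Nat.exists_eq_pow_mul_and_not_dvd (orderOf_pos n).ne' p hp.ne_one
        -- n^m is a p-element of N, so lies in O_p(H) ≤ C
        have h1 : n ^ m ∈ C := by
          have hpow : (n ^ m) ^ (p ^ a) = 1 := by
            rw [← pow_mul, mul_comm, ← hnm, pow_orderOf_eq_one]
          have hYp : IsPGroup p (Subgroup.zpowers (n ^ m)) := by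
            obtain ⟨j, -, hj⟩ := (Nat.dvd_prime_pow hp).1 (orderOf_dvd_of_pow_eq_one hpow)
            apply IsPGroup.of_card (n := j)
            rw [Nat.card_zpowers, hj]
          have hYN : Subgroup.zpowers (n ^ m) ≤ N := by
            rw [Subgroup.zpowers_le]
            exact N.pow_mem hn' m
          exact hO' (le_pCore_of_pClosed_normal N hNcl _ hYN hYp (Subgroup.mem_zpowers _))
        have h3 : QuotientGroup.mk' C n = 1 := by
          apply eq_one_of_coprime_of_pow (p := p)
          · obtain ⟨k, hk⟩ := hObp ⟨_, hn'⟩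
            refine ⟨k, ?_⟩
            have := congrArg Subtype.val hk
            simpa using this
          · have hdvd : orderOf (QuotientGroup.mk' C n) ∣ m := by
              apply orderOf_dvd_of_pow_eq_one
              rw [← map_pow]
              exact (QuotientGroup.eq_one_iff _).2 h1
            exact Nat.Coprime.coprime_dvd_left hdvd
              (Nat.Coprime.symm ((Nat.Prime.coprime_iff_not_dvd hp).mpr hm))
        exact (QuotientGroup.eq_one_iff n).1 h3
      rw [eq_bot_iff]
      intro x hx
      obtain ⟨g, rfl⟩ := QuotientGroup.mk'_surjective C x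
      have hg : g ∈ N := hx
      exact Subgroup.mem_bot.2 ((QuotientGroup.eq_one_iff g).2 (hNC hg))

end Cfsg.Agent.Lib.helper14
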