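import Cfsg.Agent.Lib.helper14.PIrred

set_option autoImplicit false

namespace Cfsg.Agent.Lib.helper14

open Cfsg
open scoped commutatorElement Pointwise

variable {A B : Type*} [Group A] [Group B]

theorem isPClosed_map [Finite A] {p : ℕ} [Fact p.Prime] (f : A →* B)
    (hf : Function.Surjective f) (h : IsPClosed p A) : IsPClosed p B := by
  have : Finite B := Finite.of_surjective f hf
  obtain ⟨T⟩ : Nonempty (Sylow p A) := inferInstance
  have hT : (T : Subgroup A).Normal := h T
  apply isPClosed_of_sylow_normal (T.mapSurjective hf)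
  rw [Sylow.coe_mapSurjective]
  exact hT.map f hf

theorem isPClosed_of_map [Finite A] {p : ℕ} [Fact p.Prime] (f : A →* B)
    (hf : Function.Surjective f) (hker : IsPGroup p f.ker) (h : IsPClosed p B) :
    IsPClosed p A := by
  have : Finite B := Finite.of_surjective f hf
  obtain ⟨T⟩ : Nonempty (Sylow p A) := inferInstance
  apply isPClosed_of_sylow_normal T
  have h1 : ((T.mapSurjective hf : Sylow p B) : Subgroup B).Normal := h _
  rw [Sylow.coe_mapSurjective] at h1
  have h2 : ((T : Subgroup A).map f).comap f = (T : Subgroup A) := by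
    rw [Subgroup.comap_map_eq, sup_eq_left]
    exact hker.le_sylow_of_normal T
  rw [← h2]
  exact h1.comap f

theorem pResidual_le_map [Finite A] {p : ℕ} [Fact p.Prime] (f : A →* B)
    (hf : Function.Surjective f) : pResidual p B ≤ (pResidual p A).map f := by
  show Subgroup.closure {g : B | Nat.Coprime (orderOf g) p} ≤ _
  rw [Subgroup.closure_le]
  intro y hy
  obtain ⟨x, rfl⟩ := hf y
  obtain ⟨a, ha⟩ := pow_mem_pResidual p x
  have hcop : (p ^ a).Coprime (orderOf (f x)) := Nat.Coprime.pow_left a (Nat.Coprime.symm hy)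
  obtain ⟨m, hm⟩ := exists_pow_eq_self_of_coprime hcop
  rw [SetLike.mem_coe, ← hm, ← map_pow, ← map_pow]
  exact ⟨_, Subgroup.pow_mem _ ha m, rfl⟩

theorem map_mem_pResidual {p : ℕ} (f : A →* B) {g : A} (hg : (orderOf g).Coprime p) :
    f g ∈ pResidual p B :=
  Subgroup.subset_closure (Nat.Coprime.coprime_dvd_left (orderOf_map_dvd _ _) hg)

theorem pCore_map_le {p : ℕ} (f : A →* B) (hf : Function.Surjective f) :
    (pCore p A).map f ≤ pCore p B :=
  le_pCore ((pCore_normal' p A).map f hf) ((isPGroup_pCore p A).map f)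

theorem pCore_comap_le {p : ℕ} (f : A →* B) (hker : IsPGroup p f.ker) :
    (pCore p B).comap f ≤ pCore p A :=
  le_pCore ((pCore_normal' p B).comap f) ((isPGroup_pCore p B).comap_of_ker_isPGroup f hker)

/-- if the image of a normal subgroup contains `O^p` of the image, and the kernel is a `p`-group,
then the normal subgroup contains `O^p`. -/
theorem pResidual_le_of_map {p : ℕ} (f : A →* B) (hker : IsPGroup p f.ker)
    (N : Subgroup A) [N.Normal] (h : pResidual p B ≤ N.map f) : pResidual p A ≤ N := by
  show Subgroup.closure {g : A | Nat.Coprime (orderOf g) p} ≤ _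
  rw [Subgroup.closure_le]
  intro g hg
  have h1 : f g ∈ N.map f := h (map_mem_pResidual f hg)
  have h2 : g ∈ (N.map f).comap f := h1
  rw [Subgroup.comap_map_eq, sup_comm] at h2
  exact mem_of_coprime_of_mem_sup f.ker N hker hg h2

theorem isPClosed_subgroup_map_iff [Finite A] {p : ℕ} [Fact p.Prime] (f : A →* B)
    (hker : IsPGroup p f.ker) (N : Subgroup A) :
    IsPClosed p ↥(N.map f) ↔ IsPClosed p ↥N := by
  have hk : IsPGroup p (f.subgroupMap N).ker := by
    intro x
    have hx : (x : N).1 ∈ f.ker := by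
      have := x.2
      rw [MonoidHom.mem_ker] at this ⊢
      have h2 := congrArg Subtype.val this
      simpa using h2
    obtain ⟨k, hk⟩ := hker ⟨_, hx⟩
    refine ⟨k, ?_⟩
    have h3 := congrArg Subtype.val hk
    apply Subtype.ext
    apply Subtype.ext
    simpa using h3
  constructor
  · exact isPClosed_of_map (f.subgroupMap N) (f.subgroupMap_surjective N) hk
  · exact isPClosed_map (f.subgroupMap N) (f.subgroupMap_surjective N)

theorem isPIrreducible_iff_map [Finite A] {p : ℕ} [Fact p.Prime] (f : A →* B)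
    (hf : Function.Surjective f) (hker : IsPGroup p f.ker) :
    IsPIrreducible p A ↔ IsPIrreducible p B := by
  have hcl : IsPClosed p A ↔ IsPClosed p B :=
    ⟨isPClosed_map f hf, isPClosed_of_map f hf hker⟩
  constructor
  · rintro ⟨h1, h2⟩
    refine ⟨fun h => h1 (hcl.2 h), ?_⟩
    intro Nb hNb hNbcl
    have hmap : (Nb.comap f).map f = Nb := Subgroup.map_comap_eq_self_of_surjective hf Nb
    have hncl : ¬ IsPClosed p ↥(Nb.comap f) := by
      intro hc
      apply hNbcl
      have := (isPClosed_subgroup_map_iff f hker (Nb.comap f)).2 hc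
      rwa [hmap] at this
    have := h2 _ (hNb.comap f) hncl
    refine (pResidual_le_map f hf).trans ?_
    rw [← hmap]
    exact Subgroup.map_mono this
  · rintro ⟨h1, h2⟩
    refine ⟨fun h => h1 (hcl.1 h), ?_⟩
    intro N hN hNcl
    have := hN
    have hncl : ¬ IsPClosed p ↥(N.map f) := fun hc =>
      hNcl ((isPClosed_subgroup_map_iff f hker N).1 hc)
    exact pResidual_le_of_map f hker N (h2 _ (hN.map f hf) hncl)

theorem isStronglyPIrreducible_iff_map [Finite A] {p : ℕ} [Fact p.Prime] (f : A →* B)
    (hf : Function.Surjective f) (hker : IsPGroup p f.ker) :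
    IsStronglyPIrreducible p A ↔ IsStronglyPIrreducible p B := by
  have hcl : IsPClosed p A ↔ IsPClosed p B :=
    ⟨isPClosed_map f hf, isPClosed_of_map f hf hker⟩
  have hcomm : ∀ N : Subgroup A, (⁅N, (⊤ : Subgroup A)⁆).map f = ⁅N.map f, (⊤ : Subgroup B)⁆ := by
    intro N
    rw [Subgroup.map_commutator, Subgroup.map_top_of_surjective f hf]
  constructor
  · rintro ⟨h1, h2⟩
    refine ⟨fun h => h1 (hcl.2 h), ?_⟩
    intro Nb hNb hNbc
    have hmap : (Nb.comap f).map f = Nb := Subgroup.map_comap_eq_self_of_surjective hf Nb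
    have hnc : ¬ ⁅Nb.comap f, (⊤ : Subgroup A)⁆ ≤ pCore p A := by
      intro hc
      apply hNbc
      rw [← hmap, ← hcomm]
      exact (Subgroup.map_mono hc).trans (pCore_map_le f hf)
    have := h2 _ (hNb.comap f) hnc
    refine (pResidual_le_map f hf).trans ?_
    rw [← hmap]
    exact Subgroup.map_mono this
  · rintro ⟨h1, h2⟩
    refine ⟨fun h => h1 (hcl.1 h), ?_⟩
    intro N hN hNc
    have := hN
    have hnc : ¬ ⁅N.map f, (⊤ : Subgroup B)⁆ ≤ pCore p B := by
      intro hc
      apply hNc
      rw [← hcomm, Subgroup.map_le_iff_le_comap] at hc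
      exact hc.trans (pCore_comap_le f hker)
    exact pResidual_le_of_map f hker N (h2 _ (hN.map f hf) hnc)

theorem pIrreducible_mod_normal_p [Finite A] {p : ℕ} [Fact p.Prime] (D : Subgroup A) [D.Normal]
    (hD : IsPGroup p ↥D) :
    (IsPIrreducible p A ↔ IsPIrreducible p (A ⧸ D)) ∧
      (IsStronglyPIrreducible p A ↔ IsStronglyPIrreducible p (A ⧸ D)) := by
  have hker : IsPGroup p (QuotientGroup.mk' D).ker := by
    rw [QuotientGroup.ker_mk']; exact hD
  exact ⟨isPIrreducible_iff_map _ (QuotientGroup.mk'_surjective D) hker,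
    isStronglyPIrreducible_iff_map _ (QuotientGroup.mk'_surjective D) hker⟩

end Cfsg.Agent.Lib.helper14
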