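import Cfsg.Agent.Lib.helper14.ParabolicChar

set_option autoImplicit false
set_option linter.unusedSectionVars false
set_option linter.unusedVariables false

namespace Cfsg.Agent.Lib.helper14

open Cfsg
open scoped commutatorElement Pointwise

universe u

section
variable {G : Type u} [Group G] [Finite G] {p : ℕ} [Fact p.Prime]

theorem sylIn_inf_subnormal (S : Sylow p G) :
    ∀ G₁ : Subgroup G, G₁.IsSubnormal → SylIn p G₁ ((S : Subgroup G) ⊓ G₁) := by
  intro G₁ h
  induction h with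
  | top => rw [inf_top_eq]; exact sylIn_top S
  | step H K h_le hSubn hN ih =>
    have := ih.inf H h_le ((Subgroup.normal_subgroupOf_iff_le_normalizer h_le).1 hN)
    rwa [inf_assoc, inf_eq_right.2 h_le] at this

theorem charp_inf_subnormal (M : Subgroup G)
    (hM : M ⊓ Subgroup.centralizer (pCoreOf p M : Set G) ≤ pCoreOf p M) :
    ∀ G₁ : Subgroup G, G₁.IsSubnormal →
      (G₁ ⊓ M) ⊓ Subgroup.centralizer (pCoreOf p (G₁ ⊓ M) : Set G) ≤ pCoreOf p (G₁ ⊓ M) := by
  intro G₁ h
  induction h with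
  | top => rw [top_inf_eq]; exact hM
  | step H K h_le hSubn hN ih =>
    exact charp_normal_rel (K ⊓ M) (H ⊓ M) ih (inf_le_inf_right M h_le)
      (le_normalizer_inf H M (K ⊓ M)
        (inf_le_left.trans ((Subgroup.normal_subgroupOf_iff_le_normalizer h_le).1 hN))
        (inf_le_right.trans Subgroup.le_normalizer))

/-- S3023 -/
theorem parabolic_subnormal (hG : IsOfParabolicCharacteristic p G) (S : Sylow p G)
    (G₁ : Subgroup G) (hsn : G₁.IsSubnormal)
    (hle : ((S : Subgroup G) ⊓ G₁) ⊓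
        Subgroup.centralizer (((S : Subgroup G) ⊓ G₁ : Subgroup G) : Set G) ≤
      (S : Subgroup G) ⊓ Subgroup.centralizer ((S : Subgroup G) : Set G)) :
    IsOfParabolicCharacteristic p ↥G₁ := by
  have hsyl : SylIn p G₁ ((S : Subgroup G) ⊓ G₁) := sylIn_inf_subnormal S G₁ hsn
  obtain ⟨S₁, hS₁⟩ := (sylIn_iff_exists_sylow inf_le_right).2 hsyl
  apply parabolic_of_centralizers S₁
  intro z hz1 hz
  have hz' : (z : G) ∈ omegaOne p (((S : Subgroup G) ⊓ G₁) ⊓
        Subgroup.centralizer (((S : Subgroup G) ⊓ G₁ : Subgroup G) : Set G)) := by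
    have h1 := omegaOne_map_subtype_le G₁ ((S₁ : Subgroup ↥G₁) ⊓
      Subgroup.centralizer ((S₁ : Subgroup ↥G₁) : Set ↥G₁)) (p := p) ⟨z, hz, rfl⟩
    refine omegaOne_mono p ?_ h1
    rintro _ ⟨x, hx, rfl⟩
    have hx1 := (Subgroup.mem_inf.1 hx).1
    have hx2 := (Subgroup.mem_inf.1 hx).2
    rw [hS₁] at hx1
    refine Subgroup.mem_inf.2 ⟨hx1, ?_⟩
    rw [Subgroup.mem_centralizer_iff] at hx2 ⊢
    intro y hy
    have hy' : (⟨y, (Subgroup.mem_inf.1 hy).2⟩ : ↥G₁) ∈ (S₁ : Subgroup ↥G₁) := by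
      rw [hS₁]; exact hy
    exact congrArg Subtype.val (hx2 _ hy')
  have hzS := omegaOne_center_le p _ (omegaOne_mono p hle hz')
  have hz1' : (z : G) ≠ 1 := by
    intro h
    exact hz1 (Subtype.ext h)
  have hM := parabolic_centralizer hG S (z : G) (Subgroup.mem_inf.1 hzS).1
    (Subgroup.mem_inf.1 hzS).2 hz1'
  have hD := charp_inf_subnormal _ hM G₁ hsn
  have hD' := charp_subtype_of _ hD
  apply charp_of
  have e : ↥(G₁ ⊓ Subgroup.centralizer ({(z : G)} : Set G)) ≃*
      ↥(Subgroup.centralizer ({z} : Set ↥G₁)) :=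
    (((Subgroup.centralizer ({z} : Set ↥G₁)).equivMapOfInjective G₁.subtype
      G₁.subtype_injective).trans
      (MulEquiv.subgroupCongr (centralizer_singleton_map_subtype G₁ z))).symm
  exact Cfsg.Agent.Lib.helper15.charp_of_mulEquiv p e hD'

end

end Cfsg.Agent.Lib.helper14
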