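import Cfsg.Agent.Lib.helper14.FStarAction3
import Cfsg.Agent.Lib.helper14.ParabolicSubnormal
import Cfsg.Agent.Lib.helper14.Amalgam5
import Cfsg.Agent.Lib.helper15.PMin

set_option autoImplicit false
set_option linter.unusedSectionVars false
set_option linter.unusedVariables false

namespace Cfsg.Agent.Lib.helper14

open Cfsg
open scoped commutatorElement Pointwise

universe u

section
variable {H : Type*} [Group H] [Finite H] {p : ℕ} [Fact p.Prime]

theorem sylow_conj_eq (T S' : Sylow p H) :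
    ∃ g : H, (S' : Subgroup H) = (T : Subgroup H).map (MulAut.conj g).toMonoidHom := by
  obtain ⟨g, hg⟩ := MulAction.exists_smul_eq H T S'
  refine ⟨g, ?_⟩
  rw [← hg, Sylow.coe_subgroup_smul]
  rfl

theorem isPMinimal_of_sylow (T : Sylow p H) (hn : ¬ (T : Subgroup H).Normal) (M : Subgroup H)
    (hM : M ≠ ⊤) (h : ∀ X : Subgroup H, (T : Subgroup H) ≤ X → X ≠ ⊤ → X ≤ M) :
    IsPMinimal p H := by
  intro S'
  constructor
  · intro hS'
    have := Sylow.unique_of_normal _ hS'
    have e : S' = T := Subsingleton.elim _ _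
    rw [e] at hS'; exact hn hS'
  · obtain ⟨g, hg⟩ := sylow_conj_eq T S'
    have hTne : (T : Subgroup H) ≠ ⊤ := by
      intro h'; apply hn; rw [h']; infer_instance
    have hTM : (T : Subgroup H) ≤ M := h _ le_rfl hTne
    have hMco : IsCoatom M := by
      refine ⟨hM, ?_⟩
      intro b hb
      by_contra hne
      exact lt_irrefl _ (lt_of_lt_of_le hb (h b (hTM.trans hb.le) hne))
    have hco : IsCoatom (M.map (MulAut.conj g).toMonoidHom) :=
      (OrderIso.isCoatom_iff (MulEquiv.mapSubgroup (MulAut.conj g)) M).2 hMco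
    refine ⟨M.map (MulAut.conj g).toMonoidHom, ⟨hco, ?_⟩, ?_⟩
    · rw [hg]; exact Subgroup.map_mono hTM
    · rintro M'' ⟨hM''co, hM''⟩
      have h1 : (T : Subgroup H) ≤ M''.comap (MulAut.conj g).toMonoidHom := by
        rw [← Subgroup.map_le_iff_le_comap, ← hg]; exact hM''
      have h2 : M''.comap (MulAut.conj g).toMonoidHom ≠ ⊤ := by
        intro e
        apply hM''co.1
        rw [eq_top_iff]
        intro x _
        have : g⁻¹ * x * g ∈ M''.comap (MulAut.conj g).toMonoidHom := by rw [e]; trivial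
        rw [Subgroup.mem_comap] at this
        have e2 : (MulAut.conj g).toMonoidHom (g⁻¹ * x * g) = x := by
          show g * (g⁻¹ * x * g) * g⁻¹ = x
          group
        rwa [e2] at this
      have h3 := h _ h1 h2
      have h4 : M'' ≤ M.map (MulAut.conj g).toMonoidHom := by
        intro x hx
        have e2 : (MulAut.conj g).toMonoidHom (g⁻¹ * x * g) = x := by
          show g * (g⁻¹ * x * g) * g⁻¹ = x
          group
        refine ⟨g⁻¹ * x * g, h3 ?_, e2⟩
        rw [Subgroup.mem_comap, e2]; exact hx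
      by_contra hne
      exact hco.1 (hM''co.2 _ (lt_of_le_of_ne h4 hne))

end

section pmin
variable {P : Type u} [Group P] [Finite P] {p : ℕ} [Fact p.Prime]

theorem pmin_core_coprime (hP : IsPMinimal p P) (hOp : pCore p P = ⊥) (S : Sylow p P)
    (M : Subgroup P) (hM : IsCoatom M) (hSM : (S : Subgroup P) ≤ M) :
    (Nat.card ↥M.normalCore).Coprime p := by
  have hpp : p.Prime := Fact.out
  have h0 := Cfsg.Agent.Lib.helper15.pmin_inf_core_le hP S M hM hSM
  rw [hOp, le_bot_iff] at h0
  have hsyl : SylIn p M.normalCore ((S : Subgroup P) ⊓ M.normalCore) :=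
    (sylIn_top S).inf M.normalCore le_top (by rw [Subgroup.normalizer_eq_top])
  have h1 := hsyl.2
  rw [h0, Subgroup.card_bot] at h1
  have h5 : (Nat.card ↥M.normalCore).factorization p = 0 := by
    by_contra hne
    have : 1 < p ^ (Nat.card ↥M.normalCore).factorization p := Nat.one_lt_pow hne hpp.one_lt
    omega
  rw [Nat.coprime_comm, Nat.Prime.coprime_iff_not_dvd hpp]
  intro hdvd
  have := (Nat.Prime.dvd_iff_one_le_factorization hpp Nat.card_pos.ne').1 hdvd
  omega

theorem pmin_core_nilpotent (hP : IsPMinimal p P) (hOp : pCore p P = ⊥) (S : Sylow p P)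
    (M : Subgroup P) (hM : IsCoatom M) (hSM : (S : Subgroup P) ≤ M) :
    Group.IsNilpotent ↥M.normalCore := by
  have hcop := pmin_core_coprime hP hOp S M hM hSM
  apply ((Group.isNilpotent_of_finite_tfae (G := ↥M.normalCore)).out 0 3 rfl rfl).2
  intro r hr R
  have hcop' : (Nat.card (S : Subgroup P)).Coprime (Nat.card ↥M.normalCore) := by
    obtain ⟨k, hk⟩ := IsPGroup.iff_card.1 S.isPGroup'
    rw [hk]
    exact Nat.Coprime.pow_left _ hcop.symm
  obtain ⟨R₀, hR₀⟩ := Cfsg.Agent.Lib.helper8.exists_invariant_sylow (p := r) (S : Subgroup P)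
    M.normalCore (by rw [Subgroup.normalizer_eq_top]; exact le_top) hcop'
    (Or.inl (isSolvable_of_isPGroup _ S.isPGroup'))
  have hfr := Sylow.normalizer_sup_eq_top R₀
  have htop : Subgroup.normalizer
      (((R₀ : Subgroup ↥M.normalCore).map M.normalCore.subtype : Subgroup P) : Set P) = ⊤ := by
    rcases Cfsg.Agent.Lib.helper15.pmin_top_or_le hP S M hM hSM _ hR₀ with h | h
    · exact h
    · exfalso
      apply hM.1
      rw [eq_top_iff, ← hfr]
      exact sup_le h M.normalCore_le
  have hR₀n : (R₀ : Subgroup ↥M.normalCore).Normal := by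
    have h1 : ((R₀ : Subgroup ↥M.normalCore).map M.normalCore.subtype).subgroupOf M.normalCore =
        (R₀ : Subgroup ↥M.normalCore) :=
      Subgroup.comap_map_eq_self_of_injective M.normalCore.subtype_injective _
    rw [← h1]
    exact (Subgroup.normal_subgroupOf_iff_le_normalizer (Subgroup.map_subtype_le _)).2
      (by rw [htop]; exact le_top)
  have := Sylow.unique_of_normal R₀ hR₀n
  have e : R = R₀ := Subsingleton.elim _ _
  rw [e]; exact hR₀n

theorem pmin_comp_not_le (hP : IsPMinimal p P) (hOp : pCore p P = ⊥) (S : Sylow p P)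
    (M : Subgroup P) (hM : IsCoatom M) (hSM : (S : Subgroup P) ≤ M) (K : Subgroup P)
    (hK : IsComponent K) : ¬ K ≤ M := by
  intro hKM
  have h1 := Cfsg.Agent.Lib.helper15.pmin_subnormal_le_core hP S M hM hSM K hK.1 hKM
  have := pmin_core_nilpotent hP hOp S M hM hSM
  have hsolv : Group.IsSolvable ↥M.normalCore := inferInstance
  exact Cfsg.Agent.Lib.helper7.comp_not_le_solvable hK hsolv h1

theorem pmin_invariant_le_or (hP : IsPMinimal p P) (S : Sylow p P)
    (M : Subgroup P) (hM : IsCoatom M) (hSM : (S : Subgroup P) ≤ M) (D : Subgroup P)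
    (hSD : (S : Subgroup P) ≤ Subgroup.normalizer (D : Set P)) :
    D ≤ M ∨ pResidual p P ≤ D := by
  rcases Cfsg.Agent.Lib.helper15.pmin_top_or_le hP S M hM hSM (D ⊔ (S : Subgroup P))
    le_sup_right with h | h
  · right
    have hDn : D.Normal := by
      rw [← Subgroup.normalizer_eq_top_iff, eq_top_iff, ← h]
      exact sup_le Subgroup.le_normalizer hSD
    exact pResidual_le_of_sup_eq_top (S : Subgroup P) D S.isPGroup' (by rw [sup_comm]; exact h)
  · left
    exact le_sup_left.trans h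

end pmin


theorem le_normalizer_iSup_conj_self {G : Type*} [Group G] (U S : Subgroup G) :
    S ≤ Subgroup.normalizer
      ((⨆ s : ↥S, U.map (MulAut.conj (s : G)).toMonoidHom : Subgroup G) : Set G) := by
  apply le_normalizer_iSup_conj
  intro k hk b
  refine ⟨⟨k * b, S.mul_mem hk b.2⟩, ?_⟩
  rw [map_conj_map_conj]

theorem le_iSup_conj_self {G : Type*} [Group G] (U S : Subgroup G) :
    U ≤ ⨆ s : ↥S, U.map (MulAut.conj (s : G)).toMonoidHom := by
  calc U = U.map (MulAut.conj (((1 : ↥S) : G))).toMonoidHom := by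
        rw [OneMemClass.coe_one, map_conj_one]
    _ ≤ _ := le_iSup (fun s : ↥S => U.map (MulAut.conj (s : G)).toMonoidHom) 1

section pmin2
variable {P : Type u} [Group P] [Finite P] {p : ℕ} [Fact p.Prime]

theorem pmin_layer_facts (hP : IsPMinimal p P) (hOp : pCore p P = ⊥) (S : Sylow p P)
    (K : Subgroup P) (hK : IsComponent K) :
    pResidual p P = generalizedFittingSubgroup P ∧ generalizedFittingSubgroup P = layer P ∧
    layer P = ⨆ s : ↥(S : Subgroup P), K.map (MulAut.conj (s : P)).toMonoidHom := by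
  obtain ⟨hSn, M, ⟨hM, hSM⟩, hMuniq⟩ := hP S
  have hKM := pmin_comp_not_le hP hOp S M hM hSM K hK
  have hRE : pResidual p P ≤ layer P := by
    rcases pmin_invariant_le_or hP S M hM hSM (layer P)
      (by rw [Subgroup.normalizer_eq_top]; exact le_top) with h | h
    · exact absurd ((Cfsg.Agent.Lib.helper7.comp_le_layer hK).trans h) hKM
    · exact h
  have hER : layer P ≤ pResidual p P :=
    sSup_le (fun K' hK' => perfect_le_pResidual K' (Cfsg.Agent.Lib.helper7.qs_perfect hK'.2))
  have hFR : fittingSubgroup P ≤ pResidual p P := by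
    intro x hx
    have h1 : orderOf x ∣ Nat.card (fittingSubgroup P) := by
      have := orderOf_dvd_natCard (⟨x, hx⟩ : fittingSubgroup P)
      rwa [Subgroup.orderOf_mk] at this
    exact Subgroup.subset_closure
      (Nat.Coprime.coprime_dvd_left h1 (card_coprime_fitting hOp))
  have h1 : pResidual p P = generalizedFittingSubgroup P :=
    le_antisymm (hRE.trans (Cfsg.Agent.Lib.helper7.layer_le_genFitting P)) (sup_le hER hFR)
  have h2 : generalizedFittingSubgroup P = layer P :=
    le_antisymm (h1 ▸ hRE) (Cfsg.Agent.Lib.helper7.layer_le_genFitting P)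
  refine ⟨h1, h2, ?_⟩
  apply le_antisymm
  · rcases pmin_invariant_le_or hP S M hM hSM
      (⨆ s : ↥(S : Subgroup P), K.map (MulAut.conj (s : P)).toMonoidHom)
      (le_normalizer_iSup_conj_self K _) with h | h
    · exact absurd ((le_iSup_conj_self K _).trans h) hKM
    · exact hER.trans h
  · apply iSup_le
    intro s
    exact Cfsg.Agent.Lib.helper7.comp_le_layer
      (Cfsg.Agent.Lib.helper7.comp_map_equiv (MulAut.conj (s : P)) hK)


theorem pmin_comp_sup_pMinimal (hP : IsPMinimal p P) (hOp : pCore p P = ⊥) (S : Sylow p P)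
    (K : Subgroup P) (hK : IsComponent K) :
    IsPMinimal p ↥(K ⊔ ((S : Subgroup P) ⊓ Subgroup.normalizer (K : Set P))) := by
  obtain ⟨hSn, M, ⟨hM, hSM⟩, hMuniq⟩ := hP S
  have hKM := pmin_comp_not_le hP hOp S M hM hSM K hK
  obtain ⟨h1, h2, h3⟩ := pmin_layer_facts hP hOp S K hK
  have hRE : pResidual p P = layer P := h1.trans h2
  obtain ⟨T₁, hT₁⟩ : ∃ T₁, T₁ = (S : Subgroup P) ⊓ Subgroup.normalizer (K : Set P) := ⟨_, rfl⟩
  obtain ⟨P₁, hP₁⟩ : ∃ P₁, P₁ = K ⊔ T₁ := ⟨_, rfl⟩
  rw [← hT₁, ← hP₁]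
  have hT₁S : T₁ ≤ (S : Subgroup P) := by rw [hT₁]; exact inf_le_left
  have hT₁N : T₁ ≤ Subgroup.normalizer (K : Set P) := by rw [hT₁]; exact inf_le_right
  have hT₁P : T₁ ≤ P₁ := by rw [hP₁]; exact le_sup_right
  have hKP : K ≤ P₁ := by rw [hP₁]; exact le_sup_left
  have hT₁p : IsPGroup p T₁ := S.isPGroup'.to_le hT₁S
  have key : ∀ D : Subgroup P, (S : Subgroup P) ≤ Subgroup.normalizer (D : Set P) →
      D ≤ M ∨ K ≤ D := by
    intro D hD
    rcases pmin_invariant_le_or hP S M hM hSM D hD with h | h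
    · exact Or.inl h
    · right
      rw [hRE] at h
      exact (Cfsg.Agent.Lib.helper7.comp_le_layer hK).trans h
  have hconj : ∀ s : P, s ∉ Subgroup.normalizer (K : Set P) →
      K.map (MulAut.conj s).toMonoidHom ≤ Subgroup.centralizer (K : Set P) := by
    intro s hsN
    have hne : K.map (MulAut.conj s).toMonoidHom ≠ K :=
      fun e => hsN (mem_normalizer_of_map_conj_eq K e)
    have := Cfsg.Agent.Lib.helper7.comp_comm_of_ne
      (Cfsg.Agent.Lib.helper7.comp_map_equiv (MulAut.conj s) hK) hK hne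
    rwa [Subgroup.commutator_eq_bot_iff_le_centralizer] at this
  have main : ∀ X₀ : Subgroup P, T₁ ≤ X₀ → X₀ ≤ P₁ → ¬ K ≤ X₀ → X₀ ≤ M := by
    intro X₀ hTX hXP hKX
    obtain ⟨Y, hY⟩ : ∃ Y, Y = X₀ ⊓ K := ⟨_, rfl⟩
    have hYK : Y ≤ K := by rw [hY]; exact inf_le_right
    have hYM : Y ≤ M := by
      rcases key (⨆ s : ↥(S : Subgroup P), Y.map (MulAut.conj (s : P)).toMonoidHom)
        (le_normalizer_iSup_conj_self Y _) with h | h
      · exact (le_iSup_conj_self Y _).trans h
      · exfalso; apply hKX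
        have hD : (⨆ s : ↥(S : Subgroup P), Y.map (MulAut.conj (s : P)).toMonoidHom) ≤
            Y ⊔ Subgroup.centralizer (K : Set P) := by
          apply iSup_le
          intro s
          by_cases hsN : (s : P) ∈ Subgroup.normalizer (K : Set P)
          · refine le_trans ?_ le_sup_left
            rw [hY]
            refine le_inf ?_ ?_
            · rintro _ ⟨x, hx, rfl⟩
              have hsX : (s : P) ∈ X₀ :=
                hTX (by rw [hT₁]; exact Subgroup.mem_inf.2 ⟨s.2, hsN⟩)
              exact X₀.mul_mem (X₀.mul_mem hsX (Subgroup.mem_inf.1 hx).1) (X₀.inv_mem hsX)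
            · have := Subgroup.map_mono (f := (MulAut.conj (s : P)).toMonoidHom)
                (inf_le_right : X₀ ⊓ K ≤ K)
              rwa [map_conj_eq_of_mem_normalizer K hsN] at this
          · refine le_trans ?_ le_sup_right
            exact (Subgroup.map_mono hYK).trans (hconj s hsN)
        have hKD : K ≤ Y ⊔ Subgroup.centralizer (K : Set P) := h.trans hD
        have hcomm : ∀ a ∈ Y, ∀ b ∈ Subgroup.centralizer (K : Set P), a * b = b * a := by
          intro a ha b hb
          exact Subgroup.mem_centralizer_iff.1 hb a (hYK ha)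
        have hKY : K ≤ Y := by
          rw [← qs_comm_self hK.2, Subgroup.commutator_le]
          intro k₁ hk₁ k₂ hk₂
          obtain ⟨y₁, hy₁, c₁, hc₁, e₁⟩ := Cfsg.Agent.Lib.helper7.mem_sup_of_comm hcomm (hKD hk₁)
          obtain ⟨y₂, hy₂, c₂, hc₂, e₂⟩ := Cfsg.Agent.Lib.helper7.mem_sup_of_comm hcomm (hKD hk₂)
          have q1 : y₂ * c₁ = c₁ * y₂ := hcomm y₂ hy₂ c₁ hc₁
          have q2 : y₁ * c₂ = c₂ * y₁ := hcomm y₁ hy₁ c₂ hc₂
          have q3 : k₁ * c₂ = c₂ * k₁ := Subgroup.mem_centralizer_iff.1 hc₂ k₁ hk₁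
          have q4 : y₂ * c₂ = c₂ * y₂ := hcomm y₂ hy₂ c₂ hc₂
          have e : ⁅k₁, k₂⁆ = ⁅y₁, y₂⁆ := by
            rw [commutatorElement_def, e₂]
            have s1 : k₁ * (y₂ * c₂) * k₁⁻¹ * (y₂ * c₂)⁻¹ =
                k₁ * y₂ * (c₂ * k₁⁻¹ * c₂⁻¹) * y₂⁻¹ := by group
            have s2 : c₂ * k₁⁻¹ * c₂⁻¹ = k₁⁻¹ := by
              have : c₂ * k₁⁻¹ = k₁⁻¹ * c₂ := by
                have h5 : k₁⁻¹ * (k₁ * c₂) * k₁⁻¹ = k₁⁻¹ * (c₂ * k₁) * k₁⁻¹ := by rw [q3]
                have h6 : k₁⁻¹ * (k₁ * c₂) * k₁⁻¹ = c₂ * k₁⁻¹ := by group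
                have h7 : k₁⁻¹ * (c₂ * k₁) * k₁⁻¹ = k₁⁻¹ * c₂ := by group
                rw [← h6, h5, h7]
              rw [this]; group
            rw [s1, s2, e₁]
            have s3 : y₁ * c₁ * y₂ * (y₁ * c₁)⁻¹ * y₂⁻¹ =
                y₁ * (c₁ * y₂) * c₁⁻¹ * y₁⁻¹ * y₂⁻¹ := by group
            rw [s3, ← q1, commutatorElement_def]; group
          rw [e]
          exact Y.mul_mem (Y.mul_mem (Y.mul_mem hy₁ hy₂) (Y.inv_mem hy₁)) (Y.inv_mem hy₂)
        exact hKY.trans (by rw [hY]; exact inf_le_left)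
    intro x hx
    have hxP := hXP hx
    rw [hP₁] at hxP
    have hmem : x ∈ (K : Set P) * (T₁ : Set P) := by
      rw [← Subgroup.coe_mul_of_right_le_normalizer_left K T₁ hT₁N]; exact hxP
    obtain ⟨k, hk, t, ht, rfl⟩ := Set.mem_mul.1 hmem
    have hkX : k ∈ X₀ := by
      have := X₀.mul_mem hx (X₀.inv_mem (hTX ht))
      simpa using this
    exact M.mul_mem (hYM (by rw [hY]; exact Subgroup.mem_inf.2 ⟨hkX, hk⟩)) (hSM (hT₁S ht))
  obtain ⟨T', hT'⟩ := (hT₁p.comap_subtype (K := P₁)).exists_le_sylow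
  have hT₁T' : T₁ ≤ (T' : Subgroup ↥P₁).map P₁.subtype := by
    intro t ht
    exact ⟨⟨t, hT₁P ht⟩, hT' (by rw [Subgroup.mem_comap]; exact ht), rfl⟩
  apply isPMinimal_of_sylow T' ?_ (M.subgroupOf P₁) ?_ ?_
  · intro hT'n
    obtain ⟨T₀, hT₀⟩ : ∃ T₀, T₀ = (T' : Subgroup ↥P₁).map P₁.subtype := ⟨_, rfl⟩
    rw [← hT₀] at hT₁T'
    have hT₀p : IsPGroup p T₀ := by rw [hT₀]; exact T'.isPGroup'.map _
    have hT₀P : T₀ ≤ P₁ := by rw [hT₀]; exact Subgroup.map_subtype_le _
    have hPT₀ : P₁ ≤ Subgroup.normalizer (T₀ : Set P) := by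
      rw [hT₀]; exact le_normalizer_map_subtype P₁ (T' : Subgroup ↥P₁)
    have hT₀K : T₀ ≤ Subgroup.normalizer (K : Set P) :=
      hT₀P.trans (by rw [hP₁]; exact sup_le Subgroup.le_normalizer hT₁N)
    have hc1 : ⁅K, T₀⁆ ≤ K := Cfsg.Agent.Lib.helper8.commutator_le_of_le_normalizer hT₀K
    have hc2 : ⁅K, T₀⁆ ≤ T₀ := by
      rw [Subgroup.commutator_comm]
      exact Cfsg.Agent.Lib.helper8.commutator_le_of_le_normalizer (hKP.trans hPT₀)
    rcases qs_sub hK.2 (K ⊓ T₀) inf_le_left
      (le_normalizer_inf K T₀ K Subgroup.le_normalizer (hKP.trans hPT₀)) with h | h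
    · have hKT₀ : K ≤ T₀ := by rw [← h]; exact inf_le_right
      exact Cfsg.Agent.Lib.helper7.comp_not_le_solvable hK (isSolvable_of_isPGroup T₀ hT₀p) hKT₀
    · have e1 : ⁅⁅K, T₁⁆, K⁆ = ⊥ := by
        rw [Subgroup.commutator_eq_bot_iff_le_centralizer]
        exact ((Subgroup.commutator_mono le_rfl hT₁T').trans (le_inf hc1 hc2)).trans h
      have e2 : ⁅⁅T₁, K⁆, K⁆ = ⊥ := by rw [Subgroup.commutator_comm T₁ K]; exact e1
      have e3 := Subgroup.commutator_commutator_eq_bot_of_rotate e1 e2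
      rw [qs_comm_self hK.2, Subgroup.commutator_eq_bot_iff_le_centralizer] at e3
      apply hKM
      intro y hy
      have hpair : ∀ s s' : ↥(S : Subgroup P),
          (Subgroup.zpowers y).map (MulAut.conj (s' : P)).toMonoidHom ≤ Subgroup.centralizer
            (((Subgroup.zpowers y).map (MulAut.conj (s : P)).toMonoidHom : Subgroup P) : Set P) := by
        intro s s'
        rintro _ ⟨a, ha, rfl⟩
        rw [Subgroup.mem_centralizer_iff]
        rintro _ ⟨b, hb, rfl⟩
        show (s : P) * b * (s : P)⁻¹ * ((s' : P) * a * (s' : P)⁻¹) =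
          (s' : P) * a * (s' : P)⁻¹ * ((s : P) * b * (s : P)⁻¹)
        have haK : a ∈ K := (Subgroup.zpowers_le.2 hy) ha
        have hbK : b ∈ K := (Subgroup.zpowers_le.2 hy) hb
        have hab : a * b = b * a := by
          obtain ⟨i, rfl⟩ := Subgroup.mem_zpowers_iff.1 ha
          obtain ⟨j, rfl⟩ := Subgroup.mem_zpowers_iff.1 hb
          rw [← zpow_add, ← zpow_add, add_comm]
        obtain ⟨u, hu⟩ : ∃ u : P, u = (s : P)⁻¹ * (s' : P) := ⟨_, rfl⟩
        have hs' : (s' : P) = (s : P) * u := by rw [hu]; group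
        have huS : u ∈ (S : Subgroup P) := by
          rw [hu]; exact Subgroup.mul_mem _ (Subgroup.inv_mem _ s.2) s'.2
        rw [hs']
        by_cases huN : u ∈ Subgroup.normalizer (K : Set P)
        · have huT : u ∈ T₁ := by rw [hT₁]; exact Subgroup.mem_inf.2 ⟨huS, huN⟩
          have hua : u * a = a * u := Subgroup.mem_centralizer_iff.1 (e3 haK) u huT
          have r1 : (s : P) * b * (s : P)⁻¹ * ((s : P) * u * a * ((s : P) * u)⁻¹) =
              (s : P) * b * (u * a) * u⁻¹ * (s : P)⁻¹ := by group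
          have r2 : (s : P) * u * a * ((s : P) * u)⁻¹ * ((s : P) * b * (s : P)⁻¹) =
              (s : P) * (u * a) * u⁻¹ * b * (s : P)⁻¹ := by group
          rw [r1, r2, hua]
          have r3 : (s : P) * b * (a * u) * u⁻¹ * (s : P)⁻¹ = (s : P) * (b * a) * (s : P)⁻¹ := by
            group
          have r4 : (s : P) * (a * u) * u⁻¹ * b * (s : P)⁻¹ = (s : P) * (a * b) * (s : P)⁻¹ := by
            group
          rw [r3, r4, hab]
        · have hc := hconj u huN ⟨a, haK, rfl⟩
          have hcb : b * (u * a * u⁻¹) = (u * a * u⁻¹) * b :=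
            Subgroup.mem_centralizer_iff.1 hc b hbK
          have r1 : (s : P) * b * (s : P)⁻¹ * ((s : P) * u * a * ((s : P) * u)⁻¹) =
              (s : P) * (b * (u * a * u⁻¹)) * (s : P)⁻¹ := by group
          have r2 : (s : P) * u * a * ((s : P) * u)⁻¹ * ((s : P) * b * (s : P)⁻¹) =
              (s : P) * ((u * a * u⁻¹) * b) * (s : P)⁻¹ := by group
          rw [r1, r2, hcb]
      rcases key (⨆ s : ↥(S : Subgroup P),
          (Subgroup.zpowers y).map (MulAut.conj (s : P)).toMonoidHom)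
        (le_normalizer_iSup_conj_self _ _) with h' | h'
      · exact h' (le_iSup_conj_self (Subgroup.zpowers y) _ (Subgroup.mem_zpowers y))
      · exfalso
        have hab : (⨆ s : ↥(S : Subgroup P),
            (Subgroup.zpowers y).map (MulAut.conj (s : P)).toMonoidHom) ≤ Subgroup.centralizer
            ((⨆ s : ↥(S : Subgroup P),
              (Subgroup.zpowers y).map (MulAut.conj (s : P)).toMonoidHom : Subgroup P) : Set P) := by
          apply iSup_le
          intro s
          rw [Subgroup.le_centralizer_iff]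
          apply iSup_le
          intro s'
          exact hpair s s'
        have hKK : ⁅K, K⁆ = ⊥ := by
          rw [Subgroup.commutator_eq_bot_iff_le_centralizer]
          exact h'.trans (hab.trans (Subgroup.centralizer_le h'))
        rw [qs_comm_self hK.2] at hKK
        exact hKM (hKK ▸ bot_le)
  · intro e
    exact hKM (hKP.trans (Subgroup.subgroupOf_eq_top.1 e))
  · intro X hTX hXne
    have h := main (X.map P₁.subtype) (hT₁T'.trans (Subgroup.map_mono hTX))
      (Subgroup.map_subtype_le _) ?_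
    · intro x hx
      rw [Subgroup.mem_subgroupOf]
      exact h ⟨x, hx, rfl⟩
    · intro hKX
      apply hXne
      rw [eq_top_iff]
      have hle : P₁ ≤ X.map P₁.subtype := by
        intro z hz
        have hz' : z ∈ K ⊔ T₁ := by rw [← hP₁]; exact hz
        exact (sup_le hKX (hT₁T'.trans (Subgroup.map_mono hTX))) hz'
      intro x _
      obtain ⟨y, hy, hyx⟩ := hle x.2
      have : y = x := Subtype.ext hyx
      rwa [this] at hy

/-- **S2906** -/
theorem pmin_component_structure (hP : IsPMinimal p P) (hOp : pCore p P = ⊥) (S : Sylow p P)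
    (K : Subgroup P) (hK : IsComponent K) :
    pResidual p P = generalizedFittingSubgroup P ∧ generalizedFittingSubgroup P = layer P ∧
    layer P = ⨆ s : ↥(S : Subgroup P), K.map (MulAut.conj (s : P)).toMonoidHom ∧
    IsPMinimal p ↥(K ⊔ ((S : Subgroup P) ⊓ Subgroup.normalizer (K : Set P))) := by
  obtain ⟨h1, h2, h3⟩ := pmin_layer_facts hP hOp S K hK
  exact ⟨h1, h2, h3, pmin_comp_sup_pMinimal hP hOp S K hK⟩

end pmin2

end Cfsg.Agent.Lib.helper14
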