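import Cfsg.Agent.Lib.helper14.PRedSubnormal

set_option autoImplicit false
set_option linter.unusedSectionVars false
set_option linter.unusedVariables false

namespace Cfsg.Agent.Lib.helper14

open Cfsg
open scoped commutatorElement Pointwise

universe u

section
variable {G : Type u} [Group G]

/-- good action of `L` on `V` -/
def Good (p : ℕ) (L V : Subgroup G) : Prop :=
  L ≤ Subgroup.normalizer (V : Set G) ∧ RedAct p L V ∧
    ∀ e ∈ L, (orderOf e).Coprime p →
      e ∈ Subgroup.centralizer ((V ⊓ L : Subgroup G) : Set G) → e ∈ Subgroup.centralizer (V : Set G)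

theorem good_of_predIn {p : ℕ} {K V : Subgroup G} (h : PRedIn p K V) : Good p K V :=
  ⟨h.2.1, h.2.2.2, fun e he hcop hc => by rw [inf_eq_left.2 h.1] at hc; exact hc⟩

variable [Finite G] {p : ℕ} [Fact p.Prime]

theorem good_step (K L V : Subgroup G) (hLK : L ≤ K)
    (hKL : K ≤ Subgroup.normalizer (L : Set G)) (hVp : IsPGroup p V) (h : Good p K V) :
    Good p L V := by
  refine ⟨hLK.trans h.1, redAct_normal_step K L V hLK hKL h.1 h.2.1, ?_⟩
  intro e heL hcop hcen
  apply h.2.2 e (hLK heL) hcop
  rw [Subgroup.mem_centralizer_iff]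
  intro y hy
  have hyV := (Subgroup.mem_inf.1 hy).1
  have hyK := (Subgroup.mem_inf.1 hy).2
  have h1 : ⁅y, e⁆ ∈ V := by
    have : ⁅y, e⁆ = y * (e * y⁻¹ * e⁻¹) := by simp only [commutatorElement_def]; group
    rw [this]
    exact V.mul_mem hyV ((Subgroup.mem_normalizer_iff.1 (h.1 (hLK heL)) _).1 (V.inv_mem hyV))
  have h2 : ⁅y, e⁆ ∈ L := by
    have : ⁅y, e⁆ = (y * e * y⁻¹) * e⁻¹ := by simp only [commutatorElement_def]
    rw [this]
    exact L.mul_mem ((Subgroup.mem_normalizer_iff.1 (hKL hyK) _).1 heL) (L.inv_mem heL)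
  have h4 : Commute ⁅y, e⁆ e :=
    Subgroup.mem_centralizer_iff.1 hcen _ (Subgroup.mem_inf.2 ⟨h1, h2⟩)
  have h5 : ∃ j : ℕ, ⁅y, e⁆ ^ (p ^ j) = 1 := by
    obtain ⟨j, hj⟩ := hVp ⟨_, h1⟩
    exact ⟨j, by simpa using congrArg Subtype.val hj⟩
  exact commutatorElement_eq_one_iff_mul_comm.1 (commutator_eq_one_of_coprime y e h4 h5 hcop)

theorem good_subnormal (V : Subgroup G) (hVp : IsPGroup p V) (h : Good p ⊤ V) (L : Subgroup G)
    (hL : L.IsSubnormal) : Good p L V := by
  induction hL with
  | top => exact h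
  | step B K hle hK hN ih =>
    exact good_step K B V hle ((Subgroup.normal_subgroupOf_iff_le_normalizer hle).1 hN) hVp ih

theorem predIn_inf_of_good {L V : Subgroup G} (h : Good p L V) (hV : IsElementaryAbelian p V) :
    PRedIn p L (V ⊓ L) := by
  refine ⟨inf_le_right, le_normalizer_inf V L L h.1 Subgroup.le_normalizer,
    IsElementaryAbelian_mono hV inf_le_left, ?_⟩
  intro D hDL hLD hD
  have hVL : V ⊓ L ≤ V := inf_le_left
  have hcen : Subgroup.centralizer (V : Set G) ≤
      Subgroup.centralizer ((V ⊓ L : Subgroup G) : Set G) := Subgroup.centralizer_le hVL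
  refine le_trans ?_ hcen
  apply h.2.1 D hDL hLD
  apply PMod_of_coprime_mem
  intro e he hcop
  apply h.2.2 e (hDL he) hcop
  obtain ⟨k, hk⟩ := hD e he
  exact mem_of_pow_mem_of_coprime _ e k hk hcop

theorem centralizer_inf_of_good {L V : Subgroup G} (h : Good p L V) :
    L ⊓ Subgroup.centralizer ((V ⊓ L : Subgroup G) : Set G) ≤ Subgroup.centralizer (V : Set G) := by
  apply h.2.1 _ inf_le_left
  · exact le_normalizer_inf L _ L Subgroup.le_normalizer
      ((le_normalizer_inf V L L h.1 Subgroup.le_normalizer).trans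
        (normalizer_le_normalizer_centralizer _))
  · apply PMod_of_coprime_mem
    intro e he hcop
    exact h.2.2 e (Subgroup.mem_inf.1 he).1 hcop (Subgroup.mem_inf.1 he).2

/-- `A × B`-lemma for an abelian module, modulo the kernel of the action. -/
theorem ab_lemma (V D : Subgroup G) (b : G) (hV : IsElementaryAbelian p V)
    (hDV : D ≤ Subgroup.normalizer (V : Set G)) (hbV : b ∈ Subgroup.normalizer (V : Set G))
    (hD : PMod p D (Subgroup.centralizer (V : Set G))) (hb : (orderOf b).Coprime p)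
    (hcomm : ∀ d ∈ D, ⁅d, b⁆ ∈ Subgroup.centralizer (V : Set G))
    (hfix : b ∈ Subgroup.centralizer ((V ⊓ Subgroup.centralizer (D : Set G) : Subgroup G) : Set G)) :
    b ∈ Subgroup.centralizer (V : Set G) := by
  have hp : p.Prime := Fact.out
  have : IsMulCommutative ↥V := hV.1
  have hVp : IsPGroup p V := IsElementaryAbelian_isPGroup hV
  obtain ⟨C, hC⟩ : ∃ C, C = Subgroup.centralizer (V : Set G) := ⟨_, rfl⟩
  rw [← hC] at hD hcomm ⊢
  obtain ⟨A, hA⟩ : ∃ A, A = Subgroup.zpowers b := ⟨_, rfl⟩
  have hbA : b ∈ A := by rw [hA]; exact Subgroup.mem_zpowers b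
  have hAV : A ≤ Subgroup.normalizer (V : Set G) := by rw [hA, Subgroup.zpowers_le]; exact hbV
  have hcop : (Nat.card A).Coprime (Nat.card V) := by
    rw [hA, Nat.card_zpowers]
    obtain ⟨n, hn⟩ := IsPGroup.iff_card.1 hVp
    rw [hn]; exact Nat.Coprime.pow_right n hb
  have hsplit := Cfsg.Agent.Lib.helper8.abelian_fixed_commutator A V hAV hcop
  obtain ⟨W, hW⟩ : ∃ W, W = ⁅V, A⁆ := ⟨_, rfl⟩
  rw [← hW] at hsplit
  have hWV : W ≤ V := by rw [hW]; exact commutator_le_of_le_normalizer V A hAV
  have hCV : C ≤ Subgroup.normalizer (V : Set G) := by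
    rw [hC]; exact Subgroup.centralizer_le_normalizer _
  have hNC : Subgroup.normalizer (V : Set G) ≤ Subgroup.normalizer (C : Set G) := by
    rw [hC]; exact normalizer_le_normalizer_centralizer V
  have hWeq : W = ⁅V, A ⊔ C⁆ := by
    rw [hW]
    apply le_antisymm (Subgroup.commutator_mono le_rfl le_sup_left)
    refine (commutator_sup_le V A C hAV hCV).trans ?_
    have h0 : ⁅V, C⁆ = ⊥ := by
      rw [Subgroup.commutator_comm, Subgroup.commutator_eq_bot_iff_le_centralizer, hC]
    rw [h0, sup_bot_eq]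
  have hDB : D ≤ Subgroup.normalizer ((A ⊔ C : Subgroup G) : Set G) := by
    apply le_normalizer_of_conj_mem
    intro d hd x hx
    have hmap : (A ⊔ C).map (MulAut.conj d).toMonoidHom ≤ A ⊔ C := by
      rw [Subgroup.map_sup]
      apply sup_le
      · rw [hA, MonoidHom.map_zpowers, Subgroup.zpowers_le]
        show d * b * d⁻¹ ∈ _
        have h0 : d * b * d⁻¹ = ⁅d, b⁆ * b := by simp only [commutatorElement_def]; group
        rw [h0]
        exact Subgroup.mul_mem _ (Subgroup.mem_sup_right (hcomm d hd))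
          (Subgroup.mem_sup_left (Subgroup.mem_zpowers b))
      · rw [map_conj_eq_of_mem_normalizer C (hNC (hDV hd))]; exact le_sup_right
    exact hmap ⟨x, hx, rfl⟩
  have hDW : D ≤ Subgroup.normalizer (W : Set G) := by
    rw [hWeq]; exact le_normalizer_commutator V (A ⊔ C) D hDV hDB
  have hW1 : W = ⊥ := by
    by_contra hne
    obtain ⟨P⟩ : Nonempty (Sylow p D) := inferInstance
    have hP := sylIn_of_sylow_subtype D P
    obtain ⟨P', hP'⟩ : ∃ P', P' = (P : Subgroup D).map D.subtype := ⟨_, rfl⟩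
    rw [← hP'] at hP
    have hne2 := inf_centralizer_ne_bot_of_le_normalizer W P' (hVp.to_le hWV) hP.isPGroup hne
      (hP.1.trans hDW)
    obtain ⟨⟨w, hw⟩, hw1⟩ := (Subgroup.ne_bot_iff_exists_ne_one).1 hne2
    have hwW := (Subgroup.mem_inf.1 hw).1
    have hwP := (Subgroup.mem_inf.1 hw).2
    have hwD : w ∈ Subgroup.centralizer (D : Set G) := by
      rw [Subgroup.mem_centralizer_iff]
      intro d hd
      obtain ⟨e, he, t, ht, rfl⟩ := hP.mul_eq (D ⊓ C) inf_le_left
        (le_normalizer_inf D C D Subgroup.le_normalizer (hDV.trans hNC)) (hD.inf_left D le_rfl) d hd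
      have h1 : e * w = w * e := by
        have h0 := (Subgroup.mem_inf.1 he).2
        rw [hC, Subgroup.mem_centralizer_iff] at h0
        exact (h0 w (hWV hwW)).symm
      have h2 : t * w = w * t := (Subgroup.mem_centralizer_iff.1 hwP) t ht
      calc e * t * w = e * (t * w) := by group
        _ = e * (w * t) := by rw [h2]
        _ = (e * w) * t := by group
        _ = (w * e) * t := by rw [h1]
        _ = w * (e * t) := by group
    have hwb : w * b = b * w :=
      (Subgroup.mem_centralizer_iff.1 hfix) w (Subgroup.mem_inf.2 ⟨hWV hwW, hwD⟩)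
    have hwA : w ∈ Subgroup.centralizer (A : Set G) := by
      rw [Subgroup.mem_centralizer_iff]
      intro a ha
      rw [hA] at ha
      obtain ⟨j, rfl⟩ := Subgroup.mem_zpowers_iff.1 ha
      exact ((Commute.zpow_right (show Commute w b from hwb) j).eq).symm
    have h3 : w ∈ (V ⊓ Subgroup.centralizer (A : Set G)) ⊓ W :=
      Subgroup.mem_inf.2 ⟨Subgroup.mem_inf.2 ⟨hWV hwW, hwA⟩, hwW⟩
    rw [hsplit.1, Subgroup.mem_bot] at h3
    exact hw1 (Subtype.ext h3)
  rw [hW, Subgroup.commutator_eq_bot_iff_le_centralizer] at hW1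
  rw [hC, Subgroup.mem_centralizer_iff]
  intro v hv
  exact ((Subgroup.mem_centralizer_iff.1 (hW1 hv)) b hbA).symm

theorem lemmaX_aux (K L : Subgroup G) (hLK : L ≤ K) (hKL : K ≤ Subgroup.normalizer (L : Set G)) :
    ∀ (n : ℕ) (V : Subgroup G), Nat.card V = n → V ≤ L → K ≤ Subgroup.normalizer (V : Set G) →
      IsElementaryAbelian p V → RedAct p L V →
      ∃ V' : Subgroup G, V' ≤ V ∧ PRedIn p K V' ∧
        L ⊓ Subgroup.centralizer (V' : Set G) ≤ Subgroup.centralizer (V : Set G) := by
  intro n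
  induction n using Nat.strong_induction_on with
  | _ n ih =>
  intro V hn hVL hKV hel hredL
  by_cases h : RedAct p K V
  · exact ⟨V, le_rfl, ⟨hVL.trans hLK, hKV, hel, h⟩, inf_le_right⟩
  · unfold RedAct at h
    push Not at h
    obtain ⟨D, hDK, hKD, hDmod, hDnot⟩ := h
    obtain ⟨V₂, hV₂⟩ : ∃ V₂, V₂ = V ⊓ Subgroup.centralizer (D : Set G) := ⟨_, rfl⟩
    have hV₂V : V₂ ≤ V := by rw [hV₂]; exact inf_le_left
    have hlt : Nat.card V₂ < n := by
      by_contra hge
      push Not at hge
      rw [← hn] at hge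
      have heq : V₂ = V := Subgroup.eq_of_le_of_card_ge hV₂V hge
      apply hDnot
      rw [Subgroup.le_centralizer_iff, ← heq, hV₂]; exact inf_le_right
    have hKV₂ : K ≤ Subgroup.normalizer (V₂ : Set G) := by
      rw [hV₂]
      exact le_normalizer_inf V _ K hKV (hKD.trans (normalizer_le_normalizer_centralizer D))
    have hel₂ := IsElementaryAbelian_mono hel hV₂V
    have hkey : L ⊓ Subgroup.centralizer (V₂ : Set G) ≤ Subgroup.centralizer (V : Set G) := by
      apply hredL _ inf_le_left
      · exact le_normalizer_inf L _ L Subgroup.le_normalizer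
          ((hLK.trans hKV₂).trans (normalizer_le_normalizer_centralizer V₂))
      · apply PMod_of_coprime_mem
        intro b hb hcop
        have hbL := (Subgroup.mem_inf.1 hb).1
        have hDL : D ⊓ L ≤ Subgroup.centralizer (V : Set G) := by
          apply hredL _ inf_le_right
          · exact le_normalizer_inf D L L (hLK.trans hKD) Subgroup.le_normalizer
          · exact hDmod.mono_left inf_le_left
        apply ab_lemma V D b hel (hDK.trans hKV) (hKV (hLK hbL)) hDmod hcop
        · intro d hd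
          apply hDL
          refine Subgroup.mem_inf.2 ⟨?_, ?_⟩
          · have h0 : ⁅d, b⁆ = d * (b * d⁻¹ * b⁻¹) := by
              simp only [commutatorElement_def]; group
            rw [h0]
            exact D.mul_mem hd ((Subgroup.mem_normalizer_iff.1 (hKD (hLK hbL)) _).1 (D.inv_mem hd))
          · have h0 : ⁅d, b⁆ = (d * b * d⁻¹) * b⁻¹ := by simp only [commutatorElement_def]
            rw [h0]
            exact L.mul_mem ((Subgroup.mem_normalizer_iff.1 (hKL (hDK hd)) _).1 hbL) (L.inv_mem hbL)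
        · rw [← hV₂]; exact (Subgroup.mem_inf.1 hb).2
    have hred₂ : RedAct p L V₂ := by
      intro D' hD'L hLD' hD'
      have hcen : Subgroup.centralizer (V : Set G) ≤ Subgroup.centralizer (V₂ : Set G) :=
        Subgroup.centralizer_le hV₂V
      refine le_trans ?_ hcen
      apply hredL D' hD'L hLD'
      intro d hd
      obtain ⟨k, hk⟩ := hD' d hd
      exact ⟨k, hkey (Subgroup.mem_inf.2 ⟨L.pow_mem (hD'L hd) _, hk⟩)⟩
    obtain ⟨V', hV'V₂, hpred, hcen⟩ := ih _ hlt V₂ rfl (hV₂V.trans hVL) hKV₂ hel₂ hred₂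
    exact ⟨V', hV'V₂.trans hV₂V, hpred,
      fun x hx => hkey (Subgroup.mem_inf.2 ⟨(Subgroup.mem_inf.1 hx).1, hcen hx⟩)⟩

theorem PMod.map_conj' {D C : Subgroup G} (h : PMod p D C) (g : G) :
    PMod p (D.map (MulAut.conj g).toMonoidHom) (C.map (MulAut.conj g).toMonoidHom) := by
  rintro _ ⟨d, hd, rfl⟩
  obtain ⟨k, hk⟩ := h d hd
  refine ⟨k, ?_⟩
  show (g * d * g⁻¹) ^ (p ^ k) ∈ C.map (MulAut.conj g).toMonoidHom
  rw [conj_pow]
  exact ⟨_, hk, rfl⟩

theorem isElementaryAbelian_map_conj {V : Subgroup G} (h : IsElementaryAbelian p V) (g : G) :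
    IsElementaryAbelian p (V.map (MulAut.conj g).toMonoidHom) := by
  rw [isElementaryAbelian_iff] at h ⊢
  constructor
  · rintro _ ⟨a, ha, rfl⟩ _ ⟨b, hb, rfl⟩
    show g * a * g⁻¹ * (g * b * g⁻¹) = g * b * g⁻¹ * (g * a * g⁻¹)
    have h1 := h.1 a ha b hb
    calc g * a * g⁻¹ * (g * b * g⁻¹) = g * (a * b) * g⁻¹ := by group
      _ = g * (b * a) * g⁻¹ := by rw [h1]
      _ = g * b * g⁻¹ * (g * a * g⁻¹) := by group
  · rintro _ ⟨a, ha, rfl⟩
    show (g * a * g⁻¹) ^ p = 1
    rw [conj_pow, h.2 a ha]; group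

theorem PRedIn.map_conj {K V : Subgroup G} (h : PRedIn p K V) (g : G) :
    PRedIn p (K.map (MulAut.conj g).toMonoidHom) (V.map (MulAut.conj g).toMonoidHom) := by
  refine ⟨Subgroup.map_mono h.1, ?_, isElementaryAbelian_map_conj h.2.2.1 g, ?_⟩
  · rw [normalizer_map_conj]; exact Subgroup.map_mono h.2.1
  · intro D hDK hKD hD
    have h1 : D.map (MulAut.conj g⁻¹).toMonoidHom ≤ K := by
      rw [map_conj_le_iff, inv_inv]; exact hDK
    have h2 : K ≤ Subgroup.normalizer ((D.map (MulAut.conj g⁻¹).toMonoidHom : Subgroup G) : Set G) := by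
      rw [normalizer_map_conj, ← map_conj_le_iff]; exact hKD
    have h3 := hD.map_conj' g⁻¹
    rw [← centralizer_map_conj, map_conj_map_conj, inv_mul_cancel, map_conj_one] at h3
    have h4 := h.2.2.2 _ h1 h2 h3
    rw [map_conj_le_iff, inv_inv, ← centralizer_map_conj] at h4
    exact h4

theorem le_normalizer_largestPReducedOf (L : Subgroup G) :
    Subgroup.normalizer (L : Set G) ≤
      Subgroup.normalizer ((largestPReducedOf p L : Subgroup G) : Set G) := by
  apply le_normalizer_of_conj_mem
  intro g hg x hx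
  have h1 := (predIn_largest (p := p) L).map_conj g
  rw [map_conj_eq_of_mem_normalizer L hg] at h1
  exact h1.le_largest ⟨x, hx, rfl⟩

theorem centralizer_largest_normal_step (K L : Subgroup G) (hLK : L ≤ K)
    (hKL : K ≤ Subgroup.normalizer (L : Set G)) :
    L ⊓ Subgroup.centralizer ((largestPReducedOf p L : Subgroup G) : Set G) =
      L ⊓ Subgroup.centralizer ((largestPReducedOf p K : Subgroup G) : Set G) := by
  have hYK := predIn_largest (p := p) K
  have hYL := predIn_largest (p := p) L
  have hgood : Good p L (largestPReducedOf p K) :=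
    good_step K L _ hLK hKL (IsElementaryAbelian_isPGroup hYK.2.2.1) (good_of_predIn hYK)
  apply le_antisymm
  · have h1 : largestPReducedOf p K ⊓ L ≤ largestPReducedOf p L :=
      (predIn_inf_of_good hgood hYK.2.2.1).le_largest
    have h2 : Subgroup.centralizer ((largestPReducedOf p L : Subgroup G) : Set G) ≤
        Subgroup.centralizer ((largestPReducedOf p K ⊓ L : Subgroup G) : Set G) :=
      Subgroup.centralizer_le h1
    intro x hx
    exact Subgroup.mem_inf.2 ⟨(Subgroup.mem_inf.1 hx).1, centralizer_inf_of_good hgood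
      (Subgroup.mem_inf.2 ⟨(Subgroup.mem_inf.1 hx).1, h2 (Subgroup.mem_inf.1 hx).2⟩)⟩
  · obtain ⟨V', hV', hpred, hcen⟩ := lemmaX_aux K L hLK hKL _ (largestPReducedOf p L) rfl hYL.1
      (hKL.trans (le_normalizer_largestPReducedOf L)) hYL.2.2.1 hYL.2.2.2
    have hV'le := hpred.le_largest
    have h3 : Subgroup.centralizer ((largestPReducedOf p K : Subgroup G) : Set G) ≤
        Subgroup.centralizer (V' : Set G) := Subgroup.centralizer_le hV'le
    intro x hx
    exact Subgroup.mem_inf.2 ⟨(Subgroup.mem_inf.1 hx).1,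
      hcen (Subgroup.mem_inf.2 ⟨(Subgroup.mem_inf.1 hx).1, h3 (Subgroup.mem_inf.1 hx).2⟩)⟩

theorem centralizer_largest_subnormal (L : Subgroup G) (hL : L.IsSubnormal) :
    L ⊓ Subgroup.centralizer ((largestPReducedOf p L : Subgroup G) : Set G) =
      L ⊓ Subgroup.centralizer ((largestPReducedOf p (⊤ : Subgroup G) : Subgroup G) : Set G) := by
  induction hL with
  | top => rfl
  | step B K hle hK hN ih =>
    have hKB := (Subgroup.normal_subgroupOf_iff_le_normalizer hle).1 hN
    rw [centralizer_largest_normal_step K B hle hKB]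
    have h1 : B ⊓ Subgroup.centralizer ((largestPReducedOf p K : Subgroup G) : Set G) =
        B ⊓ (K ⊓ Subgroup.centralizer ((largestPReducedOf p K : Subgroup G) : Set G)) := by
      rw [← inf_assoc, inf_eq_left.2 hle]
    rw [h1, ih, ← inf_assoc, inf_eq_left.2 hle]

/-- S2825 -/
theorem largest_subnormal (L : Subgroup G) (hL : L.IsSubnormal) :
    largestPReduced p G ⊓ L = largestPReduced p G ⊓ (largestPReducedOf p L) ∧
    IsPReducedNormal p ((largestPReduced p G ⊓ L).subgroupOf L) ∧
    L ⊓ Subgroup.centralizer ((largestPReducedOf p L : Subgroup G) : Set G) =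
      L ⊓ Subgroup.centralizer (largestPReduced p G : Set G) ∧
    L ⊓ Subgroup.centralizer (largestPReduced p G : Set G) =
      L ⊓ Subgroup.centralizer ((largestPReduced p G ⊓ L : Subgroup G) : Set G) ∧
    (pResidual p G ≤ L → (⁅(largestPReducedOf p L), L⁆ = ⊥ ↔
      ⁅largestPReduced p G, (⊤ : Subgroup G)⁆ = ⊥)) := by
  have h3 := centralizer_largest_subnormal (p := p) L hL
  rw [largestPReducedOf_top] at h3
  obtain ⟨Y, hY⟩ : ∃ Y, Y = largestPReduced p G := ⟨_, rfl⟩
  rw [← hY] at h3 ⊢
  have hYred : PRedIn p ⊤ Y := by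
    rw [hY, ← isPReducedNormal_iff_top]; exact isPReducedNormal_largest
  have hYp : IsPGroup p Y := IsElementaryAbelian_isPGroup hYred.2.2.1
  have hgood : Good p L Y := good_subnormal Y hYp (good_of_predIn hYred) L hL
  have h2 : PRedIn p L (Y ⊓ L) := predIn_inf_of_good hgood hYred.2.2.1
  have hYL := predIn_largest (p := p) L
  refine ⟨?_, ?_, h3, ?_, ?_⟩
  · apply le_antisymm
    · exact le_inf inf_le_left h2.le_largest
    · exact inf_le_inf_left Y hYL.1
  · rw [isPReducedNormal_subgroupOf_iff L _ inf_le_right]; exact h2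
  · apply le_antisymm
    · have hle : Y ⊓ L ≤ Y := inf_le_left
      have hcen : Subgroup.centralizer (Y : Set G) ≤
          Subgroup.centralizer ((Y ⊓ L : Subgroup G) : Set G) := Subgroup.centralizer_le hle
      exact inf_le_inf_left L hcen
    · exact le_inf inf_le_left (centralizer_inf_of_good hgood)
  · intro hres
    constructor
    · intro h
      rw [Subgroup.commutator_comm, Subgroup.commutator_eq_bot_iff_le_centralizer] at h
      have hLY : L ≤ Subgroup.centralizer (Y : Set G) := by
        have h5 : L ≤ L ⊓ Subgroup.centralizer ((largestPReducedOf p L : Subgroup G) : Set G) :=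
          le_inf le_rfl h
        rw [h3] at h5
        exact h5.trans inf_le_right
      have htop : (⊤ : Subgroup G) ≤ Subgroup.centralizer (Y : Set G) := by
        apply hYred.2.2.2 ⊤ le_rfl (by rw [Subgroup.normalizer_eq_top])
        intro x _
        obtain ⟨a, ha⟩ := pow_mem_pResidual p x
        exact ⟨a, hLY (hres ha)⟩
      rw [Subgroup.commutator_comm, Subgroup.commutator_eq_bot_iff_le_centralizer]
      exact htop
    · intro h
      rw [Subgroup.commutator_comm, Subgroup.commutator_eq_bot_iff_le_centralizer] at h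
      have h5 : L ≤ L ⊓ Subgroup.centralizer (Y : Set G) := le_inf le_rfl (le_top.trans h)
      rw [← h3] at h5
      rw [Subgroup.commutator_comm, Subgroup.commutator_eq_bot_iff_le_centralizer]
      exact h5.trans inf_le_right

end

end Cfsg.Agent.Lib.helper14
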