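import Mathlib
import Cfsg.Agent.Lib.helper15.S1454E
import Cfsg.Agent.Lib.helper12.S1454X1
import Cfsg.Agent.Lib.helper13.S1454X2
import Cfsg.Agent.Lib.helper14.S1454AB
import Cfsg.Agent.Lib.helper14.S1454X3r

set_option autoImplicit false
set_option linter.unusedVariables false

namespace Cfsg.Agent.Lib.helper14.S1454T3b

open scoped commutatorElement

/-- Relative form (no faithfulness or oddness hypothesis needed). -/
theorem card_eq_cube {G : Type*} [Group G] [Finite G] (p : ℕ) [Fact p.Prime] (hp : p ≠ 2)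
    (R A : Subgroup G) (hR : IsPGroup p R) (hr : Cfsg.PRankLE p 2 R)
    (hA : A ≤ Subgroup.normalizer (R : Set G)) (hq : (Nat.card A).Prime)
    (hqp : ¬ Nat.card A ∣ p * (p - 1)) (hRA : ⁅R, A⁆ = R) (hna : ¬ IsMulCommutative R) :
    Nat.card R = p ^ 3 := by
  classical
  obtain ⟨D, hDR, hexp, hcl, hND, hcrit, hcomm⟩ :=
    Cfsg.Agent.Lib.helper15.S1454E.exists_critical_plus p hp R hR
  by_cases hDab : ∀ x ∈ D, ∀ y ∈ D, x * y = y * x
  · exact absurd (Cfsg.Agent.Lib.helper14.S1454AB.abelian_case p hp R A D hR hr hA hq hqp hRA hDR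
      hexp hND hcrit hDab) hna
  · have hDnc : ∃ x ∈ D, ∃ y ∈ D, x * y ≠ y * x := by
      by_contra hcon
      apply hDab
      intro x hx y hy
      by_contra hxy
      exact hcon ⟨x, hx, y, hy, hxy⟩
    have hrk : ∀ B : Subgroup G, B ≤ D → (∀ x ∈ B, ∀ y ∈ B, x * y = y * x) →
        Nat.card B ≤ p ^ 2 :=
      fun B hB hc => Cfsg.Agent.Lib.helper14.S1454AB.rank_le_sq p R hr B (hB.trans hDR) hc
        (fun x hx => hexp x (hB hx))
    obtain ⟨hD3, hZ⟩ :=
      Cfsg.Agent.Lib.helper12.S1454X1.extraspecial_of_rank p D hexp hcl hrk hDnc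
    have hprod := Cfsg.Agent.Lib.helper13.S1454X2.prod_centralizer p R D hR hDR hD3 hZ
      (Subgroup.le_normalizer.trans hND) hcomm
    have hr' : ∀ B : Subgroup G, B ≤ R → (∀ x ∈ B, ∀ y ∈ B, x * y = y * x) →
        (∀ x ∈ B, x ^ p = 1) → Nat.card B ≤ p ^ 2 :=
      fun B hB hc he => Cfsg.Agent.Lib.helper14.S1454AB.rank_le_sq p R hr B hB hc he
    have hAord : ∀ a ∈ A, (orderOf a).Coprime (p * (p - 1)) := by
      intro a ha
      have h1 : orderOf (⟨a, ha⟩ : ↥A) ∣ Nat.card A := orderOf_dvd_natCard _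
      rw [Subgroup.orderOf_mk] at h1
      exact Nat.Coprime.coprime_dvd_left h1 ((Nat.Prime.coprime_iff_not_dvd hq).mpr hqp)
    have hle : ⁅R, A⁆ ≤ D := by
      rw [Subgroup.commutator_le]
      intro r hr0 a ha
      obtain ⟨d, hd, c, hc, rfl⟩ := hprod r hr0
      have hac := Cfsg.Agent.Lib.helper14.S1454X3r.cent_centralizer_rel p hp R D hR hDR hr' hexp
        hD3 hZ a (hA ha) (hND (hA ha)) (hAord a ha) c hc
      have h2 : c * a * c⁻¹ = a := by rw [← hac]; group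
      have h1 : ⁅d * c, a⁆ = d * (a * d⁻¹ * a⁻¹) := by
        rw [commutatorElement_def]
        calc d * c * a * (d * c)⁻¹ * a⁻¹ = d * (c * a * c⁻¹) * d⁻¹ * a⁻¹ := by group
          _ = d * (a * d⁻¹ * a⁻¹) := by rw [h2]; group
      rw [h1]
      have h3 : a * d⁻¹ * a⁻¹ ∈ D :=
        (Subgroup.mem_normalizer_iff.mp (hND (hA ha)) d⁻¹).mp (D.inv_mem hd)
      exact D.mul_mem hd h3
    rw [hRA] at hle
    have hRD : R = D := le_antisymm hle hDR
    rw [hRD]
    exact hD3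

/-- (T3b), exact signature of helper8's assembly. -/
theorem part_three_b {G : Type*} [Group G] [Finite G] (p : ℕ) [Fact p.Prime] (hp : p ≠ 2) (R A : Subgroup G) (hR : IsPGroup p R) (hr2 : Cfsg.PRankLE p 2 R) (hA : A ≤ Subgroup.normalizer (R : Set G)) (hAodd : Odd (Nat.card A)) (hfaith : A ⊓ Subgroup.centralizer (R : Set G) = ⊥) (hq : (Nat.card A).Prime) (hq1 : ¬ Nat.card A ∣ p * (p - 1)) (hRA : ⁅R, A⁆ = R) (hnc : ¬ IsMulCommutative R) : Nat.card R = p ^ 3 :=
  card_eq_cube p hp R A hR hr2 hA hq hq1 hRA hnc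

end Cfsg.Agent.Lib.helper14.S1454T3b
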