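import Mathlib
import Cfsg.Agent.Lib.helper14.Hol
import Cfsg.Agent.Lib.helper14.HolFF
import Cfsg.Agent.Lib.helper14.HolX
import Cfsg.Agent.Lib.helper14.FFCoprime
import Cfsg.Agent.Lib.helper14.ThompsonNPC1
import Cfsg.Agent.Lib.helper14.SolvPSolv
import Cfsg.Agent.Lib.helper3.Replacement
import Cfsg.Agent.Lib.helper3.FFMin
import Cfsg.Agent.Lib.helper15.SubnSyl
import Cfsg.Agent.Lib.helper2.PSL2Small
import Cfsg.Agent.Lib.helper14.S4Inv
import Cfsg.Agent.S0617
import Cfsg.Agent.Lib.helper3.PLocal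
import Cfsg.Agent.Lib.helper3.Primitive
import Cfsg.Agent.Lib.helper1.Solv
import Cfsg.Agent.Lib.helper16.PSolv
import Cfsg.Agent.Lib.helper3.PSolvPair

/-!
# Solvable groups with `F(X) = O₂(X)`: products of `S₃` (library, seat helper14)
-/

set_option autoImplicit false
set_option linter.style.haveILetI false
set_option linter.deprecated false
set_option linter.unusedVariables false

namespace Cfsg.Agent.Lib.helper14

open scoped commutatorElement

universe u

/-- Abelian subgroups of largest order are "inequality" best offenders on any abelian subgroup. -/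
theorem maxAb_ineq {G : Type u} [Group G] [Finite G] (T U A : Subgroup G) (hUT : U ≤ T)
    (hUab : ∀ x ∈ U, ∀ y ∈ U, x * y = y * x) (hA : A ∈ MaxAb T) (B : Subgroup G) (hBA : B ≤ A) :
    Nat.card B * Nat.card ↥(U ⊓ Subgroup.centralizer (B : Set G)) ≤
      Nat.card A * Nat.card ↥(U ⊓ Subgroup.centralizer (A : Set G)) := by
  obtain ⟨hAT, hAc, hAm⟩ := hA
  obtain ⟨W, hW⟩ : ∃ W : Subgroup G, W = U ⊓ Subgroup.centralizer (B : Set G) := ⟨_, rfl⟩
  rw [← hW]
  have hWU : W ≤ U := hW ▸ inf_le_left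
  have hBW : B ≤ Subgroup.centralizer (W : Set G) := by
    intro b hb
    refine Subgroup.mem_centralizer_iff.mpr fun w hw => ?_
    rw [hW] at hw
    exact (Subgroup.mem_centralizer_iff.mp (Subgroup.mem_inf.mp hw).2 b hb).symm
  have hBB : B ≤ Subgroup.centralizer (B : Set G) := by
    intro b hb
    refine Subgroup.mem_centralizer_iff.mpr fun w hw => ?_
    exact hAc w (hBA hw) b (hBA hb)
  have hWB : W ≤ Subgroup.centralizer (B : Set G) := hW ▸ inf_le_right
  have hWW : W ≤ Subgroup.centralizer (W : Set G) := by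
    intro b hb
    refine Subgroup.mem_centralizer_iff.mpr fun w hw => ?_
    exact hUab w (hWU hw) b (hWU hb)
  have hcen : B ⊔ W ≤ Subgroup.centralizer ((B ⊔ W : Subgroup G) : Set G) := by
    apply sup_le
    · intro b hb
      exact Cfsg.Agent.Lib.helper3.mem_centralizer_sup (hBB hb) (hBW hb)
    · intro w hw
      exact Cfsg.Agent.Lib.helper3.mem_centralizer_sup (hWB hw) (hWW hw)
  have hcomm : ∀ a ∈ B ⊔ W, ∀ b ∈ B ⊔ W, a * b = b * a := by
    intro a ha b hb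
    exact (Subgroup.mem_centralizer_iff.mp (hcen hb) a ha)
  have hle : Nat.card ↥(B ⊔ W) ≤ Nat.card A :=
    hAm (B ⊔ W) (sup_le (hBA.trans hAT) (hWU.trans hUT)) hcomm
  have hprod := Cfsg.Agent.Lib.helper15.card_sup_mul_card_inf B W
    (hBW.trans (Subgroup.centralizer_le_normalizer _))
  have hinf : B ⊓ W ≤ U ⊓ Subgroup.centralizer (A : Set G) := by
    intro x hx
    obtain ⟨hx1, hx2⟩ := Subgroup.mem_inf.mp hx
    refine Subgroup.mem_inf.mpr ⟨hWU hx2, ?_⟩
    refine Subgroup.mem_centralizer_iff.mpr fun a ha => ?_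
    exact hAc a ha x (hBA hx1)
  rw [← hprod]
  exact Nat.mul_le_mul hle (Subgroup.card_le_of_le hinf)

/-- Transport of the offender inequality to the holomorph. -/
theorem hol_ineq {G : Type u} [Group G] [Finite G] (V : Subgroup G) [V.Normal] (A : Subgroup G)
    (h1 : ∀ B : Subgroup G, B ≤ A →
      Nat.card B * Nat.card ↥(V ⊓ Subgroup.centralizer (B : Set G)) ≤
        Nat.card A * Nat.card ↥(V ⊓ Subgroup.centralizer (A : Set G))) :
    ∀ 𝔅 : Subgroup (Hol V), 𝔅 ≤ A.map (holHom V) →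
      Nat.card 𝔅 * Nat.card ↥(holV V ⊓ Subgroup.centralizer (𝔅 : Set (Hol V))) ≤
        Nat.card (A.map (holHom V)) *
          Nat.card ↥(holV V ⊓ Subgroup.centralizer ((A.map (holHom V) : Subgroup (Hol V)) :
            Set (Hol V))) := by
  intro 𝔅 h𝔅
  obtain ⟨B, hB⟩ : ∃ B : Subgroup G, B = A ⊓ 𝔅.comap (holHom V) := ⟨_, rfl⟩
  have hBA : B ≤ A := hB ▸ inf_le_left
  have hBmap : B.map (holHom V) = 𝔅 := by
    apply le_antisymm
    · rintro _ ⟨x, hx, rfl⟩
      rw [hB] at hx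
      exact hx.2
    · intro y hy
      obtain ⟨a, ha, rfl⟩ := h𝔅 hy
      exact Subgroup.mem_map_of_mem _ (hB ▸ ⟨ha, hy⟩)
  have hker : (holHom V).ker ⊓ B = (holHom V).ker ⊓ A := by
    apply le_antisymm (inf_le_inf_left _ hBA)
    rintro x ⟨hx1, hx2⟩
    refine ⟨hx1, hB ▸ ⟨hx2, ?_⟩⟩
    show holHom V x ∈ 𝔅
    rw [MonoidHom.mem_ker.mp hx1]
    exact one_mem _
  have e1 := card_inf_ker_mul_card_map (holHom V) B
  have e2 := card_inf_ker_mul_card_map (holHom V) A
  rw [hker, hBmap] at e1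
  have e3 := hol_cent_card V B
  rw [hBmap] at e3
  have e4 := hol_cent_card V A
  have h5 := h1 B hBA
  rw [e3, e4]
  rw [← e1, ← e2, mul_assoc, mul_assoc] at h5
  exact Nat.le_of_mul_le_mul_left h5 Nat.card_pos

/-- Conjugates of best offenders by elements normalizing `V` are best offenders. -/
theorem bestOffender_map_conj {G : Type u} [Group G] [Finite G] {p : ℕ} (V A : Subgroup G) {g : G}
    (hg : g ∈ Subgroup.normalizer (V : Set G)) (hA : Cfsg.IsBestOffenderOn p V A) :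
    Cfsg.IsBestOffenderOn p V (A.map (MulAut.conj g).toMonoidHom) := by
  have hcard : ∀ B : Subgroup G,
      Nat.card ↥(V ⊓ Subgroup.centralizer ((B.map (MulAut.conj g).toMonoidHom : Subgroup G) :
        Set G)) = Nat.card ↥(V ⊓ Subgroup.centralizer (B : Set G)) := by
    intro B
    have e : V ⊓ Subgroup.centralizer ((B.map (MulAut.conj g).toMonoidHom : Subgroup G) : Set G) =
        (V ⊓ Subgroup.centralizer (B : Set G)).map (MulAut.conj g).toMonoidHom := by
      rw [Subgroup.map_inf_eq _ _ _ (MulAut.conj g).injective, map_conj_eq_of_mem_normalizer V hg]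
      congr 1
      exact (map_equiv_centralizer_eq B (MulAut.conj g)).symm
    rw [e, Subgroup.card_map_of_injective (MulAut.conj g).injective]
  obtain ⟨h1, h2, h3⟩ := hA
  have hCn : ∀ x, x ∈ Subgroup.centralizer (V : Set G) →
      g * x * g⁻¹ ∈ Subgroup.centralizer (V : Set G) := by
    intro x hx
    have h := map_equiv_centralizer_eq V (MulAut.conj g)
    rw [map_conj_eq_of_mem_normalizer V hg] at h
    rw [← h]
    exact ⟨x, hx, rfl⟩
  refine ⟨?_, ?_, ?_⟩
  · intro B' hB'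
    obtain ⟨B, hB⟩ : ∃ B : Subgroup G, B = B'.comap (MulAut.conj g).toMonoidHom := ⟨_, rfl⟩
    have hBmap : B.map (MulAut.conj g).toMonoidHom = B' := by
      rw [hB]
      exact Subgroup.map_comap_eq_self_of_surjective (MulAut.conj g).surjective B'
    have hBA : B ≤ A := by
      intro x hx
      rw [hB] at hx
      obtain ⟨a, ha, hax⟩ := hB' (Subgroup.mem_comap.mp hx)
      have : a = x := (MulAut.conj g).injective hax
      rw [← this]; exact ha
    have := h1 B hBA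
    rw [← hBmap, hcard B, hcard A, Subgroup.card_map_of_injective (MulAut.conj g).injective,
      Subgroup.card_map_of_injective (MulAut.conj g).injective]
    exact this
  · rw [← Subgroup.map_commutator]
    rintro _ ⟨x, hx, rfl⟩
    exact hCn x (h2 hx)
  · rintro _ ⟨a, ha, rfl⟩
    have : ((MulAut.conj g).toMonoidHom a) ^ p = g * a ^ p * g⁻¹ := by
      rw [← map_pow]; rfl
    rw [this]
    exact hCn _ (h3 a ha)

set_option maxRecDepth 100000 in
set_option synthInstance.maxSize 4096 in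
set_option synthInstance.maxHeartbeats 400000 in
theorem mat2_commute_invol : ∀ α α' τ : Matrix (Fin 2) (Fin 2) (ZMod 2),
    α * α' = 1 → τ * τ = 1 → α * τ = τ * α → τ = 1 ∨ α = 1 ∨ τ * α = 1 := by
  decide


open Cfsg.Agent.Lib.helper3 in
set_option maxHeartbeats 1000000 in
/-- In a faithful group all of whose normal subgroups satisfy `C_H(O_{2'}(H)) ≤ O_{2'}(H)`, an
abelian `2`-subgroup satisfying the offender inequality has exponent `2`. -/
theorem ineq_offender_sq {Γ : Type u} [Group Γ] [Finite Γ] (V 𝒢 : Subgroup Γ)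
    (hV : Cfsg.IsElementaryAbelian 2 V) (h𝒢V : 𝒢 ≤ Subgroup.normalizer (V : Set Γ))
    (hf : 𝒢 ⊓ Subgroup.centralizer (V : Set Γ) = ⊥)
    (hS1 : ∀ H : Subgroup Γ, H ≤ 𝒢 → 𝒢 ≤ Subgroup.normalizer (H : Set Γ) →
      Subgroup.centralizer (Cfsg.pPrimeCore 2 ↥H : Set ↥H) ≤ Cfsg.pPrimeCore 2 ↥H) :
    ∀ n : ℕ, ∀ A : Subgroup Γ, Nat.card A = n → A ≤ 𝒢 → IsPGroup 2 A →
      (∀ a ∈ A, ∀ b ∈ A, a * b = b * a) →
      (∀ B : Subgroup Γ, B ≤ A →
        Nat.card B * Nat.card ↥(V ⊓ Subgroup.centralizer (B : Set Γ)) ≤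
          Nat.card A * Nat.card ↥(V ⊓ Subgroup.centralizer (A : Set Γ))) →
      ∀ a ∈ A, a * a = 1 := by
  classical
  haveI : Fact (Nat.Prime 2) := ⟨Nat.prime_two⟩
  obtain ⟨hVc, hVe⟩ := (isEA_iff 2 V).mp hV
  have hV2 : IsPGroup 2 V := isPGroup_of_isEA hV
  intro n
  induction n using Nat.strong_induction_on with
  | _ n ih =>
  intro A hn hA𝒢 hA2 hAc hbest
  by_cases hA1 : A = ⊥
  · intro a ha
    rw [hA1, Subgroup.mem_bot] at ha
    rw [ha, one_mul]
  have hAV : A ≤ Subgroup.normalizer (V : Set Γ) := hA𝒢.trans h𝒢V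
  have hAA : ⁅A, A⁆ = ⊥ := by
    rw [Subgroup.commutator_eq_bot_iff_le_centralizer]
    intro a ha
    exact Subgroup.mem_centralizer_iff.mpr fun b hb => hAc b hb a ha
  have hab : ⁅A, A⁆ ≤ Subgroup.centralizer (V : Set Γ) := by rw [hAA]; exact bot_le
  obtain ⟨hc1, hc2⟩ := timmesfeld_core V A hVc hAV hab hbest V le_rfl
  obtain ⟨As, hAs⟩ : ∃ As : Subgroup Γ,
      As = A ⊓ Subgroup.centralizer ((⁅V, A⁆ : Subgroup Γ) : Set Γ) := ⟨_, rfl⟩
  rw [← hAs] at hc1 hc2
  have hAsA : As ≤ A := hAs ▸ inf_le_left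
  have hVA : ⁅V, A⁆ ≤ V := Cfsg.Agent.Lib.helper8.commutator_le_of_le_normalizer hAV
  -- A* is a best offender
  have hAsbest : Cfsg.IsBestOffenderOn 2 V As := by
    refine ⟨fun B hB => ?_, ?_, ?_⟩
    · rw [hc1]; exact hbest B (hB.trans hAsA)
    · refine (Subgroup.commutator_mono hAsA hAsA).trans hab
    · intro a ha
      rw [hAs] at ha
      obtain ⟨haA, hac⟩ := Subgroup.mem_inf.mp ha
      refine Subgroup.mem_centralizer_iff.mpr fun v hv => ?_
      have hcV : ⁅v, a⁆ ∈ ⁅V, A⁆ := Subgroup.commutator_mem_commutator hv haA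
      have hcc : a * ⁅v, a⁆ = ⁅v, a⁆ * a :=
        (Subgroup.mem_centralizer_iff.mp hac _ hcV).symm
      have hc2' : ⁅v, a⁆ ^ 2 = 1 := hVe _ (hVA hcV)
      -- a v a⁻¹ = c⁻¹ v where c = [v,a] = v a v⁻¹ a⁻¹
      have e1 : a * v = ⁅v, a⁆⁻¹ * v * a := by
        rw [commutatorElement_def]; group
      have hcv : ⁅v, a⁆⁻¹ * v = v * ⁅v, a⁆⁻¹ :=
        hVc _ (V.inv_mem (hVA hcV)) v hv
      have hcinv : a * ⁅v, a⁆⁻¹ = ⁅v, a⁆⁻¹ * a := by
        have : Commute a ⁅v, a⁆ := hcc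
        exact this.inv_right.eq
      have hcsq : ⁅v, a⁆⁻¹ * ⁅v, a⁆⁻¹ = 1 := by
        rw [← mul_inv_rev, ← pow_two, hc2', inv_one]
      calc v * a ^ 2 = v * a * a := by rw [pow_two, mul_assoc]
        _ = (⁅v, a⁆⁻¹ * ⁅v, a⁆⁻¹) * (v * a * a) := by rw [hcsq, one_mul]
        _ = ⁅v, a⁆⁻¹ * (⁅v, a⁆⁻¹ * v * a) * a := by group
        _ = ⁅v, a⁆⁻¹ * (a * v) * a := by rw [← e1]
        _ = (⁅v, a⁆⁻¹ * a) * v * a := by group
        _ = (a * ⁅v, a⁆⁻¹) * v * a := by rw [hcinv]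
        _ = a * (⁅v, a⁆⁻¹ * v * a) := by group
        _ = a * (a * v) := by rw [← e1]
        _ = a ^ 2 * v := by rw [pow_two, mul_assoc]
  -- A* acts nontrivially
  have hfA : ∀ B : Subgroup Γ, B ≤ 𝒢 → ⁅V, B⁆ = ⊥ → B = ⊥ := by
    intro B hB h
    rw [eq_bot_iff, ← hf]
    exact le_inf hB (Subgroup.le_centralizer_iff.mp
      (Subgroup.commutator_eq_bot_iff_le_centralizer.mp h))
  have hAsV : ⁅V, As⁆ ≠ ⊥ := by
    intro h
    apply hA1
    apply hfA A hA𝒢
    have hcen : V ⊓ Subgroup.centralizer (As : Set Γ) = V := by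
      apply inf_eq_left.mpr
      exact Subgroup.commutator_eq_bot_iff_le_centralizer.mp h
    rw [hcen] at hc2
    exact commutator_eq_bot_of_pgroup V A hV2 hA2 hAV hVc hc2.le
  -- the subgroup generated by all best offenders
  obtain ⟨H0, hH0⟩ : ∃ H0 : Subgroup Γ,
      H0 = ⨆ B : {B : Subgroup Γ // B ≤ 𝒢 ∧ Cfsg.IsBestOffenderOn 2 V B}, (B : Subgroup Γ) :=
    ⟨_, rfl⟩
  have hH0𝒢 : H0 ≤ 𝒢 := by rw [hH0]; exact iSup_le fun B => B.2.1
  have hle0 : ∀ B : Subgroup Γ, B ≤ 𝒢 → Cfsg.IsBestOffenderOn 2 V B → B ≤ H0 := by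
    intro B hB1 hB2
    rw [hH0]
    exact le_iSup_of_le ⟨B, hB1, hB2⟩ le_rfl
  have h𝒢H0 : 𝒢 ≤ Subgroup.normalizer (H0 : Set Γ) := by
    intro g hg
    apply mem_normalizer_of_map_conj_eq
    apply le_antisymm
    · rw [hH0, Subgroup.map_iSup]
      refine iSup_le fun B => ?_
      rw [← hH0]
      apply hle0
      · rintro _ ⟨b, hb, rfl⟩
        exact 𝒢.mul_mem (𝒢.mul_mem hg (B.2.1 hb)) (𝒢.inv_mem hg)
      · exact bestOffender_map_conj V B (h𝒢V hg) B.2.2
    · -- by cardinality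
      apply le_of_eq
      symm
      apply Subgroup.eq_of_le_of_card_ge
      · rw [hH0, Subgroup.map_iSup]
        refine iSup_le fun B => ?_
        rw [← hH0]
        apply hle0
        · rintro _ ⟨b, hb, rfl⟩
          exact 𝒢.mul_mem (𝒢.mul_mem hg (B.2.1 hb)) (𝒢.inv_mem hg)
        · exact bestOffender_map_conj V B (h𝒢V hg) B.2.2
      · rw [Subgroup.card_map_of_injective (MulAut.conj g).injective]
  have hH0V : H0 ≤ Subgroup.normalizer (V : Set Γ) := hH0𝒢.trans h𝒢V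
  have hf0 : H0 ⊓ Subgroup.centralizer (V : Set Γ) = ⊥ := by
    rw [eq_bot_iff, ← hf]; exact inf_le_inf_right _ hH0𝒢
  have hS10 := hS1 H0 hH0𝒢 h𝒢H0
  have hAsH0 : As ≤ H0 := hle0 As (hAsA.trans hA𝒢) hAsbest
  obtain ⟨B, hBAs, hBbest, hBV, hBmin⟩ := exists_min_offender V As hAsbest hAsV
  have hBH0 : B ≤ H0 := hBAs.trans hAsH0
  obtain ⟨t, ht, hzt⟩ := ff_transv_of_min V H0 hV hH0V hf0 hS10 B hBH0 hBbest hBV hBmin
  have hS := ff_setup_of V H0 hV hH0V hf0 hS10
  obtain ⟨Q, hQ⟩ : ∃ Q : Subgroup Γ, Q = Cfsg.Agent.Lib.helper3.ffQ 2 H0 := ⟨_, rfl⟩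
  rw [← hQ] at hS
  have htA : t ∈ A := hAsA (hBAs (hzt ▸ Subgroup.mem_zpowers t))
  have ht2 : t * t = 1 := by
    have := pow_orderOf_eq_one t
    rwa [ht.2.1, pow_two] at this
  have ht1 : t ≠ 1 := by
    intro h
    have := ht.2.1
    rw [h, orderOf_one] at this
    omega
  obtain ⟨-, hWcard, -, -, -⟩ := ffE_main hS ht
  obtain ⟨hd1, hd2, -, -⟩ := ffE_decomp hS ht
  obtain ⟨E, hE⟩ : ∃ E : Subgroup Γ, E = ffE Q t := ⟨_, rfl⟩
  rw [← hE] at hWcard hd1 hd2
  obtain ⟨W, hW⟩ : ∃ W : Subgroup Γ, W = ⁅V, E⁆ := ⟨_, rfl⟩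
  rw [← hW] at hWcard hd1 hd2
  have htE : t ∈ E := hE ▸ mem_ffE_self Q t
  have hEH0 : E ≤ H0 := hE ▸ ffE_le hS ht
  -- A normalizes E and W
  have hAE : A ≤ Subgroup.normalizer (E : Set Γ) := by
    intro a ha
    have haQ : a ∈ Subgroup.normalizer (Q : Set Γ) :=
      hQ ▸ normalizer_le_normalizer_ffQ 2 H0 (h𝒢H0 (hA𝒢 ha))
    have h1 := ffE_conj Q t haQ
    have h2 : a * t * a⁻¹ = t := by rw [hAc a ha t htA]; group
    rw [h2, ← hE] at h1
    exact mem_normalizer_of_map_conj_eq E h1.symm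
  have hAW : A ≤ Subgroup.normalizer (W : Set Γ) := fun a ha =>
    hW ▸ mem_normalizer_commutator_of_mem V E (hAV ha) (hAE ha)
  have hWV : W ≤ V := hW ▸
    Cfsg.Agent.Lib.helper8.commutator_le_of_le_normalizer (hEH0.trans hH0V)
  have hWEA : Cfsg.IsElementaryAbelian 2 W :=
    (isEA_iff 2 W).mpr ⟨fun x hx y hy => hVc x (hWV hx) y (hWV hy), fun x hx => hVe x (hWV hx)⟩
  -- t does not centralize W
  have htW : t ∉ Subgroup.centralizer (W : Set Γ) := by
    intro h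
    have h2 : t ∈ Subgroup.centralizer ((V ⊓ Subgroup.centralizer (E : Set Γ) : Subgroup Γ) :
        Set Γ) := by
      refine Subgroup.mem_centralizer_iff.mpr fun v hv => ?_
      exact (Subgroup.mem_centralizer_iff.mp (Subgroup.mem_inf.mp hv).2 t htE).symm
    have h3 := mem_centralizer_sup h h2
    rw [hd2] at h3
    have h4 : t ∈ H0 ⊓ Subgroup.centralizer (V : Set Γ) := Subgroup.mem_inf.mpr ⟨ht.1, h3⟩
    rw [hf0, Subgroup.mem_bot] at h4
    exact ht1 h4
  -- the complement A₁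
  obtain ⟨A₁, hA₁⟩ : ∃ A₁ : Subgroup Γ, A₁ = A ⊓ Subgroup.centralizer (W : Set Γ) := ⟨_, rfl⟩
  have hA₁A : A₁ ≤ A := hA₁ ▸ inf_le_left
  obtain ⟨M, hM1, -⟩ := exists_mat_rep W hWEA hWcard
  have hsplit : ∀ a ∈ A, a ∈ A₁ ∨ t * a ∈ A₁ := by
    intro a ha
    have haN : a ∈ Subgroup.normalizer (W : Set Γ) := hAW ha
    have htN : t ∈ Subgroup.normalizer (W : Set Γ) := hAW htA
    have e1 : M ⟨a, haN⟩ * M ⟨a⁻¹, Subgroup.inv_mem _ haN⟩ = 1 := by
      rw [← map_mul]
      have : (⟨a, haN⟩ : ↥(Subgroup.normalizer (W : Set Γ))) *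
          ⟨a⁻¹, Subgroup.inv_mem _ haN⟩ = 1 := Subtype.ext (mul_inv_cancel a)
      rw [this, map_one]
    have e2 : M ⟨t, htN⟩ * M ⟨t, htN⟩ = 1 := by
      rw [← map_mul]
      have : (⟨t, htN⟩ : ↥(Subgroup.normalizer (W : Set Γ))) * ⟨t, htN⟩ = 1 := Subtype.ext ht2
      rw [this, map_one]
    have e3 : M ⟨a, haN⟩ * M ⟨t, htN⟩ = M ⟨t, htN⟩ * M ⟨a, haN⟩ := by
      rw [← map_mul, ← map_mul]
      congr 1
      exact Subtype.ext (hAc a ha t htA)
    rcases mat2_commute_invol _ _ _ e1 e2 e3 with h | h | h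
    · exact absurd (hM1 _ h) htW
    · left
      rw [hA₁]
      exact Subgroup.mem_inf.mpr ⟨ha, hM1 _ h⟩
    · right
      rw [hA₁]
      refine Subgroup.mem_inf.mpr ⟨A.mul_mem htA ha, ?_⟩
      rw [← map_mul] at h
      exact hM1 _ h
  have htA₁ : t ∉ A₁ := fun h => htW (hA₁ ▸ h : t ∈ A ⊓ Subgroup.centralizer (W : Set Γ)).2
  have hA₁lt : Nat.card A₁ < n := by
    rw [← hn]
    apply lt_of_le_of_ne (Subgroup.card_le_of_le hA₁A)
    intro h
    have := Subgroup.eq_of_le_of_card_ge hA₁A h.ge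
    exact htA₁ (this ▸ htA)
  -- inequality for A₁
  have hztn : Subgroup.zpowers t ≤ A := Subgroup.zpowers_le.mpr htA
  have hzcard : Nat.card (Subgroup.zpowers t) = 2 := by rw [Nat.card_zpowers, ht.2.1]
  have hAsup : A ≤ A₁ ⊔ Subgroup.zpowers t := by
    intro a ha
    rcases hsplit a ha with h | h
    · exact Subgroup.mem_sup_left h
    · have : a = t⁻¹ * (t * a) := by group
      rw [this]
      exact Subgroup.mul_mem _ (Subgroup.mem_sup_right (Subgroup.inv_mem _ (Subgroup.mem_zpowers t)))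
        (Subgroup.mem_sup_left h)
  have hAcard : Nat.card A ≤ Nat.card A₁ * 2 := by
    have hnz : Subgroup.zpowers t ≤ Subgroup.normalizer (A₁ : Set Γ) := by
      rw [Subgroup.zpowers_le]
      apply mem_normalizer_of_forall_conj_mem
      intro b hb
      have : t * b * t⁻¹ = b := by rw [hAc t htA b (hA₁A hb)]; group
      rw [this]; exact hb
    have hdvd := Cfsg.Agent.Lib.helper7.card_sup_dvd_of_le_normalizer A₁ (Subgroup.zpowers t) hnz
    rw [hzcard] at hdvd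
    exact (Subgroup.card_le_of_le hAsup).trans
      (Nat.le_of_dvd (Nat.mul_pos Nat.card_pos (by norm_num)) hdvd)
  have hFt : Nat.card V =
      2 * Nat.card ↥(V ⊓ Subgroup.centralizer ((Subgroup.zpowers t : Subgroup Γ) : Set Γ)) := by
    have := card_commutator_zpowers V hVc t (hAV htA)
    rw [ht.2.2] at this
    exact this.symm
  have hbest₁ : ∀ B' : Subgroup Γ, B' ≤ A₁ →
      Nat.card B' * Nat.card ↥(V ⊓ Subgroup.centralizer (B' : Set Γ)) ≤
        Nat.card A₁ * Nat.card ↥(V ⊓ Subgroup.centralizer (A₁ : Set Γ)) := by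
    intro B' hB'
    obtain ⟨B'', hB''⟩ : ∃ B'' : Subgroup Γ, B'' = B' ⊔ Subgroup.zpowers t := ⟨_, rfl⟩
    have hB''A : B'' ≤ A := hB'' ▸ sup_le (hB'.trans hA₁A) hztn
    have h1 := hbest B'' hB''A
    -- |B''| ≥ 2 |B'|
    have hlt : B' < B'' := by
      rw [hB'']
      apply lt_of_le_of_ne le_sup_left
      intro h
      have : t ∈ B' := h ▸ Subgroup.mem_sup_right (Subgroup.mem_zpowers t)
      exact htA₁ (hB' this)
    have h2 : 2 * Nat.card B' ≤ Nat.card B'' := by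
      obtain ⟨k, hk⟩ := Subgroup.card_dvd_of_le hlt.le
      have hk1 : k ≠ 1 := by
        intro h
        rw [h, mul_one] at hk
        exact hlt.ne (Subgroup.eq_of_le_of_card_ge hlt.le hk.le)
      have hk0 : k ≠ 0 := by
        intro h
        rw [h, mul_zero] at hk
        exact Nat.card_pos.ne' hk
      rw [hk]
      calc 2 * Nat.card B' ≤ k * Nat.card B' := Nat.mul_le_mul_right _ (by omega)
        _ = Nat.card B' * k := mul_comm _ _
    -- |C_V(B')| ≤ 2 |C_V(B'')|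
    obtain ⟨F, hF⟩ : ∃ F : Subgroup Γ, F = V ⊓ Subgroup.centralizer (B' : Set Γ) := ⟨_, rfl⟩
    obtain ⟨Ft, hFtdef⟩ : ∃ Ft : Subgroup Γ,
        Ft = V ⊓ Subgroup.centralizer ((Subgroup.zpowers t : Subgroup Γ) : Set Γ) := ⟨_, rfl⟩
    rw [← hFtdef] at hFt
    have hFV : F ≤ V := hF ▸ inf_le_left
    have hFtV : Ft ≤ V := hFtdef ▸ inf_le_left
    have hle : Ft ⊓ F ≤ V ⊓ Subgroup.centralizer (B'' : Set Γ) := by
      intro x hx
      obtain ⟨hx1, hx2⟩ := Subgroup.mem_inf.mp hx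
      rw [hFtdef] at hx1
      rw [hF] at hx2
      refine Subgroup.mem_inf.mpr ⟨(Subgroup.mem_inf.mp hx1).1, ?_⟩
      rw [hB'']
      exact mem_centralizer_sup (Subgroup.mem_inf.mp hx2).2 (Subgroup.mem_inf.mp hx1).2
    have e1 := card_mul_relIndex_of_le (inf_le_right : Ft ⊓ F ≤ F)
    have e2 := card_mul_relIndex_of_le hFtV
    have hrel2 : Ft.relIndex V = 2 := by
      rw [hFt] at e2
      have hpos : 0 < Nat.card Ft := Nat.card_pos
      have : Nat.card Ft * Ft.relIndex V = Nat.card Ft * 2 := by rw [e2]; ring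
      exact Nat.eq_of_mul_eq_mul_left hpos this
    have hrel : (Ft ⊓ F).relIndex F ≤ 2 := by
      rw [Subgroup.inf_relIndex_right, ← hrel2]
      apply Subgroup.relIndex_le_of_le_right hFV
      rw [hrel2]; norm_num
    have h3 : Nat.card F ≤ 2 * Nat.card ↥(V ⊓ Subgroup.centralizer (B'' : Set Γ)) := by
      rw [← e1]
      calc Nat.card ↥(Ft ⊓ F) * (Ft ⊓ F).relIndex F ≤ Nat.card ↥(Ft ⊓ F) * 2 :=
            Nat.mul_le_mul_left _ hrel
        _ ≤ Nat.card ↥(V ⊓ Subgroup.centralizer (B'' : Set Γ)) * 2 :=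
            Nat.mul_le_mul_right _ (Subgroup.card_le_of_le hle)
        _ = 2 * Nat.card ↥(V ⊓ Subgroup.centralizer (B'' : Set Γ)) := mul_comm _ _
    -- 2 |C_V(A)| ≤ |C_V(A₁)|
    have hlt2 : V ⊓ Subgroup.centralizer (A : Set Γ) < V ⊓ Subgroup.centralizer (A₁ : Set Γ) := by
      apply lt_of_le_of_ne
        (inf_le_inf_left _ (Subgroup.centralizer_le (SetLike.coe_subset_coe.mpr hA₁A)))
      intro h
      apply htW
      refine Subgroup.mem_centralizer_iff.mpr fun w hw => ?_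
      have hw1 : w ∈ V ⊓ Subgroup.centralizer (A₁ : Set Γ) := by
        refine Subgroup.mem_inf.mpr ⟨hWV hw, ?_⟩
        refine Subgroup.mem_centralizer_iff.mpr fun b hb => ?_
        rw [hA₁] at hb
        exact (Subgroup.mem_centralizer_iff.mp (Subgroup.mem_inf.mp hb).2 w hw).symm
      rw [← h] at hw1
      exact (Subgroup.mem_centralizer_iff.mp (Subgroup.mem_inf.mp hw1).2 t htA).symm
    have h4 : 2 * Nat.card ↥(V ⊓ Subgroup.centralizer (A : Set Γ)) ≤
        Nat.card ↥(V ⊓ Subgroup.centralizer (A₁ : Set Γ)) := by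
      obtain ⟨k, hk⟩ := Subgroup.card_dvd_of_le hlt2.le
      have hk1 : k ≠ 1 := by
        intro h
        rw [h, mul_one] at hk
        exact hlt2.ne (Subgroup.eq_of_le_of_card_ge hlt2.le hk.le)
      have hk0 : k ≠ 0 := by
        intro h
        rw [h, mul_zero] at hk
        exact Nat.card_pos.ne' hk
      rw [hk]
      calc 2 * Nat.card ↥(V ⊓ Subgroup.centralizer (A : Set Γ))
          ≤ k * Nat.card ↥(V ⊓ Subgroup.centralizer (A : Set Γ)) :=
            Nat.mul_le_mul_right _ (by omega)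
        _ = Nat.card ↥(V ⊓ Subgroup.centralizer (A : Set Γ)) * k := mul_comm _ _
    rw [← hF]
    have step : 2 * (Nat.card B' * Nat.card F) ≤
        2 * (Nat.card A₁ * Nat.card ↥(V ⊓ Subgroup.centralizer (A₁ : Set Γ))) := by
      calc 2 * (Nat.card B' * Nat.card F)
          ≤ 2 * (Nat.card B' * (2 * Nat.card ↥(V ⊓ Subgroup.centralizer (B'' : Set Γ)))) :=
            Nat.mul_le_mul_left _ (Nat.mul_le_mul_left _ h3)
        _ = 2 * ((2 * Nat.card B') * Nat.card ↥(V ⊓ Subgroup.centralizer (B'' : Set Γ))) := by ring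
        _ ≤ 2 * (Nat.card B'' * Nat.card ↥(V ⊓ Subgroup.centralizer (B'' : Set Γ))) :=
            Nat.mul_le_mul_left _ (Nat.mul_le_mul_right _ h2)
        _ ≤ 2 * (Nat.card A * Nat.card ↥(V ⊓ Subgroup.centralizer (A : Set Γ))) :=
            Nat.mul_le_mul_left _ h1
        _ ≤ 2 * ((Nat.card A₁ * 2) * Nat.card ↥(V ⊓ Subgroup.centralizer (A : Set Γ))) :=
            Nat.mul_le_mul_left _ (Nat.mul_le_mul_right _ hAcard)
        _ = 2 * (Nat.card A₁ * (2 * Nat.card ↥(V ⊓ Subgroup.centralizer (A : Set Γ)))) := by ring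
        _ ≤ 2 * (Nat.card A₁ * Nat.card ↥(V ⊓ Subgroup.centralizer (A₁ : Set Γ))) :=
            Nat.mul_le_mul_left _ (Nat.mul_le_mul_left _ h4)
    exact Nat.le_of_mul_le_mul_left step (by norm_num)
  have hih := ih (Nat.card A₁) hA₁lt A₁ rfl (hA₁A.trans hA𝒢) (hA2.to_le hA₁A)
    (fun a ha b hb => hAc a (hA₁A ha) b (hA₁A hb)) hbest₁
  intro a ha
  rcases hsplit a ha with h | h
  · exact hih a h
  · have h1 := hih (t * a) h
    have h2 : t * a * (t * a) = (t * t) * (a * a) := by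
      calc t * a * (t * a) = t * (a * t) * a := by group
        _ = t * (t * a) * a := by rw [hAc a ha t htA]
        _ = (t * t) * (a * a) := by group
    rw [h2, ht2, one_mul] at h1
    exact h1


open Cfsg.Agent.Lib.helper3 in
/-- No normal `p`-subgroup modulo the centralizer of the normal closure of `Z(T)`. -/
theorem eq_centralizer_normalClosure_center {G : Type u} [Group G] [Finite G] {p : ℕ}
    [Fact p.Prime] (T : Sylow p G) (D : Subgroup G) (hD : D.Normal)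
    (hCD : Subgroup.centralizer ((Subgroup.normalClosure
      (((T : Subgroup G) ⊓ Subgroup.centralizer ((T : Subgroup G) : Set G) : Subgroup G) : Set G) :
        Subgroup G) : Set G) ≤ D) {k : ℕ}
    (hidx : (Subgroup.centralizer ((Subgroup.normalClosure
      (((T : Subgroup G) ⊓ Subgroup.centralizer ((T : Subgroup G) : Set G) : Subgroup G) : Set G) :
        Subgroup G) : Set G)).relIndex D = p ^ k) :
    D = Subgroup.centralizer ((Subgroup.normalClosure
      (((T : Subgroup G) ⊓ Subgroup.centralizer ((T : Subgroup G) : Set G) : Subgroup G) : Set G) :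
        Subgroup G) : Set G) := by
  haveI := hD
  obtain ⟨Z, hZ⟩ : ∃ Z : Subgroup G,
      Z = (T : Subgroup G) ⊓ Subgroup.centralizer ((T : Subgroup G) : Set G) := ⟨_, rfl⟩
  rw [← hZ] at hCD hidx ⊢
  obtain ⟨V, hV⟩ : ∃ V : Subgroup G, V = Subgroup.normalClosure (Z : Set G) := ⟨_, rfl⟩
  rw [← hV] at hCD hidx ⊢
  haveI hVn : V.Normal := by rw [hV]; exact Subgroup.normalClosure_normal
  obtain ⟨CW, hCW⟩ : ∃ CW : Subgroup G, CW = Subgroup.centralizer (V : Set G) := ⟨_, rfl⟩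
  rw [← hCW] at hCD hidx ⊢
  haveI hCWn : CW.Normal := by rw [hCW]; infer_instance
  obtain T₀ : Sylow p D := default
  obtain ⟨T0, hT0⟩ : ∃ T0 : Subgroup G, T0 = (T₀ : Subgroup D).map D.subtype := ⟨_, rfl⟩
  have hTp : IsPGroup p T0 := hT0 ▸ T₀.isPGroup'.map D.subtype
  have hsup : CW.subgroupOf D ⊔ (T₀ : Subgroup D) = ⊤ :=
    sup_sylow_eq_top_of_index_pow (CW.subgroupOf D) T₀ hidx
  have hfr : Subgroup.normalizer (T0 : Set G) ⊔ D = ⊤ := hT0 ▸ Sylow.normalizer_sup_eq_top T₀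
  obtain ⟨S₁, hS₁⟩ := hTp.exists_le_sylow
  have hdecomp : ∀ d ∈ D, ∃ c ∈ CW, ∃ t ∈ T0, d = c * t := by
    intro d hd
    obtain ⟨c, hc, t, ht, hct⟩ :=
      exists_mul_of_sup_eq_top (CW.subgroupOf D) (T₀ : Subgroup D) hsup ⟨d, hd⟩
    refine ⟨c, Subgroup.mem_subgroupOf.mp hc, t, hT0 ▸ Subgroup.mem_map_of_mem D.subtype ht, ?_⟩
    have := congrArg (fun y : D => (y : G)) hct
    simpa using this
  have hVT : V ≤ Subgroup.centralizer (T0 : Set G) := by
    rw [hV, Subgroup.normalClosure, Subgroup.closure_le]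
    intro x hx
    obtain ⟨z, hz, hconj⟩ := Group.mem_conjugatesOfSet_iff.mp hx
    obtain ⟨g, hg⟩ := isConj_iff.mp hconj
    obtain ⟨h, hh⟩ := MulAction.exists_smul_eq G T S₁
    have hzZ : z ∈ (T : Subgroup G) ⊓ Subgroup.centralizer ((T : Subgroup G) : Set G) := hZ ▸ hz
    have hz' := conj_mem_center_smul T h hzZ
    rw [hh] at hz'
    have hz'c := (Subgroup.mem_inf.mp hz').2
    have hz'V : h * z * h⁻¹ ∈ V := by
      rw [hV]
      exact Subgroup.normalClosure_normal.conj_mem z (Subgroup.subset_normalClosure hz) h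
    obtain ⟨d, hd, n, hn, hgdn⟩ := exists_mul_of_sup_eq_top D (Subgroup.normalizer (T0 : Set G))
      (by rw [sup_comm]; exact hfr) (g * h⁻¹)
    obtain ⟨c, hc, t, ht, hdct⟩ := hdecomp d hd
    have hn' : t * n ∈ Subgroup.normalizer (T0 : Set G) :=
      Subgroup.mul_mem _ (Subgroup.le_normalizer ht) hn
    obtain ⟨y, hy⟩ : ∃ y : G, y = (t * n) * (h * z * h⁻¹) * (t * n)⁻¹ := ⟨_, rfl⟩
    have hyV : y ∈ V := hy ▸ hVn.conj_mem _ hz'V _
    have hxy : x = y := by
      have hgh : g = c * (t * n) * h := by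
        have : g = (g * h⁻¹) * h := by group
        rw [this, hgdn, hdct]; group
      have hcy : y * c = c * y := by
        rw [hCW] at hc
        exact Subgroup.mem_centralizer_iff.mp hc y hyV
      rw [← hg, hgh]
      calc c * (t * n) * h * z * (c * (t * n) * h)⁻¹
          = c * ((t * n) * (h * z * h⁻¹) * (t * n)⁻¹) * c⁻¹ := by group
        _ = c * y * c⁻¹ := by rw [hy]
        _ = y := by rw [← hcy]; group
    rw [hxy, SetLike.mem_coe]
    refine Subgroup.mem_centralizer_iff.mpr fun s hs => ?_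
    have hs' : (t * n)⁻¹ * s * (t * n) ∈ T0 := by
      have := (Subgroup.mem_normalizer_iff.mp hn') ((t * n)⁻¹ * s * (t * n))
      apply this.mpr
      have e : t * n * ((t * n)⁻¹ * s * (t * n)) * (t * n)⁻¹ = s := by group
      rw [e]; exact hs
    have hcomm := Subgroup.mem_centralizer_iff.mp hz'c _ (hS₁ hs')
    rw [hy]
    calc s * ((t * n) * (h * z * h⁻¹) * (t * n)⁻¹)
        = (t * n) * (((t * n)⁻¹ * s * (t * n)) * (h * z * h⁻¹)) * (t * n)⁻¹ := by group
      _ = (t * n) * ((h * z * h⁻¹) * ((t * n)⁻¹ * s * (t * n))) * (t * n)⁻¹ := by rw [hcomm]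
      _ = (t * n) * (h * z * h⁻¹) * (t * n)⁻¹ * s := by group
  have hT0C : T0 ≤ CW := by
    rw [hCW]
    exact Subgroup.le_centralizer_iff.mp hVT
  apply le_antisymm _ hCD
  intro d hd
  obtain ⟨c, hc, t, ht, rfl⟩ := hdecomp d hd
  exact CW.mul_mem hc (hT0C ht)

/-- `J(S) = J(T)` whenever `J(T) ≤ S ≤ T` (abelian version). -/
theorem thompsonA_eq_of_le {G : Type u} [Group G] [Finite G] (S T : Subgroup G) (hST : S ≤ T)
    (hJ : Cfsg.thompsonSubgroupAOf T ≤ S) :
    Cfsg.thompsonSubgroupAOf S = Cfsg.thompsonSubgroupAOf T := by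
  rw [thompsonSubgroupAOf_eq, thompsonSubgroupAOf_eq]
  congr 1
  ext A
  constructor
  · rintro ⟨hAS, hAc, hAm⟩
    refine ⟨hAS.trans hST, hAc, fun B hBT hBc => ?_⟩
    obtain ⟨A₀, hA₀⟩ := maxAb_nonempty T
    have hA₀S : A₀ ≤ S := by
      refine le_trans ?_ hJ
      rw [thompsonSubgroupAOf_eq]
      exact le_sSup hA₀
    exact (hA₀.2.2 B hBT hBc).trans (hAm A₀ hA₀S hA₀.2.1)
  · intro hA
    have hAS : A ≤ S := by
      refine le_trans ?_ hJ
      rw [thompsonSubgroupAOf_eq]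
      exact le_sSup hA
    exact ⟨hAS, hA.2.1, fun B hBS hBc => hA.2.2 B (hBS.trans hST) hBc⟩

/-- Normal subgroups of the image of `G` in the holomorph of `V` have `C(O_{p'}) ≤ O_{p'}`. -/
theorem hol_normal_S1 {G : Type u} [Group G] [Finite G] {p : ℕ} [Fact p.Prime]
    (hsep : Cfsg.IsPSolvable p G) (V : Subgroup G) [V.Normal]
    (hD : ∀ D : Subgroup G, D.Normal → Subgroup.centralizer (V : Set G) ≤ D →
      (∃ k : ℕ, (Subgroup.centralizer (V : Set G)).relIndex D = p ^ k) →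
      D = Subgroup.centralizer (V : Set G))
    (ℋ : Subgroup (Hol V)) (hℋ1 : ℋ ≤ (holHom V).range)
    (hℋ2 : (holHom V).range ≤ Subgroup.normalizer (ℋ : Set (Hol V))) :
    Subgroup.centralizer (Cfsg.pPrimeCore p ↥ℋ : Set ↥ℋ) ≤ Cfsg.pPrimeCore p ↥ℋ := by
  classical
  have hCn0 : (Subgroup.centralizer (V : Set G)).Normal := inferInstance
  obtain ⟨C, hCdef⟩ : ∃ C : Subgroup G, C = Subgroup.centralizer (V : Set G) := ⟨_, rfl⟩
  rw [← hCdef] at hD
  have hCn : C.Normal := hCdef ▸ hCn0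
  obtain ⟨ψ, hψ⟩ : ∃ ψ : G →* Hol V, ψ = holHom V := ⟨_, rfl⟩
  rw [← hψ] at hℋ1 hℋ2
  have hker : ψ.ker = C := by rw [hψ, hCdef]; exact holHom_ker V
  obtain ⟨J, hJdef⟩ : ∃ J : Subgroup G, J = ℋ.comap ψ := ⟨_, rfl⟩
  have hℋ : ℋ = J.map ψ := by
    rw [hJdef, Subgroup.map_comap_eq, inf_eq_right.mpr hℋ1]
  have hsolJ : Cfsg.IsPSolvable p ↥J := Cfsg.Agent.Lib.helper3.isPSolvable_subgroup J hsep
  have hsolH : Cfsg.IsPSolvable p ↥ℋ := by
    let φ : ↥J →* ↥ℋ := (ψ.comp J.subtype).codRestrict ℋ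
      (fun x => hℋ ▸ Subgroup.mem_map_of_mem _ x.2)
    refine Cfsg.Agent.Lib.helper16.isPSolvable_of_surjective φ ?_ hsolJ
    rintro ⟨y, hy⟩
    obtain ⟨x, hx, rfl⟩ := (hℋ ▸ hy : y ∈ J.map ψ)
    exact ⟨⟨x, hx⟩, Subtype.ext rfl⟩
  have hcore : Cfsg.pCore p ↥ℋ = ⊥ := by
    obtain ⟨P, hP⟩ : ∃ P : Subgroup (Hol V), P = (Cfsg.pCore p ↥ℋ).map ℋ.subtype := ⟨_, rfl⟩
    have hPH : P ≤ ℋ := by rw [hP]; exact Subgroup.map_subtype_le _
    have hgn : ∀ g : G, ψ g ∈ Subgroup.normalizer (ℋ : Set (Hol V)) := fun g => hℋ2 ⟨g, rfl⟩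
    have hch := Cfsg.Agent.Lib.helper16.pCore_characteristic p ↥ℋ
    have hPn : ∀ g : G, ∀ x ∈ P, ψ g * x * (ψ g)⁻¹ ∈ P := by
      intro g x hx
      rw [hP] at hx ⊢
      obtain ⟨x', hx', rfl⟩ := Subgroup.mem_map.mp hx
      have h1 := hch.fixed (Subgroup.normalizerMonoidHom ℋ ⟨ψ g, hgn g⟩)
      have h2 : x' ∈ (Cfsg.pCore p ↥ℋ).comap
          (Subgroup.normalizerMonoidHom ℋ ⟨ψ g, hgn g⟩).toMonoidHom := by rw [h1]; exact hx'
      exact Subgroup.mem_map.mpr ⟨_, h2, rfl⟩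
    obtain ⟨D, hDdef⟩ : ∃ D : Subgroup G, D = P.comap ψ := ⟨_, rfl⟩
    have hDn : D.Normal := by
      constructor
      intro x hx g
      rw [hDdef] at hx ⊢
      show ψ (g * x * g⁻¹) ∈ P
      rw [map_mul, map_mul, map_inv]
      exact hPn g (ψ x) hx
    have hCD : C ≤ D := by
      rw [← hker, hDdef]
      intro x hx
      show ψ x ∈ P
      rw [MonoidHom.mem_ker.mp hx]; exact one_mem _
    have hDmap : D.map ψ = P := by
      rw [hDdef, Subgroup.map_comap_eq, inf_eq_right]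
      exact hPH.trans hℋ1
    have hidx : ∃ k : ℕ, C.relIndex D = p ^ k := by
      rw [← hker, Subgroup.relIndex_ker, hDmap, hP,
        Subgroup.card_map_of_injective (Subgroup.subtype_injective ℋ)]
      exact (Cfsg.Agent.Lib.helper3.pCore_isPGroup3 p ↥ℋ).exists_card_eq
    have hDC := hD D hDn hCD hidx
    have hPbot : P = ⊥ := by
      rw [← hDmap, hDC, ← hker]
      rw [eq_bot_iff]
      rintro _ ⟨x, hx, rfl⟩
      exact Subgroup.mem_bot.mpr (MonoidHom.mem_ker.mp hx)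
    rw [hP] at hPbot
    exact (Subgroup.map_eq_bot_iff_of_injective _ (Subgroup.subtype_injective ℋ)).mp hPbot
  exact Cfsg.Agent.Lib.helper3.centralizer_pPrimeCore_le_of_pSolvable hsolH hcore


/-- An internal direct product of copies of `SL₂(2)` is a power of `S₃`. -/
theorem exists_iso_pi_perm3 {Γ : Type*} [Group Γ] [Finite Γ] {ι : Type*} [Finite ι]
    (E : ι → Subgroup Γ) (ℋ : Subgroup Γ)
    (hn : ∀ i, ℋ ≤ Subgroup.normalizer (E i : Set Γ))
    (hiso : ∀ i, Nonempty (↥(E i) ≃* Matrix.SpecialLinearGroup (Fin 2) (ZMod 2)))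
    (hind : iSupIndep E) (hsup : ⨆ i, E i = ℋ) (hne : ℋ ≠ ⊥) :
    ∃ n : ℕ, 1 ≤ n ∧ Nonempty (↥ℋ ≃* (Fin n → Equiv.Perm (Fin 3))) := by
  classical
  haveI : Fintype ι := Fintype.ofFinite ι
  have hEℋ : ∀ i, E i ≤ ℋ := fun i => hsup ▸ le_iSup E i
  have hcomm : Pairwise fun i j : ι => ∀ x y : Γ, x ∈ E i → y ∈ E j → Commute x y := by
    intro i j hij x y hx hy
    have hdis : Disjoint (E i) (E j) := hind.pairwiseDisjoint hij
    have h1 : ⁅x, y⁆ ∈ E i := by
      have : ⁅x, y⁆ = x * (y * x⁻¹ * y⁻¹) := by rw [commutatorElement_def]; group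
      rw [this]
      exact (E i).mul_mem hx
        ((Subgroup.mem_normalizer_iff.mp (hn i (hEℋ j hy)) _).mp ((E i).inv_mem hx))
    have h2 : ⁅x, y⁆ ∈ E j := by
      rw [commutatorElement_def]
      exact (E j).mul_mem ((Subgroup.mem_normalizer_iff.mp (hn j (hEℋ i hx)) _).mp hy)
        ((E j).inv_mem hy)
    have h3 : ⁅x, y⁆ ∈ E i ⊓ E j := Subgroup.mem_inf.mpr ⟨h1, h2⟩
    rw [hdis.eq_bot, Subgroup.mem_bot] at h3
    exact commutatorElement_eq_one_iff_commute.mp h3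
  have hinj := Subgroup.injective_noncommPiCoprod_of_iSupIndep (hcomm := hcomm) hind
  have hrange : (Subgroup.noncommPiCoprod hcomm).range = ℋ := by
    rw [Subgroup.noncommPiCoprod_range, hsup]
  have e1 : (∀ i : ι, ↥(E i)) ≃* ↥ℋ :=
    (MonoidHom.ofInjective hinj).trans (MulEquiv.subgroupCongr hrange)
  obtain ⟨e0⟩ := Cfsg.Agent.Lib.helper2.PSL2Small.SL2_two_iso (F := ZMod 2) (by rw [ZMod.card])
  have e3 : (∀ i : ι, ↥(E i)) ≃* (ι → Equiv.Perm (Fin 3)) :=
    MulEquiv.piCongrRight (fun i => (Classical.choice (hiso i)).trans e0)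
  have e4 : (ι → Equiv.Perm (Fin 3)) ≃* (Fin (Nat.card ι) → Equiv.Perm (Fin 3)) :=
    MulEquiv.arrowCongr (Finite.equivFin ι) (MulEquiv.refl _)
  refine ⟨Nat.card ι, ?_, ⟨e1.symm.trans (e3.trans e4)⟩⟩
  have : Nonempty ι := by
    by_contra h
    rw [not_nonempty_iff] at h
    apply hne
    rw [← hsup, iSup_of_empty]
  exact Nat.card_pos

open Cfsg.Agent.Lib.helper3 in
set_option maxHeartbeats 1600000 in
/-- Glauberman: in a solvable group `X` with `F(X) = O₂(X)`, `X = C Y N_X(J(T))` and `Y ≤ C` or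
`Y / (Y ∩ C)` is a direct product of copies of `S₃`. -/
theorem s3_product_aux {X : Type u} [Group X] [Finite X] [Group.IsSolvable X]
    (hF : Cfsg.fittingSubgroup X = Cfsg.pCore 2 X) (T : Sylow 2 X)
    (Z J C Y : Subgroup X) [hCn : C.Normal]
    (hZ : Z = (T : Subgroup X) ⊓ Subgroup.centralizer ((T : Subgroup X) : Set X))
    (hJ : J = Cfsg.thompsonSubgroupAOf (T : Subgroup X))
    (hC : C = (Subgroup.centralizer (Z : Set X)).normalCore)
    (hY : Y = Subgroup.normalClosure (J : Set X)) :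
    (C ⊔ Y ⊔ Subgroup.normalizer (J : Set X) = ⊤) ∧
    (Y ≤ C ∨ ∃ n : ℕ, 1 ≤ n ∧
      Nonempty (↥Y ⧸ C.subgroupOf Y ≃* (Fin n → Equiv.Perm (Fin 3)))) := by
  classical
  haveI : Fact (Nat.Prime 2) := ⟨Nat.prime_two⟩
  haveI hYn : Y.Normal := by rw [hY]; exact Subgroup.normalClosure_normal
  have hJY : J ≤ Y := by rw [hY]; exact Subgroup.le_normalClosure
  have hJT : J ≤ T := hJ ▸ thompsonA_le _
  -- first conjunct
  have hfirst : C ⊔ Y ⊔ Subgroup.normalizer (J : Set X) = ⊤ := by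
    obtain ⟨L, hL⟩ : ∃ L : Subgroup X, L = C ⊔ Y := ⟨_, rfl⟩
    rw [← hL]
    haveI hLn : L.Normal := by rw [hL]; infer_instance
    obtain ⟨P, hP⟩ := exists_sylow_map_eq_inf T L
    have hfr := Sylow.normalizer_sup_eq_top P
    rw [hP] at hfr
    have hJS : Cfsg.thompsonSubgroupAOf ((T : Subgroup X) ⊓ L) = J := by
      rw [hJ]
      apply thompsonA_eq_of_le _ _ inf_le_left
      rw [← hJ]
      exact le_inf hJT (hJY.trans (hL ▸ le_sup_right))
    have hN := normalizer_le_normalizer_thompsonA ((T : Subgroup X) ⊓ L)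
    rw [hJS] at hN
    rw [eq_top_iff, ← hfr, sup_comm]
    exact sup_le_sup_left hN L
  refine ⟨hfirst, ?_⟩
  -- O₂
  obtain ⟨Q, hQ⟩ : ∃ Q : Subgroup X, Q = Cfsg.pCore 2 X := ⟨_, rfl⟩
  haveI hQn : Q.Normal := hQ ▸ pCore_normal3 2 X
  have hQT : Q ≤ T := hQ ▸ pCore_le_sylow3 T
  have hCQ : Subgroup.centralizer (Q : Set X) ≤ Q := by
    have := Cfsg.Agent.Lib.helper1.centralizer_fitting_le X
    rw [hF, ← hQ] at this; exact this
  have hZQ : Z ≤ Q ⊓ Subgroup.centralizer (Q : Set X) := by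
    intro z hz
    rw [hZ] at hz
    have hzc : z ∈ Subgroup.centralizer (Q : Set X) :=
      Subgroup.centralizer_le (SetLike.coe_subset_coe.mpr hQT) (Subgroup.mem_inf.mp hz).2
    exact Subgroup.mem_inf.mpr ⟨hCQ hzc, hzc⟩
  obtain ⟨V, hV⟩ : ∃ V : Subgroup X, V = Subgroup.normalClosure (Z : Set X) := ⟨_, rfl⟩
  haveI hVn : V.Normal := by rw [hV]; exact Subgroup.normalClosure_normal
  haveI hZQn : (Q ⊓ Subgroup.centralizer (Q : Set X)).Normal := inferInstance
  have hVZQ : V ≤ Q ⊓ Subgroup.centralizer (Q : Set X) := by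
    rw [hV]; exact Subgroup.normalClosure_le_normal hZQ
  have hZV : Z ≤ V := by rw [hV]; exact Subgroup.le_normalClosure
  have hVc : ∀ x ∈ V, ∀ y ∈ V, x * y = y * x := by
    intro x hx y hy
    exact (Subgroup.mem_centralizer_iff.mp (Subgroup.mem_inf.mp (hVZQ hx)).2 y
      (Subgroup.mem_inf.mp (hVZQ hy)).1).symm
  have hVT : V ≤ T := (hVZQ.trans inf_le_left).trans hQT
  have hV2 : IsPGroup 2 V := T.isPGroup'.to_le hVT
  -- U = Ω₁(V)
  obtain ⟨U, hU⟩ : ∃ U : Subgroup X, ∀ x, x ∈ U ↔ x ∈ V ∧ x ^ 2 = 1 :=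
    ⟨{ carrier := {x | x ∈ V ∧ x ^ 2 = 1}
       one_mem' := ⟨V.one_mem, one_pow 2⟩
       mul_mem' := by
         rintro a b ⟨ha, ha2⟩ ⟨hb, hb2⟩
         refine ⟨V.mul_mem ha hb, ?_⟩
         have : Commute a b := hVc a ha b hb
         rw [this.mul_pow, ha2, hb2, one_mul]
       inv_mem' := by
         rintro a ⟨ha, ha2⟩
         exact ⟨V.inv_mem ha, by rw [inv_pow, ha2, inv_one]⟩ }, fun x => Iff.rfl⟩
  have hUV : U ≤ V := fun x hx => ((hU x).mp hx).1
  haveI hUn : U.Normal := by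
    constructor
    intro u hu g
    rw [hU] at hu ⊢
    refine ⟨hVn.conj_mem u hu.1 g, ?_⟩
    rw [conj_pow, hu.2]; group
  have hUEA : Cfsg.IsElementaryAbelian 2 U :=
    (isEA_iff 2 U).mpr ⟨fun x hx y hy => hVc x (hUV hx) y (hUV hy), fun x hx => ((hU x).mp hx).2⟩
  -- C = C_X(V)
  obtain ⟨CV, hCV⟩ : ∃ CV : Subgroup X, CV = Subgroup.centralizer (V : Set X) := ⟨_, rfl⟩
  haveI hCVn : CV.Normal := by rw [hCV]; infer_instance
  have hCeq : C = CV := by
    apply le_antisymm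
    · have h1 : V ≤ Subgroup.centralizer (C : Set X) := by
        rw [hV]
        apply Subgroup.normalClosure_le_normal
        intro z hz
        refine Subgroup.mem_centralizer_iff.mpr fun c hc => ?_
        have hc' : c ∈ Subgroup.centralizer (Z : Set X) :=
          Subgroup.normalCore_le _ (hC ▸ hc)
        exact (Subgroup.mem_centralizer_iff.mp hc' z hz).symm
      rw [hCV]; exact Subgroup.le_centralizer_iff.mp h1
    · rw [hC, Subgroup.normal_le_normalCore]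
      rw [hCV]; exact Subgroup.centralizer_le (SetLike.coe_subset_coe.mpr hZV)
  -- C_X(U) = C_X(V)
  obtain ⟨CU, hCU⟩ : ∃ CU : Subgroup X, CU = Subgroup.centralizer (U : Set X) := ⟨_, rfl⟩
  haveI hCUn : CU.Normal := by rw [hCU]; infer_instance
  have hCVU : CV ≤ CU := by
    rw [hCV, hCU]; exact Subgroup.centralizer_le (SetLike.coe_subset_coe.mpr hUV)
  have hstar : ∀ D : Subgroup X, D.Normal → CV ≤ D →
      (∃ k : ℕ, CV.relIndex D = 2 ^ k) → D = CV := by
    intro D hDn hle ⟨k, hk⟩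
    rw [hCV, hV, hZ] at hle hk ⊢
    exact eq_centralizer_normalClosure_center T D hDn hle hk
  have hCUV : CU = CV := by
    apply hstar CU hCUn hCVU
    have e := card_mul_relIndex_of_le hCVU
    have hm0 : CV.relIndex CU ≠ 0 := by
      intro h
      rw [h, mul_zero] at e
      exact Nat.card_pos.ne' e.symm
    refine ⟨_, Nat.eq_prime_pow_of_unique_prime_dvd hm0 ?_⟩
    intro r hr hrdvd
    by_contra hr2
    haveI := Fact.mk hr
    obtain P : Sylow r ↥CU := default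
    obtain ⟨P', hP'⟩ : ∃ P' : Subgroup X, P' = (P : Subgroup CU).map CU.subtype := ⟨_, rfl⟩
    have hP'CU : P' ≤ CU := hP' ▸ Subgroup.map_subtype_le _
    have hP'card : Nat.card P' = r ^ (Nat.card CU).factorization r :=
      hP' ▸ Cfsg.Agent.Lib.helper8.card_sylow_map CU P
    haveI : IsMulCommutative V := ⟨⟨fun a b => Subtype.ext (hVc a a.2 b b.2)⟩⟩
    have hP'V : P' ≤ Subgroup.normalizer (V : Set X) := by
      rw [Subgroup.normalizer_eq_top]; exact le_top
    obtain ⟨i, hi⟩ := IsPGroup.iff_card.mp hV2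
    have hcop : (Nat.card P').Coprime (Nat.card V) := by
      rw [hP'card, hi]
      exact Nat.Coprime.pow _ _ ((Nat.coprime_primes hr Nat.prime_two).mpr hr2)
    have hP'CV : P' ≤ CV := by
      rw [hCV]
      apply Cfsg.Agent.Lib.helper8.abelian_coprime_trivial_of_prime_order P' V hP'V hcop
      intro v hv hvp a ha
      have hv2 : orderOf v = 2 := by
        have hd : orderOf v ∣ 2 ^ i := hi ▸ Subgroup.orderOf_dvd_natCard V hv
        exact (Nat.prime_dvd_prime_iff_eq hvp Nat.prime_two).mp (hvp.dvd_of_dvd_pow hd)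
      have hvU : v ∈ U := (hU v).mpr ⟨hv, by rw [← hv2]; exact pow_orderOf_eq_one v⟩
      have haCU := hP'CU ha
      rw [hCU] at haCU
      exact (Subgroup.mem_centralizer_iff.mp haCU v hvU).symm
    have hdvd1 : r ^ (Nat.card CU).factorization r ∣ Nat.card CV :=
      hP'card ▸ Subgroup.card_dvd_of_le hP'CV
    have hle1 := (hr.pow_dvd_iff_le_factorization Nat.card_pos.ne').mp hdvd1
    rw [← e, Nat.factorization_mul Nat.card_pos.ne' hm0] at hle1
    simp only [Finsupp.coe_add, Pi.add_apply] at hle1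
    have hpos := hr.factorization_pos_of_dvd hm0 hrdvd
    omega
  have hkerC : Subgroup.centralizer (U : Set X) = C := by rw [← hCU, hCUV, hCeq]
  have hD : ∀ D : Subgroup X, D.Normal → Subgroup.centralizer (U : Set X) ≤ D →
      (∃ k : ℕ, (Subgroup.centralizer (U : Set X)).relIndex D = 2 ^ k) →
      D = Subgroup.centralizer (U : Set X) := by
    rw [← hCU, hCUV]; exact hstar
  -- holomorph
  obtain ⟨φ, hφ⟩ : ∃ φ : X →* Hol U, φ = holHom U := ⟨_, rfl⟩
  have hker : φ.ker = C := by rw [hφ, holHom_ker, hkerC]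
  have h𝒱 := holV_elemAb U hUEA
  have h𝒱n := holV_normal U
  have hN𝒱 : ∀ H : Subgroup (Hol U), H ≤ Subgroup.normalizer (holV U : Set (Hol U)) := by
    intro H; rw [Subgroup.normalizer_eq_top]; exact le_top
  obtain ⟨𝒢, h𝒢⟩ : ∃ 𝒢 : Subgroup (Hol U), 𝒢 = φ.range := ⟨_, rfl⟩
  have hf𝒢 : 𝒢 ⊓ Subgroup.centralizer (holV U : Set (Hol U)) = ⊥ := by
    rw [h𝒢, hφ, MonoidHom.range_eq_map]; exact hol_faithful U ⊤
  have hsep : Cfsg.IsPSolvable 2 X := isPSolvable_of_solvable 2 inferInstance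
  have hS1 : ∀ H : Subgroup (Hol U), H ≤ 𝒢 → 𝒢 ≤ Subgroup.normalizer (H : Set (Hol U)) →
      Subgroup.centralizer (Cfsg.pPrimeCore 2 ↥H : Set ↥H) ≤ Cfsg.pPrimeCore 2 ↥H := by
    intro H h1 h2
    rw [h𝒢, hφ] at h1 h2
    exact hol_normal_S1 hsep U hD H h1 h2
  -- images of abelian subgroups of maximal order are best offenders
  have hUT : U ≤ T := hUV.trans hVT
  have hbo : ∀ A ∈ MaxAb (T : Subgroup X), Cfsg.IsBestOffenderOn 2 (holV U) (A.map φ) := by
    intro A hA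
    have hineq := hol_ineq U A (maxAb_ineq (T : Subgroup X) U A hUT
      (fun x hx y hy => hVc x (hUV hx) y (hUV hy)) hA)
    rw [← hφ] at hineq
    have hA𝒢 : A.map φ ≤ 𝒢 := h𝒢 ▸ Subgroup.map_le_range φ A
    have hA2 : IsPGroup 2 ↥(A.map φ) := (T.isPGroup'.to_le hA.1).map φ
    have hAc : ∀ a ∈ A.map φ, ∀ b ∈ A.map φ, a * b = b * a := by
      rintro _ ⟨a, ha, rfl⟩ _ ⟨b, hb, rfl⟩
      rw [← map_mul, ← map_mul, hA.2.1 a ha b hb]
    have hsq := ineq_offender_sq (holV U) 𝒢 h𝒱 (hN𝒱 𝒢) hf𝒢 hS1 _ (A.map φ) rfl hA𝒢 hA2 hAc hineq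
    refine ⟨hineq, ?_, ?_⟩
    · have : ⁅A.map φ, A.map φ⁆ = ⊥ := by
        rw [Subgroup.commutator_eq_bot_iff_le_centralizer]
        intro a ha
        exact Subgroup.mem_centralizer_iff.mpr fun b hb => hAc b hb a ha
      rw [this]; exact bot_le
    · intro a ha
      rw [pow_two, hsq a ha]; exact Subgroup.one_mem _
  -- ℋ
  obtain ⟨ℋ, hℋ⟩ : ∃ ℋ : Subgroup (Hol U), ℋ = Y.map φ := ⟨_, rfl⟩
  have hℋ𝒢 : ℋ ≤ 𝒢 := by rw [hℋ, h𝒢]; exact Subgroup.map_le_range φ Y
  have h𝒢ℋ : 𝒢 ≤ Subgroup.normalizer (ℋ : Set (Hol U)) := by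
    rw [h𝒢, hℋ]
    rintro _ ⟨g, rfl⟩
    apply Subgroup.le_normalizer_map φ
    refine Subgroup.mem_map_of_mem _ ?_
    rw [Subgroup.normalizer_eq_top]; exact Subgroup.mem_top g
  have hfℋ : ℋ ⊓ Subgroup.centralizer (holV U : Set (Hol U)) = ⊥ := by
    rw [eq_bot_iff, ← hf𝒢]; exact inf_le_inf_right _ hℋ𝒢
  have hS1ℋ := hS1 ℋ hℋ𝒢 h𝒢ℋ
  -- Y is generated by the conjugates of the members of MaxAb T
  obtain ⟨K, hK⟩ : ∃ K : Subgroup X, K = ⨆ g : X, ⨆ A : MaxAb (T : Subgroup X),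
      (A : Subgroup X).map (MulAut.conj g).toMonoidHom := ⟨_, rfl⟩
  have hKn : K.Normal := by
    constructor
    intro n hn h
    have hmap : K.map (MulAut.conj h).toMonoidHom ≤ K := by
      rw [hK, Subgroup.map_iSup]
      refine iSup_le fun g => ?_
      rw [Subgroup.map_iSup]
      refine iSup_le fun A => ?_
      rw [Subgroup.map_map]
      have : (MulAut.conj h).toMonoidHom.comp (MulAut.conj g).toMonoidHom =
          (MulAut.conj (h * g)).toMonoidHom := by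
        ext x; simp [mul_assoc]
      rw [this]
      exact le_iSup_of_le (h * g) (le_iSup_of_le A le_rfl)
    exact hmap ⟨n, hn, rfl⟩
  have hYK : Y ≤ K := by
    rw [hY]
    haveI := hKn
    apply Subgroup.normalClosure_le_normal
    have : J ≤ K := by
      rw [hJ, thompsonSubgroupAOf_eq]
      refine sSup_le fun A hA => ?_
      rw [hK]
      refine le_iSup_of_le 1 (le_iSup_of_le ⟨A, hA⟩ ?_)
      intro x hx
      exact ⟨x, hx, by simp⟩
    exact this
  have hS3 : ℋ = ⨆ A : {A : Subgroup (Hol U) // A ≤ ℋ ∧ Cfsg.IsBestOffenderOn 2 (holV U) A},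
      (A : Subgroup (Hol U)) := by
    apply le_antisymm
    · rw [hℋ]
      refine (Subgroup.map_mono hYK).trans ?_
      rw [hK, Subgroup.map_iSup]
      refine iSup_le fun g => ?_
      rw [Subgroup.map_iSup]
      refine iSup_le fun A => ?_
      have hAY : (A : Subgroup X).map (MulAut.conj g).toMonoidHom ≤ Y := by
        rintro _ ⟨x, hx, rfl⟩
        have hxJ : x ∈ J := by
          rw [hJ, thompsonSubgroupAOf_eq]; exact le_sSup A.2 hx
        exact hYn.conj_mem x (hJY hxJ) g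
      have heq : ((A : Subgroup X).map (MulAut.conj g).toMonoidHom).map φ =
          ((A : Subgroup X).map φ).map (MulAut.conj (φ g)).toMonoidHom := by
        rw [Subgroup.map_map, Subgroup.map_map]
        have : φ.comp (MulAut.conj g).toMonoidHom = (MulAut.conj (φ g)).toMonoidHom.comp φ := by
          apply MonoidHom.ext
          intro x
          show φ (g * x * g⁻¹) = φ g * φ x * (φ g)⁻¹
          rw [map_mul, map_mul, map_inv]
        rw [this]
      refine le_iSup_of_le ⟨((A : Subgroup X).map (MulAut.conj g).toMonoidHom).map φ, ?_, ?_⟩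
        le_rfl
      · exact Subgroup.map_mono hAY
      · rw [heq]
        exact bestOffender_map_conj (holV U) _ (hN𝒱 ⊤ (Subgroup.mem_top _)) (hbo A A.2)
    · exact iSup_le fun A => A.2.1
  by_cases hℋ1 : ℋ = ⊥
  · left
    rw [← hker]
    intro y hy
    rw [MonoidHom.mem_ker]
    have : φ y ∈ ℋ := hℋ ▸ Subgroup.mem_map_of_mem φ hy
    rw [hℋ1] at this
    exact Subgroup.mem_bot.mp this
  right
  obtain ⟨-, hE, hind, hsup, -, -⟩ :=
    Cfsg.Agent.S0617.result (holV U) ℋ h𝒱 (hN𝒱 ℋ) hfℋ hS1ℋ hS3 hℋ1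
  obtain ⟨n, hn, ⟨e⟩⟩ := exists_iso_pi_perm3 _ ℋ (fun E => (hE E).1) (fun E => (hE E).2.1)
    hind hsup hℋ1
  refine ⟨n, hn, ?_⟩
  let φY : ↥Y →* ↥ℋ := (φ.comp Y.subtype).codRestrict ℋ
    (fun y => hℋ ▸ Subgroup.mem_map_of_mem φ y.2)
  have hφs : Function.Surjective φY := by
    rintro ⟨z, hz⟩
    obtain ⟨y, hy, rfl⟩ := (hℋ ▸ hz : z ∈ Y.map φ)
    exact ⟨⟨y, hy⟩, Subtype.ext rfl⟩
  have hφk : φY.ker = C.subgroupOf Y := by
    ext ⟨y, hy⟩
    rw [MonoidHom.mem_ker, Subgroup.mem_subgroupOf, ← hker, MonoidHom.mem_ker]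
    constructor
    · intro h; exact congrArg Subtype.val h
    · intro h; exact Subtype.ext h
  exact ⟨(QuotientGroup.quotientMulEquivOfEq hφk.symm).trans
    ((QuotientGroup.quotientKerEquivOfSurjective φY hφs).trans e)⟩

end Cfsg.Agent.Lib.helper14
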