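import Cfsg.Agent.Lib.helper14.FunctorNPC2
import Cfsg.Agent.S0071

/-!
# `p`-stability (normalizer form) of groups with a normal series `p`-group / abelian `p'` /
`p`-group, and of all their sections (library, seat helper14)
-/

set_option autoImplicit false
set_option linter.style.haveILetI false
set_option linter.unusedVariables false
set_option linter.unusedSectionVars false

namespace Cfsg.Agent.Lib.helper14

open Cfsg

universe u

/-- `X` has a normal series `1 ≤ X₁ ≤ X₂ ≤ X` with `X₁` a `p`-group, `X₂/X₁` abelian of exponent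
prime to `p` and `X/X₂` a `p`-group of bounded exponent. -/
def Tame (p : ℕ) (X : Type*) [Group X] : Prop :=
  ∃ X₁ X₂ : Subgroup X, X₁.Normal ∧ X₂.Normal ∧ IsPGroup p X₁ ∧ X₁ ≤ X₂ ∧
    (∀ x ∈ X₂, ∀ y ∈ X₂, x * y * x⁻¹ * y⁻¹ ∈ X₁) ∧
    (∃ m : ℕ, m.Coprime p ∧ ∀ x ∈ X₂, x ^ m ∈ X₁) ∧ (∃ k : ℕ, ∀ x : X, x ^ p ^ k ∈ X₂)

theorem tame_of_injective {p : ℕ} {X : Type*} {Y : Type*} [Group X] [Group Y] (f : Y →* X)
    (hf : Function.Injective f) (h : Tame p X) : Tame p Y := by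
  obtain ⟨X₁, X₂, h1, h2, h3, hle, h4, ⟨m, hm, h5⟩, ⟨k, h6⟩⟩ := h
  refine ⟨X₁.comap f, X₂.comap f, h1.comap f, h2.comap f, h3.comap_of_injective f hf,
    Subgroup.comap_mono hle, ?_, ⟨m, hm, ?_⟩, ⟨k, ?_⟩⟩
  · intro x hx y hy
    rw [Subgroup.mem_comap, map_mul, map_mul, map_mul, map_inv, map_inv]
    exact h4 _ hx _ hy
  · intro x hx
    rw [Subgroup.mem_comap, map_pow]
    exact h5 _ hx
  · intro x
    rw [Subgroup.mem_comap, map_pow]
    exact h6 _

theorem tame_of_surjective {p : ℕ} {X : Type*} {Y : Type*} [Group X] [Group Y] (f : X →* Y)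
    (hf : Function.Surjective f) (h : Tame p X) : Tame p Y := by
  obtain ⟨X₁, X₂, h1, h2, h3, hle, h4, ⟨m, hm, h5⟩, ⟨k, h6⟩⟩ := h
  refine ⟨X₁.map f, X₂.map f, h1.map f hf, h2.map f hf, h3.map f, Subgroup.map_mono hle, ?_,
    ⟨m, hm, ?_⟩, ⟨k, ?_⟩⟩
  · rintro _ ⟨x, hx, rfl⟩ _ ⟨y, hy, rfl⟩
    exact ⟨x * y * x⁻¹ * y⁻¹, h4 x hx y hy, by rw [map_mul, map_mul, map_mul, map_inv, map_inv]⟩
  · rintro _ ⟨x, hx, rfl⟩
    exact ⟨x ^ m, h5 x hx, by rw [map_pow]⟩
  · intro y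
    obtain ⟨x, rfl⟩ := hf y
    exact ⟨x ^ p ^ k, h6 x, by rw [map_pow]⟩

theorem tame_section {p : ℕ} {X : Type*} [Group X] (h : Tame p X) (K R : Subgroup X)
    [hR : (R.subgroupOf K).Normal] : Tame p (↥K ⧸ R.subgroupOf K) :=
  tame_of_surjective (QuotientGroup.mk' (R.subgroupOf K)) (QuotientGroup.mk'_surjective _)
    (tame_of_injective K.subtype K.subtype_injective h)

/-- a minimal normal subgroup inside a normal `p`-subgroup `M` is centralized by `M` and has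
exponent `p`. -/
theorem min_normal_props {G : Type*} [Group G] [Finite G] {p : ℕ} [Fact p.Prime]
    (P₁ M : Subgroup G) [hP₁n : P₁.Normal] [hMn : M.Normal] (hM : IsPGroup p M) (hP₁M : P₁ ≤ M)
    (hP₁1 : P₁ ≠ ⊥)
    (hmin : ∀ N : Subgroup G, N.Normal → N ≤ P₁ → N ≠ ⊥ → N = P₁) :
    P₁ ≤ Subgroup.centralizer (M : Set G) ∧ ∀ v ∈ P₁, v ^ p = 1 := by
  have hp' : p.Prime := Fact.out
  have hcent : P₁ ≤ Subgroup.centralizer (M : Set G) := by
    obtain ⟨z, hzP, hz1, hzc⟩ := exists_central_of_normal_pgroup M P₁ hM hP₁M hP₁1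
      (fun m _ n hn => hP₁n.conj_mem n hn m)
    have h2 := hmin (P₁ ⊓ Subgroup.centralizer (M : Set G)) inferInstance inf_le_left (by
      intro h
      have : z ∈ P₁ ⊓ Subgroup.centralizer (M : Set G) :=
        Subgroup.mem_inf.2 ⟨hzP, Subgroup.mem_centralizer_iff.2 (fun m hm => hzc m hm)⟩
      rw [h] at this
      exact hz1 (Subgroup.mem_bot.1 this))
    intro x hx
    have : x ∈ P₁ ⊓ Subgroup.centralizer (M : Set G) := by rw [h2]; exact hx
    exact (Subgroup.mem_inf.1 this).2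
  refine ⟨hcent, ?_⟩
  have hc : ∀ v ∈ P₁, ∀ w ∈ P₁, v * w = w * v := fun v hv w hw =>
    (Subgroup.mem_centralizer_iff.1 (hcent hw) v (hP₁M hv))
  haveI hΩn : (omegaAb p P₁ hc).Normal :=
    ⟨fun v hv x => ⟨hP₁n.conj_mem v hv.1 x, by rw [conj_pow, hv.2]; group⟩⟩
  have hΩ1 : omegaAb p P₁ hc ≠ ⊥ := by
    obtain ⟨k, hk⟩ := IsPGroup.iff_card.1 (hM.to_le hP₁M)
    have hk0 : k ≠ 0 := by
      intro h0
      rw [h0, pow_zero] at hk
      exact hP₁1 (Subgroup.eq_bot_of_card_eq P₁ hk)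
    have hdvd : p ∣ Nat.card P₁ := by rw [hk]; exact dvd_pow_self p hk0
    obtain ⟨x, hx⟩ := exists_prime_orderOf_dvd_card' p hdvd
    intro h
    have h1 : (x : G) ∈ omegaAb p P₁ hc := by
      refine ⟨x.2, ?_⟩
      have h2 : x ^ p = 1 := by rw [← hx]; exact pow_orderOf_eq_one x
      have h3 : ((x ^ p : P₁) : G) = ((1 : P₁) : G) := congrArg Subtype.val h2
      exact h3
    rw [h, Subgroup.mem_bot] at h1
    have h4 : x = 1 := Subtype.ext h1
    rw [h4, orderOf_one] at hx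
    exact hp'.one_lt.ne hx
  have h2 := hmin (omegaAb p P₁ hc) hΩn (fun v hv => hv.1) hΩ1
  intro v hv
  have : v ∈ omegaAb p P₁ hc := by rw [h2]; exact hv
  exact this.2

/-- powers of an element acting "quadratically" -/
theorem conj_pow_of_comm {G : Type*} [Group G] (x u c : G) (hxu : x * u * x⁻¹ = c * u)
    (hxc : x * c = c * x) (i : ℕ) : x ^ i * u * (x ^ i)⁻¹ = c ^ i * u := by
  induction i with
  | zero => simp
  | succ i ih =>
    calc x ^ (i + 1) * u * (x ^ (i + 1))⁻¹ = x * (x ^ i * u * (x ^ i)⁻¹) * x⁻¹ := by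
          rw [pow_succ']; group
      _ = x * (c ^ i * u) * x⁻¹ := by rw [ih]
      _ = (x * c ^ i * x⁻¹) * (x * u * x⁻¹) := by group
      _ = c ^ i * (c * u) := by
          rw [hxu]
          have : x * c ^ i * x⁻¹ = c ^ i := by
            have hc : Commute x (c ^ i) := (show Commute x c from hxc).pow_right i
            rw [hc.eq]; group
          rw [this]
      _ = c ^ (i + 1) * u := by rw [pow_succ]; group

/-- **Step 1.** A quadratic element `g` on a normal `p`-subgroup `P` (`p` odd) centralizes,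
modulo `E₁ C_G(P)`, every normal subgroup `E` that is abelian of exponent prime to `p` modulo
the normal `p`-subgroup `E₁`. -/
theorem quad_comm_mem {p : ℕ} [Fact p.Prime] (hp2 : p ≠ 2) : ∀ (n : ℕ) (G : Type u) [Group G]
    [Finite G] (P E₁ E : Subgroup G) [P.Normal] [E₁.Normal] [E.Normal], Nat.card P ≤ n →
    IsPGroup p P → IsPGroup p E₁ → E₁ ≤ E → (∀ x ∈ E, ∀ y ∈ E, x * y * x⁻¹ * y⁻¹ ∈ E₁) →
    ∀ m : ℕ, m.Coprime p → (∀ x ∈ E, x ^ m ∈ E₁) → ∀ g : G,
    (∀ x ∈ P, g * (g * x * g⁻¹ * x⁻¹) * g⁻¹ = g * x * g⁻¹ * x⁻¹) →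
    ∀ y ∈ E, g * y * g⁻¹ * y⁻¹ ∈ E₁ ⊔ Subgroup.centralizer (P : Set G) := by
  have hp' : p.Prime := Fact.out
  intro n
  induction n with
  | zero =>
    intro G _ _ P E₁ E _ _ _ hcard
    have : 0 < Nat.card P := Nat.card_pos
    omega
  | succ n ih =>
    intro G _ _ P E₁ E hPn hE₁n hEn hcard hPp hE₁p hE₁E hEc m hm hEm g hq y hy
    by_cases hP1 : P = ⊥
    · apply Subgroup.mem_sup_right
      rw [hP1, Subgroup.mem_centralizer_iff]
      intro h hh
      rw [Subgroup.coe_bot, Set.mem_singleton_iff] at hh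
      rw [hh, one_mul, mul_one]
    -- a minimal normal subgroup inside `P`
    let 𝒩 : Type u := {N : Subgroup G // N.Normal ∧ N ≤ P ∧ N ≠ ⊥}
    haveI : Nonempty 𝒩 := ⟨⟨P, hPn, le_rfl, hP1⟩⟩
    obtain ⟨⟨P₁, hP₁n, hP₁P, hP₁1⟩, hminc⟩ := Finite.exists_min (fun N : 𝒩 => Nat.card N.1)
    haveI := hP₁n
    have hmin : ∀ N : Subgroup G, N.Normal → N ≤ P₁ → N ≠ ⊥ → N = P₁ := by
      intro N hNn hNP hN1
      have h1 : Nat.card P₁ ≤ Nat.card N := hminc ⟨N, hNn, hNP.trans hP₁P, hN1⟩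
      exact Subgroup.eq_of_le_of_card_ge hNP h1
    have hMp : IsPGroup p (E₁ ⊔ P : Subgroup G) := IsPGroup.to_sup_of_normal_left hE₁p hPp
    obtain ⟨hcent, hexp⟩ := min_normal_props P₁ (E₁ ⊔ P) hMp (hP₁P.trans le_sup_right) hP₁1 hmin
    have hE₁c : E₁ ≤ Subgroup.centralizer (P₁ : Set G) :=
      Subgroup.le_centralizer_iff.1
        (hcent.trans (Subgroup.centralizer_le (le_sup_left : E₁ ≤ E₁ ⊔ P)))
    have hPc : P ≤ Subgroup.centralizer (P₁ : Set G) :=
      Subgroup.le_centralizer_iff.1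
        (hcent.trans (Subgroup.centralizer_le (le_sup_right : P ≤ E₁ ⊔ P)))
    have hP₁c : ∀ v ∈ P₁, ∀ w ∈ P₁, v * w = w * v := fun v hv w hw =>
      (Subgroup.mem_centralizer_iff.1 (hPc (hP₁P hw)) v hv)
    -- (A)
    have hA := quad_kill_group hp2 P₁ hP₁c hexp g (fun v hv => hq v (hP₁P hv)) E
      (fun x hx => hEn.conj_mem x hx g) (fun x hx y hy => hE₁c (hEc x hx y hy)) m hm
      (fun x hx => hE₁c (hEm x hx))
    -- (B)
    have hπ : Function.Surjective (QuotientGroup.mk' P₁) := QuotientGroup.mk'_surjective P₁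
    have hcard' : Nat.card (P.map (QuotientGroup.mk' P₁)) ≤ n := by
      have h1 := Cfsg.Agent.Lib.helper1.card_eq_inf_ker_mul_map (QuotientGroup.mk' P₁) P
      rw [QuotientGroup.ker_mk', inf_eq_right.2 hP₁P] at h1
      have h2 : 2 ≤ Nat.card P₁ := by
        rcases Nat.lt_or_ge (Nat.card P₁) 2 with h3 | h3
        · exfalso
          have h4 : Nat.card P₁ = 1 := by
            have : 0 < Nat.card P₁ := Nat.card_pos
            omega
          exact hP₁1 (Subgroup.eq_bot_of_card_eq P₁ h4)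
        · exact h3
      have h5 : 0 < Nat.card (P.map (QuotientGroup.mk' P₁)) := Nat.card_pos
      nlinarith
    haveI hn1 : (P.map (QuotientGroup.mk' P₁)).Normal := hPn.map _ hπ
    haveI hn2 : (E₁.map (QuotientGroup.mk' P₁)).Normal := hE₁n.map _ hπ
    haveI hn3 : (E.map (QuotientGroup.mk' P₁)).Normal := hEn.map _ hπ
    have hB := ih (G ⧸ P₁) (P.map (QuotientGroup.mk' P₁)) (E₁.map (QuotientGroup.mk' P₁))
      (E.map (QuotientGroup.mk' P₁)) hcard' (hPp.map _) (hE₁p.map _) (Subgroup.map_mono hE₁E)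
      (by
        rintro _ ⟨x, hx, rfl⟩ _ ⟨y, hy, rfl⟩
        exact ⟨x * y * x⁻¹ * y⁻¹, hEc x hx y hy, by
          rw [map_mul, map_mul, map_mul, map_inv, map_inv]⟩)
      m hm
      (by
        rintro _ ⟨x, hx, rfl⟩
        exact ⟨x ^ m, hEm x hx, by rw [map_pow]⟩)
      (QuotientGroup.mk' P₁ g)
      (by
        rintro _ ⟨x, hx, rfl⟩
        have h1 := congrArg (QuotientGroup.mk' P₁) (hq x hx)
        rw [map_mul, map_mul, map_mul, map_mul, map_mul, map_inv, map_inv] at h1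
        exact h1)
      (QuotientGroup.mk' P₁ y) ⟨y, hy, rfl⟩
    -- (C)
    have hB' : QuotientGroup.mk' P₁ (g * y * g⁻¹ * y⁻¹) ∈
        ((E₁.map (QuotientGroup.mk' P₁) ⊔ Subgroup.centralizer
          ((P.map (QuotientGroup.mk' P₁) : Subgroup (G ⧸ P₁)) : Set (G ⧸ P₁)) :
          Subgroup (G ⧸ P₁)) : Set (G ⧸ P₁)) := by
      rw [map_mul, map_mul, map_mul, map_inv, map_inv]
      exact hB
    rw [Subgroup.normal_mul] at hB'
    obtain ⟨_, ⟨e, he, rfl⟩, c, hc, hec⟩ := Set.mem_mul.1 hB'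
    set x : G := e⁻¹ * (g * y * g⁻¹ * y⁻¹) with hx
    have hgyE : g * y * g⁻¹ * y⁻¹ ∈ E := E.mul_mem (hEn.conj_mem y hy g) (E.inv_mem hy)
    have hxE : x ∈ E := E.mul_mem (E.inv_mem (hE₁E he)) hgyE
    have hxP₁ : x ∈ Subgroup.centralizer (P₁ : Set G) :=
      Subgroup.mul_mem _ (Subgroup.inv_mem _ (hE₁c he)) (hA y hy)
    have hπx : QuotientGroup.mk' P₁ x = c := by
      rw [hx, map_mul, map_inv, ← hec]; group
    have hxu : ∀ u ∈ P, x * u * x⁻¹ * u⁻¹ ∈ P₁ := by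
      intro u hu
      rw [← QuotientGroup.eq_one_iff, ← QuotientGroup.mk'_apply, map_mul, map_mul, map_mul,
        map_inv, map_inv, hπx]
      have h1 := Subgroup.mem_centralizer_iff.1 hc _ ⟨u, hu, rfl⟩
      exact comm_eq_one_of_comm _ _ h1.symm
    have hxp : x ^ p ∈ Subgroup.centralizer (P : Set G) := by
      rw [Subgroup.mem_centralizer_iff]
      intro u hu
      have hcP := hxu u hu
      have h1 : x * u * x⁻¹ = (x * u * x⁻¹ * u⁻¹) * u := by group
      have h2 : x * (x * u * x⁻¹ * u⁻¹) = (x * u * x⁻¹ * u⁻¹) * x :=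
        (Subgroup.mem_centralizer_iff.1 hxP₁ _ hcP).symm
      have h3 := conj_pow_of_comm x u _ h1 h2 p
      rw [hexp _ hcP, one_mul] at h3
      calc u * x ^ p = (x ^ p * u * (x ^ p)⁻¹) * x ^ p := by rw [h3]
        _ = x ^ p * u := by group
    have hxm : x ^ m ∈ E₁ := hEm x hxE
    have hxmem : x ∈ E₁ ⊔ Subgroup.centralizer (P : Set G) := by
      obtain ⟨a, b, hab⟩ : ∃ a b : ℤ, (p : ℤ) * a + (m : ℤ) * b = 1 := by
        have := Int.isCoprime_iff_gcd_eq_one.2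
          (by exact_mod_cast hm.symm : Int.gcd (p : ℤ) (m : ℤ) = 1)
        obtain ⟨a, b, hab⟩ := this
        exact ⟨a, b, by linarith⟩
      have h1 : x = (x ^ p) ^ a * (x ^ m) ^ b := by
        rw [← zpow_natCast, ← zpow_natCast, ← zpow_mul, ← zpow_mul, ← zpow_add, hab, zpow_one]
      rw [h1]
      exact Subgroup.mul_mem _ (Subgroup.mem_sup_right (Subgroup.zpow_mem _ hxp a))
        (Subgroup.mem_sup_left (Subgroup.zpow_mem _ hxm b))
    have h6 : g * y * g⁻¹ * y⁻¹ = e * x := by rw [hx]; group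
    rw [h6]
    exact Subgroup.mul_mem _ (Subgroup.mem_sup_left he) hxmem

/-- **Step 3.** A `p`-element centralizing `E/E₁` (`E₁ ≤` a normal `p`-subgroup, `M/E` a
`p`-group) lies in `O_p(M)`. -/
theorem mem_pCore_of_comm {p : ℕ} [Fact p.Prime] {M : Type*} [Group M] [Finite M]
    (E₁ E : Subgroup M) [hE₁n : E₁.Normal] [hEn : E.Normal] (hE₁ : IsPGroup p E₁)
    (k : ℕ) (hk : ∀ x : M, x ^ p ^ k ∈ E) (g : M) (j : ℕ) (hgp : g ^ p ^ j = 1)
    (hg : ∀ y ∈ E, g * y * g⁻¹ * y⁻¹ ∈ E₁) : g ∈ Cfsg.pCore p M := by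
  have hp' : p.Prime := Fact.out
  -- a Sylow subgroup containing `g`
  have hzp : IsPGroup p (Subgroup.zpowers g) := by
    rintro ⟨x, hx⟩
    obtain ⟨i, rfl⟩ := Subgroup.mem_zpowers_iff.1 hx
    refine ⟨j, Subtype.ext ?_⟩
    show (g ^ i) ^ p ^ j = 1
    rw [← zpow_natCast, ← zpow_mul, mul_comm, zpow_mul, zpow_natCast, hgp, one_zpow]
  obtain ⟨S, hS⟩ := hzp.exists_le_sylow
  have hgS : g ∈ (S : Subgroup M) := hS (Subgroup.mem_zpowers g)
  -- `M = E S`
  have htop : E ⊔ (S : Subgroup M) = ⊤ := by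
    rw [← Subgroup.index_eq_one]
    have hq : IsPGroup p (M ⧸ E) := by
      intro x
      obtain ⟨x, rfl⟩ := QuotientGroup.mk'_surjective E x
      refine ⟨k, ?_⟩
      rw [← map_pow]
      exact (QuotientGroup.eq_one_iff _).2 (hk x)
    obtain ⟨a, ha⟩ := IsPGroup.iff_card.1 hq
    have hEi : E.index = p ^ a := ha
    have h1 : (E ⊔ (S : Subgroup M)).index ∣ p ^ a := by
      rw [← hEi]; exact Subgroup.index_dvd_of_le le_sup_left
    have h2 : (E ⊔ (S : Subgroup M)).index ∣ (S : Subgroup M).index :=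
      Subgroup.index_dvd_of_le le_sup_right
    obtain ⟨b, hb, hb2⟩ := (Nat.dvd_prime_pow hp').1 h1
    rcases Nat.eq_zero_or_pos b with h0 | h0
    · rw [hb2, h0, pow_zero]
    · exfalso
      have h3 : p ∣ (S : Subgroup M).index := by
        refine dvd_trans ?_ h2
        rw [hb2]; exact dvd_pow_self p (by omega)
      exact S.not_dvd_index h3
  -- the centralizer of `E / E₁`
  let D : Subgroup M := (Subgroup.centralizer
    ((E.map (QuotientGroup.mk' E₁) : Subgroup (M ⧸ E₁)) : Set (M ⧸ E₁))).comap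
      (QuotientGroup.mk' E₁)
  haveI hEqn : (E.map (QuotientGroup.mk' E₁)).Normal := hEn.map _ (QuotientGroup.mk'_surjective E₁)
  haveI hDn : D.Normal := Subgroup.Normal.comap inferInstance _
  have hD : ∀ x : M, x ∈ D ↔ ∀ y ∈ E, x * y * x⁻¹ * y⁻¹ ∈ E₁ := by
    intro x
    constructor
    · intro hx y hy
      have h1 : QuotientGroup.mk' E₁ x ∈ Subgroup.centralizer
        ((E.map (QuotientGroup.mk' E₁) : Subgroup (M ⧸ E₁)) : Set (M ⧸ E₁)) := hx
      have h2 := Subgroup.mem_centralizer_iff.1 h1 _ ⟨y, hy, rfl⟩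
      rw [← QuotientGroup.eq_one_iff, ← QuotientGroup.mk'_apply, map_mul, map_mul, map_mul,
        map_inv, map_inv]
      exact comm_eq_one_of_comm _ _ h2.symm
    · intro hx
      show QuotientGroup.mk' E₁ x ∈ Subgroup.centralizer _
      rw [Subgroup.mem_centralizer_iff]
      rintro _ ⟨y, hy, rfl⟩
      have h1 : QuotientGroup.mk' E₁ (x * y * x⁻¹ * y⁻¹) = 1 :=
        (QuotientGroup.eq_one_iff _).2 (hx y hy)
      rw [map_mul, map_mul, map_mul, map_inv, map_inv] at h1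
      exact (comm_of_comm_eq_one _ _ h1).symm
  have hgD : g ∈ D := (hD g).2 hg
  have hE₁S : E₁ ≤ (S : Subgroup M) := by
    have h1 : IsPGroup p (E₁ ⊔ (S : Subgroup M) : Subgroup M) :=
      IsPGroup.to_sup_of_normal_left hE₁ S.2
    have h2 := S.is_maximal' h1 le_sup_right
    rw [← h2]; exact le_sup_left
  have hE₁D : E₁ ≤ D := by
    intro e he
    rw [hD]
    intro y hy
    have h1 : e * y * e⁻¹ * y⁻¹ = e * (y * e⁻¹ * y⁻¹) := by group
    rw [h1]
    exact E₁.mul_mem he (hE₁n.conj_mem _ (E₁.inv_mem he) y)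
  -- `Q = S ∩ D` is normal
  have hQn : ((S : Subgroup M) ⊓ D).Normal := by
    refine ⟨fun s₀ hs₀ x => ?_⟩
    have hx : x ∈ ((E ⊔ (S : Subgroup M) : Subgroup M) : Set M) := by rw [htop]; trivial
    rw [Subgroup.normal_mul] at hx
    obtain ⟨y, hy, s, hs, rfl⟩ := Set.mem_mul.1 hx
    have hs₁ : s * s₀ * s⁻¹ ∈ (S : Subgroup M) ⊓ D :=
      Subgroup.mem_inf.2 ⟨Subgroup.mul_mem _ (Subgroup.mul_mem _ hs hs₀.1) (Subgroup.inv_mem _ hs),
        hDn.conj_mem _ hs₀.2 s⟩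
    have h1 : y * s * s₀ * (y * s)⁻¹ = y * (s * s₀ * s⁻¹) * y⁻¹ := by group
    rw [h1]
    refine Subgroup.mem_inf.2 ⟨?_, hDn.conj_mem _ hs₁.2 y⟩
    have h2 : y * (s * s₀ * s⁻¹) * y⁻¹ =
        ((s * s₀ * s⁻¹) * y * (s * s₀ * s⁻¹)⁻¹ * y⁻¹)⁻¹ * (s * s₀ * s⁻¹) := by group
    rw [h2]
    exact Subgroup.mul_mem _ (hE₁S (E₁.inv_mem ((hD _).1 hs₁.2 y hy))) hs₁.1
  have hQp : IsPGroup p ((S : Subgroup M) ⊓ D : Subgroup M) := S.2.to_le inf_le_left
  have hle : (S : Subgroup M) ⊓ D ≤ Cfsg.pCore p M := le_sSup ⟨hQn, hQp⟩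
  exact hle (Subgroup.mem_inf.2 ⟨hgS, hgD⟩)

theorem conj_inv_of_comm {M : Type*} [Group M] (a g : M) (h : a * g = g * a) :
    g * a⁻¹ * g⁻¹ = a⁻¹ := by
  have h1 : g * a⁻¹ = a⁻¹ * g := by
    calc g * a⁻¹ = a⁻¹ * (a * g) * a⁻¹ := by group
      _ = a⁻¹ * (g * a) * a⁻¹ := by rw [h]
      _ = a⁻¹ * g := by group
  rw [h1]; group

/-- **Tame groups are `p`-stable in the normalizer form** (`p` odd). -/
theorem tame_stable {p : ℕ} [Fact p.Prime] (hp2 : p ≠ 2) {X : Type u} [Group X] [Finite X]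
    (h : Tame p X) : Cfsg.IsNormalizerPStable p X := by
  intro P hP g hg hquad
  obtain ⟨E₁, E, hE₁n, hEn, hE₁p, hE₁E, hEc, ⟨m, hm, hEm⟩, ⟨k, hk⟩⟩ :=
    tame_of_injective (Subgroup.normalizer (P : Set X)).subtype (Subgroup.subtype_injective _) h
  haveI := hE₁n
  haveI := hEn
  haveI hP'n : (P.subgroupOf (Subgroup.normalizer (P : Set X))).Normal := inferInstance
  have hP'p : IsPGroup p (P.subgroupOf (Subgroup.normalizer (P : Set X))) :=
    hP.comap_of_injective _ (Subgroup.subtype_injective _)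
  have hq : ∀ x ∈ P, g * (g * x * g⁻¹ * x⁻¹) * g⁻¹ = g * x * g⁻¹ * x⁻¹ := by
    intro x hx
    have h1 : x * g * x⁻¹ * g⁻¹ ∈ ⁅P, Subgroup.zpowers g⁆ :=
      Subgroup.commutator_mem_commutator hx (Subgroup.mem_zpowers g)
    have h2 : (x * g * x⁻¹ * g⁻¹) * g * (x * g * x⁻¹ * g⁻¹)⁻¹ * g⁻¹ ∈
        ⁅⁅P, Subgroup.zpowers g⁆, Subgroup.zpowers g⁆ :=
      Subgroup.commutator_mem_commutator h1 (Subgroup.mem_zpowers g)
    rw [hquad, Subgroup.mem_bot] at h2
    have h3 : (x * g * x⁻¹ * g⁻¹) * g = g * (x * g * x⁻¹ * g⁻¹) :=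
      comm_of_comm_eq_one (x * g * x⁻¹ * g⁻¹) g h2
    have h4 : g * x * g⁻¹ * x⁻¹ = (x * g * x⁻¹ * g⁻¹)⁻¹ := by group
    rw [h4]
    exact conj_inv_of_comm _ _ h3
  have h1 := quad_comm_mem hp2 (Nat.card (P.subgroupOf (Subgroup.normalizer (P : Set X))))
    ↥(Subgroup.normalizer (P : Set X)) (P.subgroupOf (Subgroup.normalizer (P : Set X))) E₁ E le_rfl
    hP'p hE₁p hE₁E hEc m hm hEm ⟨g, hg⟩ (fun x hx => Subtype.ext (hq x hx))
  obtain ⟨j, hj⟩ := IsPGroup.iff_card.1 hP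
  have hgj : g ^ p ^ j ∈ Subgroup.centralizer (P : Set X) := by
    rw [Subgroup.mem_centralizer_iff]
    intro u hu
    have hc : g * u * g⁻¹ * u⁻¹ ∈ P :=
      P.mul_mem ((Subgroup.mem_normalizer_iff.1 hg u).1 hu) (P.inv_mem hu)
    have e1 : g * u * g⁻¹ = (g * u * g⁻¹ * u⁻¹) * u := by group
    have e2 : g * (g * u * g⁻¹ * u⁻¹) = (g * u * g⁻¹ * u⁻¹) * g := by
      have h5 := hq u hu
      calc g * (g * u * g⁻¹ * u⁻¹) = (g * (g * u * g⁻¹ * u⁻¹) * g⁻¹) * g := by group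
        _ = (g * u * g⁻¹ * u⁻¹) * g := by rw [h5]
    have e3 := conj_pow_of_comm g u _ e1 e2 (p ^ j)
    have e4 : (g * u * g⁻¹ * u⁻¹) ^ p ^ j = 1 := by
      rw [← hj]
      have h5 := pow_card_eq_one' (G := P) (x := ⟨_, hc⟩)
      exact congrArg Subtype.val h5
    rw [e4, one_mul] at e3
    calc u * g ^ p ^ j = (g ^ p ^ j * u * (g ^ p ^ j)⁻¹) * g ^ p ^ j := by rw [e3]
      _ = g ^ p ^ j * u := by group
  have hπs := QuotientGroup.mk'_surjective
    ((Subgroup.centralizer (P : Set X)).subgroupOf (Subgroup.normalizer (P : Set X)))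
  haveI hn1 : (E₁.map (QuotientGroup.mk'
    ((Subgroup.centralizer (P : Set X)).subgroupOf (Subgroup.normalizer (P : Set X))))).Normal :=
    hE₁n.map _ hπs
  haveI hn2 : (E.map (QuotientGroup.mk'
    ((Subgroup.centralizer (P : Set X)).subgroupOf (Subgroup.normalizer (P : Set X))))).Normal :=
    hEn.map _ hπs
  refine mem_pCore_of_comm (E₁.map (QuotientGroup.mk'
    ((Subgroup.centralizer (P : Set X)).subgroupOf (Subgroup.normalizer (P : Set X)))))
    (E.map (QuotientGroup.mk'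
    ((Subgroup.centralizer (P : Set X)).subgroupOf (Subgroup.normalizer (P : Set X)))))
    (hE₁p.map _) k ?_ _ j ?_ ?_
  · intro x
    obtain ⟨x, rfl⟩ := hπs x
    exact ⟨x ^ p ^ k, hk x, by rw [map_pow]⟩
  · have h5 : (QuotientGroup.mk' ((Subgroup.centralizer (P : Set X)).subgroupOf
        (Subgroup.normalizer (P : Set X)))) ((⟨g, hg⟩ : Subgroup.normalizer (P : Set X)) ^ p ^ j)
        = 1 := by
      refine (QuotientGroup.eq_one_iff _).2 ?_
      rw [Subgroup.mem_subgroupOf, Subgroup.coe_pow]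
      exact hgj
    rw [map_pow] at h5
    exact h5
  · rintro _ ⟨y, hy, rfl⟩
    have h3 : (⟨g, hg⟩ : Subgroup.normalizer (P : Set X)) * y * ⟨g, hg⟩⁻¹ * y⁻¹ ∈
        ((E₁ ⊔ Subgroup.centralizer ((P.subgroupOf (Subgroup.normalizer (P : Set X)) :
          Subgroup (Subgroup.normalizer (P : Set X))) : Set (Subgroup.normalizer (P : Set X))) :
          Subgroup (Subgroup.normalizer (P : Set X))) : Set (Subgroup.normalizer (P : Set X))) :=
      h1 y hy
    rw [Subgroup.normal_mul] at h3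
    obtain ⟨e, he, c, hc, hec⟩ := Set.mem_mul.1 h3
    have hc1 : (QuotientGroup.mk' ((Subgroup.centralizer (P : Set X)).subgroupOf
        (Subgroup.normalizer (P : Set X)))) c = 1 := by
      refine (QuotientGroup.eq_one_iff _).2 ?_
      rw [Subgroup.mem_subgroupOf, Subgroup.mem_centralizer_iff]
      intro u hu
      have h5 := Subgroup.mem_centralizer_iff.1 hc ⟨u, Subgroup.le_normalizer hu⟩
        (by
          show (⟨u, Subgroup.le_normalizer hu⟩ : Subgroup.normalizer (P : Set X)) ∈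
            P.subgroupOf (Subgroup.normalizer (P : Set X))
          rw [Subgroup.mem_subgroupOf]; exact hu)
      exact congrArg Subtype.val h5
    refine ⟨e, he, ?_⟩
    have h6 : (QuotientGroup.mk' ((Subgroup.centralizer (P : Set X)).subgroupOf
        (Subgroup.normalizer (P : Set X)))) (e * c) = (QuotientGroup.mk'
        ((Subgroup.centralizer (P : Set X)).subgroupOf (Subgroup.normalizer (P : Set X)))) e := by
      rw [map_mul, hc1, mul_one]
    rw [← h6, hec, map_mul, map_mul, map_mul, map_inv, map_inv]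
    rfl

/-- the group of a minimal configuration is tame -/
theorem mincex_tame {p : ℕ} [Fact p.Prime] (W₁ W₂ : Cfsg.Agent.Lib.helper1.PFun.{u} p)
    (𝒞 : Cfsg.Agent.Lib.helper1.Hered.{u})
    {G' : Type u} [Group G'] [Finite G'] (P : Sylow p G') (H K : Subgroup G')
    (h : Cfsg.Agent.Lib.helper1.MinCex p W₁ W₂ 𝒞 G' P H K) : Tame p G' := by
  have hp' : p.Prime := Fact.out
  haveI hHn := h.H_normal
  haveI hKn := h.K_normal
  obtain ⟨q, hq, hqp, hKq⟩ := h.K_q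
  obtain ⟨a, ha⟩ := h.K_index
  refine ⟨H, K, hHn, hKn, h.H_pgroup, h.H_le_K, h.K_comm,
    ⟨q ^ Nat.card G', Nat.Coprime.pow_left _ ((Nat.coprime_primes hq hp').2 hqp),
      uniform_exp H K q hq hKq⟩, ⟨a, fun x => ?_⟩⟩
  rw [← ha]
  exact Subgroup.pow_index_mem K x

/-- control of strong fusion by `W(T)` is impossible in a minimal configuration -/
theorem fusion_final {p : ℕ} [Fact p.Prime] (W : ∀ (Q : Type u) [Group Q], Subgroup Q)
    (hW : Cfsg.IsCharPFunctor.{u} p W) (𝒞 : Cfsg.Agent.Lib.helper1.Hered.{u})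
    {G' : Type u} [Group G'] [Finite G'] (P : Sylow p G') (H K : Subgroup G')
    (h : Cfsg.Agent.Lib.helper1.MinCex p (WF p W hW) (WF p W hW) 𝒞 G' P H K)
    {Γ : Type u} [Group Γ] [Finite Γ] (e : Γ ≃* G') (T : Sylow p Γ)
    (hT : (T : Subgroup Γ) = (P : Subgroup G').comap e.toMonoidHom)
    (hctl : Cfsg.ControlsStrongFusion p (Cfsg.inducedFunctor W (T : Subgroup Γ))) : False := by
  have hp' : p.Prime := Fact.out
  -- `N_Γ(W(T)) ≤ T`
  have hNT : ∀ x ∈ Subgroup.normalizer ((Cfsg.inducedFunctor W (T : Subgroup Γ) : Subgroup Γ) :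
      Set Γ), x ∈ (T : Subgroup Γ) := by
    intro x hx
    have hTp : IsPGroup p ((P : Subgroup G').comap e.toMonoidHom) :=
      P.2.comap_of_injective e.toMonoidHom e.injective
    have hmap : ((P : Subgroup G').comap e.toMonoidHom).map e.toMonoidHom = P :=
      Subgroup.map_comap_eq_self_of_surjective e.surjective _
    have h1 := induced_map hW e.toMonoidHom ((P : Subgroup G').comap e.toMonoidHom) hTp
      (fun x _ hx => e.injective (by rw [map_one]; exact hx))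
    rw [hmap] at h1
    rw [hT] at hx
    have h2 : e x ∈ Subgroup.normalizer
        (((Cfsg.inducedFunctor W ((P : Subgroup G').comap e.toMonoidHom)).map e.toMonoidHom :
          Subgroup G') : Set G') :=
      Subgroup.le_normalizer_map e.toMonoidHom ⟨x, hx, rfl⟩
    rw [← h1] at h2
    have h3 := h.norm₁
    rw [WF_apply W hW _ P.2] at h3
    rw [h3] at h2
    rw [hT]
    exact h2
  obtain ⟨T', hWT', hA⟩ := hctl
  have key : ∀ Q : Subgroup Γ, Q ≤ (T' : Subgroup Γ) →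
      ∀ g ∈ Subgroup.normalizer (Q : Set Γ), Nat.Coprime (orderOf g) p →
        g ∈ Subgroup.centralizer (Q : Set Γ) := by
    intro Q hQ g hg hcop
    have hgQ : ∀ a ∈ Q, g * a * g⁻¹ ∈ Q := fun a ha => (Subgroup.mem_normalizer_iff.1 hg a).1 ha
    obtain ⟨x, hx, hxa⟩ := (hA (Q : Set Γ) hQ).2 g (by
      rintro _ ⟨a, ha, rfl⟩
      exact hQ (hgQ a ha))
    obtain ⟨k, hk⟩ := T.2 ⟨x, hNT x hx⟩
    have hxk : x ^ p ^ k = 1 := by
      have := congrArg Subtype.val hk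
      simpa using this
    have hpow : ∀ i : ℕ, ∀ a ∈ Q, g ^ i * a * (g ^ i)⁻¹ = x ^ i * a * (x ^ i)⁻¹ ∧
        g ^ i * a * (g ^ i)⁻¹ ∈ Q := by
      intro i
      induction i with
      | zero => intro a ha; simpa using ha
      | succ i ih =>
        intro a ha
        obtain ⟨h1, h2⟩ := ih a ha
        have h3 : g ^ (i + 1) * a * (g ^ (i + 1))⁻¹ = g * (g ^ i * a * (g ^ i)⁻¹) * g⁻¹ := by
          rw [pow_succ']; group
        have h4 : x ^ (i + 1) * a * (x ^ (i + 1))⁻¹ = x * (x ^ i * a * (x ^ i)⁻¹) * x⁻¹ := by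
          rw [pow_succ']; group
        refine ⟨?_, ?_⟩
        · rw [h3, h4, ← h1]
          exact hxa _ h2
        · rw [h3]; exact hgQ _ h2
    have hgk : g ^ p ^ k ∈ Subgroup.centralizer (Q : Set Γ) := by
      rw [Subgroup.mem_centralizer_iff]
      intro a ha
      have h1 := (hpow (p ^ k) a ha).1
      rw [hxk] at h1
      simp only [one_mul, inv_one, mul_one] at h1
      calc a * g ^ p ^ k = (g ^ p ^ k * a * (g ^ p ^ k)⁻¹) * g ^ p ^ k := by rw [h1]
        _ = g ^ p ^ k * a := by group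
    obtain ⟨a, b, hab⟩ : ∃ a b : ℤ, ((p ^ k : ℕ) : ℤ) * a + (orderOf g : ℤ) * b = 1 := by
      have hc : Nat.Coprime (p ^ k) (orderOf g) := (Nat.Coprime.pow_right k hcop).symm
      have := Int.isCoprime_iff_gcd_eq_one.2
        (by exact_mod_cast hc : Int.gcd ((p ^ k : ℕ) : ℤ) (orderOf g : ℤ) = 1)
      obtain ⟨a, b, hab⟩ := this
      exact ⟨a, b, by linarith⟩
    have h1 : g = (g ^ p ^ k) ^ a * (g ^ orderOf g) ^ b := by
      rw [← zpow_natCast, ← zpow_natCast, ← zpow_mul, ← zpow_mul, ← zpow_add, hab, zpow_one]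
    rw [h1, pow_orderOf_eq_one, one_zpow, mul_one]
    exact Subgroup.zpow_mem _ hgk a
  obtain ⟨N, hN⟩ := (Cfsg.Agent.S0071.result T').2 key
  have hnpc : Cfsg.HasNormalPComplement p Γ := ⟨T', N, hN⟩
  exact h.not_npc (Cfsg.Agent.Lib.lead.hasNPC_of_surjective e.toMonoidHom e.surjective hnpc)

end Cfsg.Agent.Lib.helper14
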