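import Cfsg.Agent.Lib.helper14.CompAbelian
import Cfsg.Agent.Lib.helper3.Primitive

set_option autoImplicit false
set_option linter.unusedSectionVars false
set_option linter.unusedVariables false

namespace Cfsg.Agent.Lib.helper14

open Cfsg
open scoped commutatorElement Pointwise

universe u

section transfer
variable {G : Type*} [Group G] {M : Subgroup G} {A : Type*} [CommGroup A]

/-- the transfer vanishes at `x` when all `M`-conjugate-powers of `x` are killed. -/
theorem transfer_eq_one_of_forall [M.FiniteIndex] (ϕ : M →* A) (x : G)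
    (h : ∀ (t : G) (n : ℕ) (hm : t⁻¹ * x ^ n * t ∈ M), ϕ ⟨t⁻¹ * x ^ n * t, hm⟩ = 1) :
    MonoidHom.transfer ϕ x = 1 := by
  classical
  haveI : Fintype (Quotient (MulAction.orbitRel (Subgroup.zpowers x) (G ⧸ M))) :=
    Fintype.ofFinite _
  rw [MonoidHom.transfer_eq_prod_quotient_orbitRel_zpowers_quot]
  exact Finset.prod_eq_one (fun q _ => h _ _ _)

/-- the transfer at `x ∈ M` equals `ϕ x` when all conjugate-powers through elements outside `M`
are killed. -/
theorem transfer_eq_of_forall_not_mem [M.FiniteIndex] (ϕ : M →* A) (x : G) (hx : x ∈ M)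
    (h : ∀ (t : G) (n : ℕ) (hm : t⁻¹ * x ^ n * t ∈ M), t ∉ M → ϕ ⟨t⁻¹ * x ^ n * t, hm⟩ = 1) :
    MonoidHom.transfer ϕ x = ϕ ⟨x, hx⟩ := by
  classical
  haveI : Fintype (Quotient (MulAction.orbitRel (Subgroup.zpowers x) (G ⧸ M))) :=
    Fintype.ofFinite _
  rw [MonoidHom.transfer_eq_prod_quotient_orbitRel_zpowers_quot]
  obtain ⟨q₀, hq₀⟩ : ∃ q₀ : Quotient (MulAction.orbitRel (Subgroup.zpowers x) (G ⧸ M)),
      q₀ = Quotient.mk'' (QuotientGroup.mk 1 : G ⧸ M) := ⟨_, rfl⟩
  have hfix : ∀ z ∈ Subgroup.zpowers x, z • (QuotientGroup.mk 1 : G ⧸ M) = QuotientGroup.mk 1 := by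
    intro z hz
    have hzM : z ∈ M := (Subgroup.zpowers_le.2 hx) hz
    show (QuotientGroup.mk (z * 1) : G ⧸ M) = QuotientGroup.mk 1
    rw [QuotientGroup.eq]
    simpa using hzM
  have hout : q₀.out = (QuotientGroup.mk 1 : G ⧸ M) := by
    have h1 : Quotient.mk'' q₀.out = (Quotient.mk'' (QuotientGroup.mk 1 : G ⧸ M) :
        Quotient (MulAction.orbitRel (Subgroup.zpowers x) (G ⧸ M))) := by
      rw [Quotient.out_eq', hq₀]
    have h2 := Quotient.exact' h1
    obtain ⟨z, hz⟩ := h2
    rw [← hz]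
    exact hfix z z.2
  have htM : q₀.out.out ∈ M := by
    have h1 : (QuotientGroup.mk q₀.out.out : G ⧸ M) = QuotientGroup.mk 1 := by
      rw [QuotientGroup.out_eq', hout]
    rw [QuotientGroup.eq] at h1
    simpa using h1
  have hper : Function.minimalPeriod (x • · : G ⧸ M → G ⧸ M) q₀.out = 1 := by
    rw [Function.minimalPeriod_eq_one_iff_isFixedPt, hout]
    exact hfix x (Subgroup.mem_zpowers x)
  rw [Finset.prod_eq_single q₀]
  · have key : ∀ (n : ℕ) (hm : q₀.out.out⁻¹ * x ^ n * q₀.out.out ∈ M), n = 1 →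
        ϕ ⟨q₀.out.out⁻¹ * x ^ n * q₀.out.out, hm⟩ = ϕ ⟨x, hx⟩ := by
      intro n hm hn
      subst hn
      have e : (⟨q₀.out.out⁻¹ * x ^ 1 * q₀.out.out, hm⟩ : M) =
          (⟨q₀.out.out, htM⟩ : M)⁻¹ * ⟨x, hx⟩ * ⟨q₀.out.out, htM⟩ := by
        apply Subtype.ext; simp
      rw [e, map_mul, map_mul, map_inv, mul_comm, mul_inv_cancel_left]
    exact key _ _ hper
  · intro q _ hq
    apply h
    intro htq
    apply hq
    have h1 : q.out = (QuotientGroup.mk 1 : G ⧸ M) := by
      rw [← QuotientGroup.out_eq' q.out, QuotientGroup.eq]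
      simpa using htq
    rw [hq₀, ← h1, Quotient.out_eq']
  · intro hq; exact absurd (Finset.mem_univ _) hq

end transfer


theorem conj_mem_normalizer_map_conj {G : Type*} [Group G] (H : Subgroup G) {y : G}
    (hy : y ∈ Subgroup.normalizer (H : Set G)) (t : G) :
    t * y * t⁻¹ ∈ Subgroup.normalizer ((H.map (MulAut.conj t).toMonoidHom : Subgroup G) : Set G) := by
  apply mem_normalizer_of_map_conj_eq
  rw [map_conj_map_conj]
  have e : t * y * t⁻¹ * t = t * y := by group
  rw [e, ← map_conj_map_conj, map_conj_eq_of_mem_normalizer H hy]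

theorem map_conj_eq_of_le' {G : Type*} [Group G] [Finite G] (H : Subgroup G) (g : G)
    (h : H.map (MulAut.conj g).toMonoidHom ≤ H) : H.map (MulAut.conj g).toMonoidHom = H := by
  apply Subgroup.eq_of_le_of_card_ge h
  rw [card_map_conj]

/-- **S3014** -/
theorem normalClosure_inf_of_extremely_closed {G : Type u} [Group G] [Finite G]
    (H M : Subgroup G) (hHM : H ≤ M)
    (hcl : ∀ g : G, (H ⊔ H.map (MulAut.conj g).toMonoidHom) ⊓ M = H)
    (hmaxH : IsCoatom (H.subgroupOf M)) (hmaxM : IsCoatom M) :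
    Subgroup.normalClosure (H : Set G) ⊓ M = H := by
  classical
  -- reduction to the existence of a normal subgroup
  have red : (∃ L : Subgroup G, L.Normal ∧ H ≤ L ∧ ¬ M ≤ L) →
      Subgroup.normalClosure (H : Set G) ⊓ M = H := by
    rintro ⟨L, hLn, hHL, hML⟩
    have hNL : Subgroup.normalClosure (H : Set G) ≤ L := Subgroup.normalClosure_le_normal hHL
    apply le_antisymm
    · by_contra hne
      have h1 : H.subgroupOf M < (Subgroup.normalClosure (H : Set G) ⊓ M).subgroupOf M := by
        refine lt_of_le_of_ne ?_ ?_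
        · intro x hx
          rw [Subgroup.mem_subgroupOf] at hx ⊢
          exact Subgroup.mem_inf.2 ⟨Subgroup.subset_normalClosure hx, x.2⟩
        · intro e
          apply hne
          intro x hx
          have : (⟨x, (Subgroup.mem_inf.1 hx).2⟩ : ↥M) ∈
              (Subgroup.normalClosure (H : Set G) ⊓ M).subgroupOf M := by
            rw [Subgroup.mem_subgroupOf]; exact hx
          rw [← e, Subgroup.mem_subgroupOf] at this
          exact this
      have h2 := hmaxH.2 _ h1
      apply hML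
      intro m hm
      have : (⟨m, hm⟩ : ↥M) ∈ (Subgroup.normalClosure (H : Set G) ⊓ M).subgroupOf M := by
        rw [h2]; trivial
      rw [Subgroup.mem_subgroupOf] at this
      exact hNL (Subgroup.mem_inf.1 this).1
    · exact le_inf Subgroup.le_normalClosure hHM
  apply red
  have hHneM : ¬ M ≤ H := by
    intro h
    apply hmaxH.1
    rw [Subgroup.subgroupOf_eq_top]; exact h
  have ha : ∀ g : G, H.map (MulAut.conj g).toMonoidHom ≤ M →
      H.map (MulAut.conj g).toMonoidHom = H := by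
    intro g hg
    apply map_conj_eq_of_le'
    have h1 := hcl g
    rw [inf_eq_left.2 (sup_le hHM hg)] at h1
    exact le_sup_right.trans h1.le
  have hc : ∀ g : G, H.map (MulAut.conj g).toMonoidHom ⊓ M ≤ H := by
    intro g
    exact (inf_le_inf_right M le_sup_right).trans (hcl g).le
  have hb : M ≤ Subgroup.normalizer (H : Set G) := by
    intro m hm
    apply mem_normalizer_of_map_conj_eq
    apply ha
    rintro _ ⟨x, hx, rfl⟩
    exact M.mul_mem (M.mul_mem hm (hHM hx)) (M.inv_mem hm)
  by_cases hHn : Subgroup.normalizer (H : Set G) = ⊤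
  · exact ⟨H, Subgroup.normalizer_eq_top_iff.1 hHn, le_rfl, hHneM⟩
  have hNM : Subgroup.normalizer (H : Set G) = M := by
    by_contra hne
    exact hHn (hmaxM.2 _ (lt_of_le_of_ne hb (Ne.symm hne)))
  have hgM : ∀ g : G, H.map (MulAut.conj g).toMonoidHom ≤ M → g ∈ M := by
    intro g hg
    rw [← hNM]
    exact mem_normalizer_of_map_conj_eq H (ha g hg)
  by_cases hA : ∃ (g x : G), x ∈ M ∧ x ∉ H ∧ ¬ H.map (MulAut.conj g).toMonoidHom ≤ M ∧
      x ∈ Subgroup.normalizer ((H.map (MulAut.conj g).toMonoidHom : Subgroup G) : Set G)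
  · obtain ⟨g, x, hxM, hxH, hgM', hxN⟩ := hA
    obtain ⟨L, hL⟩ : ∃ L, L = H ⊔ H.map (MulAut.conj g).toMonoidHom := ⟨_, rfl⟩
    have hxL : Subgroup.zpowers x ≤ Subgroup.normalizer (L : Set G) := by
      rw [hL]
      exact le_normalizer_sup _ _ _ (Subgroup.zpowers_le.2 (hb hxM)) (Subgroup.zpowers_le.2 hxN)
    have hMle : M ≤ H ⊔ Subgroup.zpowers x := by
      have h1 : H.subgroupOf M < (H ⊔ Subgroup.zpowers x).subgroupOf M := by
        refine lt_of_le_of_ne ?_ ?_
        · intro y hy
          rw [Subgroup.mem_subgroupOf] at hy ⊢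
          exact Subgroup.mem_sup_left hy
        · intro e
          apply hxH
          have : (⟨x, hxM⟩ : ↥M) ∈ (H ⊔ Subgroup.zpowers x).subgroupOf M := by
            rw [Subgroup.mem_subgroupOf]
            exact Subgroup.mem_sup_right (Subgroup.mem_zpowers x)
          rw [← e, Subgroup.mem_subgroupOf] at this
          exact this
      have h2 := hmaxH.2 _ h1
      exact Subgroup.subgroupOf_eq_top.1 h2
    have htop : L ⊔ Subgroup.zpowers x = ⊤ := by
      apply hmaxM.2
      refine lt_of_le_of_ne ?_ ?_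
      · refine hMle.trans (sup_le_sup_right ?_ _)
        rw [hL]; exact le_sup_left
      · intro e
        apply hgM'
        rw [e]
        refine le_trans ?_ le_sup_left
        rw [hL]; exact le_sup_right
    have hLn : L.Normal := by
      rw [← Subgroup.normalizer_eq_top_iff, eq_top_iff, ← htop]
      exact sup_le Subgroup.le_normalizer hxL
    refine ⟨L, hLn, by rw [hL]; exact le_sup_left, ?_⟩
    intro hML
    apply hHneM
    have := hcl g
    rw [← hL, inf_eq_right.2 hML] at this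
    exact this.le
  · push Not at hA
    -- transfer
    have hHn' : (H.subgroupOf M).Normal :=
      (Subgroup.normal_subgroupOf_iff_le_normalizer hHM).2 hb
    obtain ⟨x₀, hx₀M, hx₀H⟩ := SetLike.not_le_iff_exists.1 hHneM
    have hsup : H.subgroupOf M ⊔ Subgroup.zpowers (⟨x₀, hx₀M⟩ : ↥M) = ⊤ := by
      apply hmaxH.2
      refine lt_of_le_of_ne le_sup_left ?_
      intro e
      apply hx₀H
      have : (⟨x₀, hx₀M⟩ : ↥M) ∈ H.subgroupOf M := by
        rw [e]; exact Subgroup.mem_sup_right (Subgroup.mem_zpowers _)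
      rw [Subgroup.mem_subgroupOf] at this
      exact this
    have hcommQ : ∀ a b : ↥M ⧸ H.subgroupOf M, a * b = b * a := by
      intro a b
      induction a using QuotientGroup.induction_on with
      | H a =>
      induction b using QuotientGroup.induction_on with
      | H b =>
      obtain ⟨n₁, hn₁, u₁, hu₁, rfl⟩ :=
        Cfsg.Agent.Lib.helper3.exists_mul_of_sup_eq_top (H.subgroupOf M) _ hsup a
      obtain ⟨n₂, hn₂, u₂, hu₂, rfl⟩ :=
        Cfsg.Agent.Lib.helper3.exists_mul_of_sup_eq_top (H.subgroupOf M) _ hsup b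
      obtain ⟨i, rfl⟩ := Subgroup.mem_zpowers_iff.1 hu₁
      obtain ⟨j, rfl⟩ := Subgroup.mem_zpowers_iff.1 hu₂
      have e1 : (QuotientGroup.mk n₁ : ↥M ⧸ H.subgroupOf M) = 1 :=
        (QuotientGroup.eq_one_iff n₁).2 hn₁
      have e2 : (QuotientGroup.mk n₂ : ↥M ⧸ H.subgroupOf M) = 1 :=
        (QuotientGroup.eq_one_iff n₂).2 hn₂
      rw [QuotientGroup.mk_mul, QuotientGroup.mk_mul, e1, e2, one_mul, one_mul,
        ← QuotientGroup.mk_mul, ← QuotientGroup.mk_mul, ← zpow_add, ← zpow_add, add_comm]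
    letI : CommGroup (↥M ⧸ H.subgroupOf M) :=
      { (inferInstance : Group (↥M ⧸ H.subgroupOf M)) with mul_comm := hcommQ }
    obtain ⟨V, hV⟩ : ∃ V : G →* ↥M ⧸ H.subgroupOf M,
        V = MonoidHom.transfer (QuotientGroup.mk' (H.subgroupOf M)) := ⟨_, rfl⟩
    refine ⟨V.ker, inferInstance, ?_, ?_⟩
    · intro h hh
      rw [MonoidHom.mem_ker, hV]
      apply transfer_eq_one_of_forall
      intro t n hm
      rw [QuotientGroup.mk'_apply, QuotientGroup.eq_one_iff, Subgroup.mem_subgroupOf]
      apply hc t⁻¹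
      refine Subgroup.mem_inf.2 ⟨⟨h ^ n, H.pow_mem hh n, ?_⟩, hm⟩
      show t⁻¹ * h ^ n * t⁻¹⁻¹ = t⁻¹ * h ^ n * t
      rw [inv_inv]
    · intro hML
      have hx₀ker := hML hx₀M
      rw [MonoidHom.mem_ker, hV,
        transfer_eq_of_forall_not_mem (QuotientGroup.mk' (H.subgroupOf M)) x₀ hx₀M] at hx₀ker
      · rw [QuotientGroup.mk'_apply, QuotientGroup.eq_one_iff, Subgroup.mem_subgroupOf] at hx₀ker
        exact hx₀H hx₀ker
      · intro t n hm htM
        rw [QuotientGroup.mk'_apply, QuotientGroup.eq_one_iff, Subgroup.mem_subgroupOf]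
        have hxn : x₀ ^ n ∈ H := by
          by_contra hxn
          refine hA t (x₀ ^ n) (M.pow_mem hx₀M n) hxn (fun hle => htM (hgM t hle)) ?_
          have := conj_mem_normalizer_map_conj H (hb hm) t
          have e : t * (t⁻¹ * x₀ ^ n * t) * t⁻¹ = x₀ ^ n := by group
          rwa [e] at this
        apply hc t⁻¹
        refine Subgroup.mem_inf.2 ⟨⟨x₀ ^ n, hxn, ?_⟩, hm⟩
        show t⁻¹ * x₀ ^ n * t⁻¹⁻¹ = t⁻¹ * x₀ ^ n * t
        rw [inv_inv]

end Cfsg.Agent.Lib.helper14
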