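import Cfsg.Agent.Lib.helper14.YCore
import Cfsg.Agent.Lib.helper14.Quadratic
import Cfsg.Agent.Lib.helper14.PGroupFrattini

set_option autoImplicit false

namespace Cfsg.Agent.Lib.helper14

open Cfsg
open scoped commutatorElement Pointwise

/-- A maximal subgroup of a finite `p`-group is normal of index `p`.
(copied from helper1's PGroup lib) -/
theorem coatom_normal_index' {G : Type*} [Group G] [Finite G] (p : ℕ) [Fact p.Prime]
    (hG : IsPGroup p G) (M : Subgroup G) (hM : IsCoatom M) : M.Normal ∧ M.index = p := by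
  have hp : p.Prime := Fact.out
  have : Group.IsNilpotent G := hG.isNilpotent
  have hn : M.Normal :=
    Subgroup.NormalizerCondition.normal_of_coatom M Group.normalizerCondition_of_isNilpotent hM
  refine ⟨hn, ?_⟩
  obtain ⟨k, hk⟩ := hG.index M
  have hk0 : k ≠ 0 := by
    rintro rfl
    rw [pow_zero] at hk
    exact hM.1 (Subgroup.index_eq_one.mp hk)
  have hdvd : p ^ 1 ∣ Nat.card (G ⧸ M) := by
    rw [← Subgroup.index_eq_card, hk, pow_one]
    exact dvd_pow_self p hk0
  obtain ⟨C, hC⟩ := Sylow.exists_subgroup_card_pow_prime p hdvd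
  have h1 : M ≤ C.comap (QuotientGroup.mk' M) := by
    intro x hx
    rw [Subgroup.mem_comap]
    have : QuotientGroup.mk' M x = 1 := (QuotientGroup.eq_one_iff x).mpr hx
    rw [this]
    exact C.one_mem
  have hsurj : Function.Surjective (QuotientGroup.mk' M) := QuotientGroup.mk'_surjective M
  rcases eq_or_lt_of_le h1 with h2 | h2
  · exfalso
    have h3 : C = ⊥ := by
      rw [← Subgroup.map_comap_eq_self_of_surjective hsurj C, ← h2]
      rw [Subgroup.map_eq_bot_iff, QuotientGroup.ker_mk']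
    rw [h3, Subgroup.card_bot, pow_one] at hC
    exact hp.one_lt.ne hC
  · have h3 := hM.2 _ h2
    have h4 : C = ⊤ := by
      rw [← Subgroup.map_comap_eq_self_of_surjective hsurj C, h3]
      exact Subgroup.map_top_of_surjective _ hsurj
    rw [h4, Subgroup.card_top, pow_one] at hC
    rw [Subgroup.index_eq_card]
    exact hC

/-- In a finite `p`-group the derived subgroup lies in the Frattini subgroup.
(after helper1's PGroup lib) -/
theorem commutator_le_frattini' {G : Type*} [Group G] [Finite G] (p : ℕ) [Fact p.Prime]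
    (hG : IsPGroup p G) : commutator G ≤ frattini G := by
  simp only [frattini, Order.radical, le_iInf_iff]
  intro M hM
  obtain ⟨hn, hidx⟩ := coatom_normal_index' p hG M hM
  have := hn
  have hcard : Nat.card (G ⧸ M) = p := by rw [← Subgroup.index_eq_card]; exact hidx
  have : IsCyclic (G ⧸ M) := isCyclic_of_prime_card hcard
  let _ : CommGroup (G ⧸ M) := IsCyclic.commGroup
  have := Abelianization.commutator_subset_ker (QuotientGroup.mk' M)
  rwa [QuotientGroup.ker_mk'] at this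

variable {G : Type*} [Group G]

/-- commutators of generators lying in a central subgroup -/
theorem commutator_closure_le_of_central (C : Subgroup G) (hC : C ≤ Subgroup.center G)
    (S T : Set G) (h : ∀ s ∈ S, ∀ t ∈ T, ⁅s, t⁆ ∈ C) :
    ⁅Subgroup.closure S, Subgroup.closure T⁆ ≤ C := by
  have hcen : ∀ c ∈ C, ∀ x : G, x * c * x⁻¹ = c := by
    intro c hc x
    have := Subgroup.mem_center_iff.1 (hC hc) x
    rw [this, mul_inv_cancel_right]
  have step1 : ∀ t ∈ T, ∀ s ∈ Subgroup.closure S, ⁅s, t⁆ ∈ C := by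
    intro t ht s hs
    induction hs using Subgroup.closure_induction with
    | mem x hx => exact h x hx t ht
    | one => simp
    | mul a b _ _ iha ihb =>
      have h1 : ⁅a * b, t⁆ = a * ⁅b, t⁆ * a⁻¹ * ⁅a, t⁆ := by
        simp only [commutatorElement_def]; group
      rw [h1, hcen _ ihb a]
      exact C.mul_mem ihb iha
    | inv a _ iha =>
      have h1 : ⁅a⁻¹, t⁆ = a⁻¹ * ⁅a, t⁆⁻¹ * a⁻¹⁻¹ := by
        simp only [commutatorElement_def]; group
      rw [h1, hcen _ (C.inv_mem iha) a⁻¹]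
      exact C.inv_mem iha
  rw [Subgroup.commutator_le]
  intro s hs t ht
  induction ht using Subgroup.closure_induction with
  | mem x hx => exact step1 x hx s hs
  | one => simp
  | mul a b _ _ iha ihb =>
    have h1 : ⁅s, a * b⁆ = ⁅s, a⁆ * (a * ⁅s, b⁆ * a⁻¹) := by
      simp only [commutatorElement_def]; group
    rw [h1, hcen _ ihb a]
    exact C.mul_mem iha ihb
  | inv a _ iha =>
    have h1 : ⁅s, a⁻¹⁆ = a⁻¹ * ⁅s, a⁆⁻¹ * a⁻¹⁻¹ := by
      simp only [commutatorElement_def]; group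
    rw [h1, hcen _ (C.inv_mem iha) a⁻¹]
    exact C.inv_mem iha

theorem le_normalizer_sup_of_conj (K B B' : Subgroup G)
    (h1 : ∀ k ∈ K, ∀ b ∈ B, k * b * k⁻¹ ∈ B ⊔ B')
    (h2 : ∀ k ∈ K, ∀ b ∈ B', k * b * k⁻¹ ∈ B ⊔ B') :
    K ≤ Subgroup.normalizer ((B ⊔ B' : Subgroup G) : Set G) := by
  apply le_normalizer_of_conj_mem
  intro k hk x hx
  have hle : B ⊔ B' ≤ (B ⊔ B').comap (MulAut.conj k).toMonoidHom := by
    apply sup_le
    · intro b hb; exact h1 k hk b hb
    · intro b hb; exact h2 k hk b hb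
  exact hle hx

end Cfsg.Agent.Lib.helper14

namespace Cfsg.Agent.Lib.helper14

open Cfsg
open scoped commutatorElement Pointwise

variable {G : Type*} [Group G]

theorem yMinimal_charP [Finite G] {p : ℕ} [Fact p.Prime]
    (hchar : Subgroup.centralizer (pCore p G : Set G) ≤ pCore p G) (L₀ : Subgroup G)
    (hL₀ : IsCoatom L₀) (Y : Subgroup G) (hYL₀ : Y ≤ L₀) (hYel : IsElementaryAbelian p Y)
    (hmin : IsMinimalOver Y) (hOY : pCore p G ≤ Subgroup.normalizer (Y : Set G))
    (A : Subgroup G) (hA : A = Subgroup.normalClosure (((pCore p G ⊓ Y : Subgroup G)) : Set G))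
    (g : G) (hg : g ∉ L₀) :
    (frattini ↥A).map A.subtype = ⁅A, A⁆ ∧ ⁅A, A⁆ = ⁅A ⊓ Y, A⁆ ∧
    ⁅A ⊓ Y, A⁆ = ⁅A ⊓ Y, A ⊓ Y.map (MulAut.conj g).toMonoidHom⁆ ∧
    ⁅A ⊓ Y, A⁆ ≤ Y ⊓ Subgroup.center G ∧
    Y ⊓ Y.map (MulAut.conj g).toMonoidHom = Y ⊓ Subgroup.center G ∧
    (A ⊓ Y) ⊓ (A ⊓ Y.map (MulAut.conj g).toMonoidHom) = Y ⊓ Subgroup.center G ∧
    A ⊓ Subgroup.center G = Y ⊓ Subgroup.center G := by
  have hp : p.Prime := Fact.out
  set Q : Subgroup G := pCore p G with hQ
  have hQn : Q.Normal := pCore_normal' p G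
  have hQp : IsPGroup p Q := isPGroup_pCore p G
  set Y' : Subgroup G := Y.map (MulAut.conj g).toMonoidHom with hY'
  obtain ⟨hYc, hYe⟩ := hYel
  have hYp : IsPGroup p Y := by
    intro y
    refine ⟨1, ?_⟩
    apply Subtype.ext
    simpa using hYe y.1 y.2
  have hYp' : IsPGroup p (Y.subgroupOf L₀) := hYp.comap_subtype
  obtain ⟨T, hT⟩ := hYp'.exists_le_sylow
  have hYT : Y ≤ (T : Subgroup ↥L₀).map L₀.subtype := by
    intro y hy
    exact ⟨⟨y, hYL₀ hy⟩, hT (Subgroup.mem_subgroupOf.2 hy), rfl⟩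
  obtain ⟨-, -, -, -, h5, h6⟩ := yMinimal_with_maximal L₀ hL₀ T Y hYT hmin
  have htop : Y ⊔ Y' = ⊤ := h5 g hg
  have hint : Y ⊓ Y' = Y ⊓ Subgroup.center G := h6 hYc g hg
  have hZQ : Subgroup.center G ≤ Q := (Subgroup.center_le_centralizer _).trans hchar
  set B : Subgroup G := Q ⊓ Y with hB
  have hAQ : A ≤ Q := by
    rw [hA]; exact Subgroup.normalClosure_le_normal inf_le_left
  have hBA : B ≤ A := by rw [hA]; exact Subgroup.le_normalClosure
  have hAn : A.Normal := by rw [hA]; exact Subgroup.normalClosure_normal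
  have hAY : A ⊓ Y = B := le_antisymm (inf_le_inf_right Y hAQ) (le_inf hBA inf_le_right)
  have hgQ : Q.map (MulAut.conj g).toMonoidHom = Q :=
    map_conj_eq_of_mem_normalizer Q (by rw [Subgroup.normalizer_eq_top_iff.2 hQn]; trivial)
  set B' : Subgroup G := Q ⊓ Y' with hB'
  have hB'map : B' = B.map (MulAut.conj g).toMonoidHom := by
    rw [hB, Subgroup.map_inf _ _ _ (MulAut.conj g).injective, hgQ]
  have hB'A : B' ≤ A := by
    rw [hB'map]
    rintro _ ⟨b, hb, rfl⟩
    exact hAn.conj_mem b (hBA hb) g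
  have hAY' : A ⊓ Y' = B' := le_antisymm (inf_le_inf_right Y' hAQ) (le_inf hB'A inf_le_right)
  have hQY' : Q ≤ Subgroup.normalizer (Y' : Set G) := by
    calc Q = Q.map (MulAut.conj g).toMonoidHom := hgQ.symm
      _ ≤ (Subgroup.normalizer (Y : Set G)).map (MulAut.conj g).toMonoidHom :=
          Subgroup.map_mono hOY
      _ = Subgroup.normalizer (Y' : Set G) := Subgroup.map_equiv_normalizer_eq Y (MulAut.conj g)
  have hcomm : ∀ (Y₁ : Subgroup G), Q ≤ Subgroup.normalizer (Y₁ : Set G) →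
      ∀ q ∈ Q, ∀ y ∈ Y₁, ⁅q, y⁆ ∈ Q ⊓ Y₁ := by
    intro Y₁ hN q hq y hy
    refine Subgroup.mem_inf.2 ⟨?_, ?_⟩
    · have : ⁅q, y⁆ = q * (y * q⁻¹ * y⁻¹) := by simp only [commutatorElement_def]; group
      rw [this]
      exact Q.mul_mem hq (hQn.conj_mem _ (Q.inv_mem hq) y)
    · have : ⁅q, y⁆ = (q * y * q⁻¹) * y⁻¹ := by simp only [commutatorElement_def]
      rw [this]
      exact Y₁.mul_mem ((Subgroup.mem_normalizer_iff.1 (hN hq) y).1 hy) (Y₁.inv_mem hy)
  have hYab : ∀ a ∈ Y, ∀ b ∈ Y, a * b = b * a := fun a ha b hb =>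
    congrArg Subtype.val (hYc.is_comm.comm ⟨a, ha⟩ ⟨b, hb⟩)
  have hY'ab : ∀ a ∈ Y', ∀ b ∈ Y', a * b = b * a := by
    rintro _ ⟨a, ha, rfl⟩ _ ⟨b, hb, rfl⟩
    simp only [MulEquiv.coe_toMonoidHom, MulAut.conj_apply]
    calc g * a * g⁻¹ * (g * b * g⁻¹) = g * (a * b) * g⁻¹ := by group
      _ = g * (b * a) * g⁻¹ := by rw [hYab a ha b hb]
      _ = g * b * g⁻¹ * (g * a * g⁻¹) := by group
  have hY'e : ∀ c ∈ Y', c ^ p = 1 := by
    rintro _ ⟨y, hy, rfl⟩
    rw [← map_pow, hYe y hy, map_one]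
  have hconj : ∀ y b : G, y * b * y⁻¹ = ⁅b, y⁆⁻¹ * b := by
    intro y b; simp only [commutatorElement_def]; group
  have hSn : (B ⊔ B').Normal := by
    rw [← Subgroup.normalizer_eq_top_iff, eq_top_iff, ← htop]
    apply sup_le
    · apply le_normalizer_sup_of_conj
      · intro y hy b hb
        have : y * b * y⁻¹ = b := by rw [hYab y hy b (Subgroup.mem_inf.1 hb).2, mul_inv_cancel_right]
        rw [this]; exact Subgroup.mem_sup_left hb
      · intro y hy b hb
        have h1 : ⁅b, y⁆ ∈ B := hcomm Y hOY b (Subgroup.mem_inf.1 hb).1 y hy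
        rw [hconj]
        exact Subgroup.mul_mem _ (Subgroup.mem_sup_left (B.inv_mem h1)) (Subgroup.mem_sup_right hb)
    · apply le_normalizer_sup_of_conj
      · intro y hy b hb
        have h1 : ⁅b, y⁆ ∈ B' := hcomm Y' hQY' b (Subgroup.mem_inf.1 hb).1 y hy
        rw [hconj]
        exact Subgroup.mul_mem _ (Subgroup.mem_sup_right (B'.inv_mem h1)) (Subgroup.mem_sup_left hb)
      · intro y hy b hb
        have : y * b * y⁻¹ = b := by
          rw [hY'ab y hy b (Subgroup.mem_inf.1 hb).2, mul_inv_cancel_right]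
        rw [this]; exact Subgroup.mem_sup_right hb
  have hAeq : A = B ⊔ B' := by
    apply le_antisymm
    · rw [hA]
      exact Subgroup.normalClosure_le_normal (N := B ⊔ B')
        (fun x hx => Subgroup.mem_sup_left hx)
    · exact sup_le hBA hB'A
  have hQB : Q ≤ Subgroup.normalizer (B : Set G) := by
    apply le_normalizer_of_conj_mem
    intro q hq x hx
    exact Subgroup.mem_inf.2 ⟨Q.mul_mem (Q.mul_mem hq (Subgroup.mem_inf.1 hx).1) (Q.inv_mem hq),
      (Subgroup.mem_normalizer_iff.1 (hOY hq) x).1 (Subgroup.mem_inf.1 hx).2⟩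
  have hQB' : Q ≤ Subgroup.normalizer (B' : Set G) := by
    apply le_normalizer_of_conj_mem
    intro q hq x hx
    exact Subgroup.mem_inf.2 ⟨Q.mul_mem (Q.mul_mem hq (Subgroup.mem_inf.1 hx).1) (Q.inv_mem hq),
      (Subgroup.mem_normalizer_iff.1 (hQY' hq) x).1 (Subgroup.mem_inf.1 hx).2⟩
  have hC : ⁅B, B'⁆ ≤ B ⊓ B' := by
    rw [Subgroup.commutator_le]
    intro b hb b' hb'
    refine Subgroup.mem_inf.2 ⟨?_, ?_⟩
    · have : ⁅b, b'⁆ = b * (b' * b⁻¹ * b'⁻¹) := by simp only [commutatorElement_def]; group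
      rw [this]
      exact B.mul_mem hb
        ((Subgroup.mem_normalizer_iff.1 (hQB (Subgroup.mem_inf.1 hb').1) _).1 (B.inv_mem hb))
    · have : ⁅b, b'⁆ = (b * b' * b⁻¹) * b'⁻¹ := by simp only [commutatorElement_def]
      rw [this]
      exact B'.mul_mem ((Subgroup.mem_normalizer_iff.1 (hQB' (Subgroup.mem_inf.1 hb).1) _).1 hb')
        (B'.inv_mem hb')
  have hBB' : B ⊓ B' ≤ Y ⊓ Subgroup.center G := by
    rw [← hint]; exact inf_le_inf inf_le_right inf_le_right
  have hCcen : ⁅B, B'⁆ ≤ Subgroup.center G := hC.trans (hBB'.trans inf_le_right)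
  have hAA : ⁅A, A⁆ ≤ ⁅B, B'⁆ := by
    rw [hAeq, Subgroup.sup_eq_closure]
    apply commutator_closure_le_of_central _ hCcen
    rintro s (hs | hs) t (ht | ht)
    · have : ⁅s, t⁆ = 1 := by
        rw [commutatorElement_eq_one_iff_mul_comm]
        exact hYab s (Subgroup.mem_inf.1 hs).2 t (Subgroup.mem_inf.1 ht).2
      rw [this]; exact Subgroup.one_mem _
    · exact Subgroup.commutator_mem_commutator hs ht
    · have : ⁅s, t⁆ = ⁅t, s⁆⁻¹ := (commutatorElement_inv t s).symm
      rw [this]; exact Subgroup.inv_mem _ (Subgroup.commutator_mem_commutator ht hs)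
    · have : ⁅s, t⁆ = 1 := by
        rw [commutatorElement_eq_one_iff_mul_comm]
        exact hY'ab s (Subgroup.mem_inf.1 hs).2 t (Subgroup.mem_inf.1 ht).2
      rw [this]; exact Subgroup.one_mem _
  have e1 : ⁅B, B'⁆ ≤ ⁅B, A⁆ := Subgroup.commutator_mono le_rfl hB'A
  have e2 : ⁅B, A⁆ ≤ ⁅A, A⁆ := Subgroup.commutator_mono hBA le_rfl
  have hAA_eq : ⁅A, A⁆ = ⁅B, A⁆ := le_antisymm (hAA.trans e1) e2
  have hBA_eq : ⁅B, A⁆ = ⁅B, B'⁆ := le_antisymm (e2.trans hAA) e1
  have hYZB : Y ⊓ Subgroup.center G ≤ B := le_inf (inf_le_right.trans hZQ) inf_le_left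
  have hYZB' : Y ⊓ Subgroup.center G ≤ B' :=
    le_inf (inf_le_right.trans hZQ) (hint.symm.le.trans inf_le_right)
  have hB'NB : B' ≤ Subgroup.normalizer (B : Set G) := inf_le_left.trans hQB
  have hAp : IsPGroup p A := hQp.to_le hAQ
  have hfr : frattini ↥A = commutator ↥A := by
    apply le_antisymm
    · apply frattini_le_of_elementary_quotient' p (commutator ↥A) le_rfl
      intro x
      have hx : (x : G) ∈ B ⊔ B' := by rw [← hAeq]; exact x.2
      rw [← SetLike.mem_coe, Subgroup.coe_mul_of_right_le_normalizer_left B B' hB'NB] at hx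
      obtain ⟨b, hb, c, hc, hbc⟩ := Set.mem_mul.1 hx
      have hxe : x = ⟨b, hBA hb⟩ * ⟨c, hB'A hc⟩ := Subtype.ext hbc.symm
      have h1 : (⟨b, hBA hb⟩ : A) ^ p = 1 :=
        Subtype.ext (by simpa using hYe b (Subgroup.mem_inf.1 hb).2)
      have h2 : (⟨c, hB'A hc⟩ : A) ^ p = 1 :=
        Subtype.ext (by simpa using hY'e c (Subgroup.mem_inf.1 hc).2)
      rw [← Abelianization.ker_of, MonoidHom.mem_ker, map_pow, hxe, map_mul, mul_pow,
        ← map_pow, ← map_pow, h1, h2, map_one, one_mul]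
    · exact commutator_le_frattini' p hAp
  refine ⟨?_, ?_, ?_, ?_, hint, ?_, ?_⟩
  · rw [hfr, Subgroup.map_subtype_commutator]
  · rw [hAY]; exact hAA_eq
  · rw [hAY, hAY']; exact hBA_eq
  · rw [hAY, hBA_eq]; exact hC.trans hBB'
  · rw [hAY, hAY']; exact le_antisymm hBB' (le_inf hYZB hYZB')
  · apply le_antisymm
    · intro z hz
      obtain ⟨hzA, hzZ⟩ := Subgroup.mem_inf.1 hz
      rw [hAeq, ← SetLike.mem_coe, Subgroup.coe_mul_of_right_le_normalizer_left B B' hB'NB] at hzA
      obtain ⟨b, hb, c, hc, rfl⟩ := Set.mem_mul.1 hzA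
      have hbY : b ∈ Y := (Subgroup.mem_inf.1 hb).2
      have hcY' : c ∈ Y' := (Subgroup.mem_inf.1 hc).2
      have hcen : Y ⊔ Y' ≤ Subgroup.centralizer ({c} : Set G) := by
        apply sup_le
        · intro y hy
          rw [Subgroup.mem_centralizer_iff]
          intro w hw
          rw [Set.mem_singleton_iff] at hw
          subst hw
          have h1 := Subgroup.mem_center_iff.1 hzZ y
          have h2 := hYab y hy b hbY
          have h3 : b * (y * w) = b * (w * y) := by
            calc b * (y * w) = y * (b * w) := by rw [← mul_assoc, ← h2, mul_assoc]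
              _ = b * w * y := h1
              _ = b * (w * y) := mul_assoc _ _ _
          exact (mul_left_cancel h3).symm
        · intro y hy
          rw [Subgroup.mem_centralizer_iff]
          intro w hw
          rw [Set.mem_singleton_iff] at hw
          subst hw
          exact hY'ab w hcY' y hy
      rw [htop] at hcen
      have hcZ : c ∈ Subgroup.center G := by
        rw [Subgroup.mem_center_iff]
        intro w
        exact (Subgroup.mem_centralizer_iff.1 (hcen (Subgroup.mem_top w)) c rfl).symm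
      have hcY : c ∈ Y := by
        obtain ⟨y₀, hy₀, hc_eq⟩ := hcY'
        have h1 : g * y₀ * g⁻¹ = c := hc_eq
        have h2 : y₀ = c := by
          have h3 := Subgroup.mem_center_iff.1 hcZ g
          have : y₀ = g⁻¹ * c * g := by rw [← h1]; group
          rw [this, mul_assoc, ← h3, inv_mul_cancel_left]
        rw [← h2]; exact hy₀
      exact Subgroup.mem_inf.2 ⟨Y.mul_mem hbY hcY, hzZ⟩
    · exact le_inf (hYZB.trans hBA) inf_le_right

end Cfsg.Agent.Lib.helper14
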