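import Cfsg.Agent.Lib.helper14.QuadSL2
import Cfsg.Agent.Lib.helper15.ZJL
import Cfsg.Agent.Lib.helper15.ZJFun
import Cfsg.Agent.Lib.helper10.SFCore
import Cfsg.Agent.Lib.helper10.LocalGlobal2
import Cfsg.Agent.S1969

/-!
# `Z(J)` controls strong fusion in `SL₂(p)`-free groups (library, seat helper14)
-/

set_option autoImplicit false
set_option linter.style.haveILetI false
set_option linter.unusedVariables false
set_option linter.unusedSectionVars false

namespace Cfsg.Agent.Lib.helper14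

open Cfsg Cfsg.Agent.Lib.helper10 Cfsg.Agent.Lib.helper15

universe u

/-- `Z(J(·))` as a functor on groups -/
noncomputable def zjW : ∀ (Q : Type u) [Group Q], Subgroup Q :=
  fun Q _ => Cfsg.centerThompsonAOf (⊤ : Subgroup Q)

theorem zjW_isChar (p : ℕ) [Fact p.Prime] : Cfsg.IsCharPFunctor.{u} p zjW := by
  refine ⟨?_, ?_⟩
  · intro Q _ _ hQ hnt
    exact centerThompsonAOf_ne_bot (⊤ : Subgroup Q) (hQ.to_subgroup ⊤) top_ne_bot
  · intro Q R _ _ _ hQ φ
    haveI : Finite R := Finite.of_equiv Q φ.toEquiv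
    have h1 := centerThompsonAOf_map φ.toMonoidHom φ.injective (⊤ : Subgroup Q)
    rw [Subgroup.map_top_of_surjective φ.toMonoidHom φ.surjective] at h1
    exact h1.symm

theorem inducedFunctor_zjW {X : Type u} [Group X] [Finite X] (T : Subgroup X) :
    Cfsg.inducedFunctor (G := X) zjW T = Cfsg.centerThompsonAOf T := by
  have h1 := centerThompsonAOf_map T.subtype T.subtype_injective (⊤ : Subgroup ↥T)
  rw [top_map_subtype] at h1
  exact h1.symm

theorem zj_isConjugacyFunctor {X : Type u} [Group X] [Finite X] (p : ℕ) [Fact p.Prime] :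
    Cfsg.IsConjugacyFunctor p (fun H : Subgroup X => Cfsg.centerThompsonAOf H) := by
  intro P hP
  exact ⟨centerThompsonAOf_le P, centerThompsonAOf_ne_bot P hP,
    fun g => centerThompsonAOf_map (MulAut.conj g).toMonoidHom (MulAut.conj g).injective P⟩

/-- In an `SL₂(p)`-free group (`p` odd), `N(Z(J(S)))` controls strong fusion in the Sylow
`p`-subgroup `S`. -/
theorem zj_strong_fusion_of_free {p : ℕ} [Fact p.Prime] (hp : p ≠ 2) {X : Type u} [Group X]
    [Finite X] (hfree : ¬ Cfsg.Involves (Matrix.SpecialLinearGroup (Fin 2) (ZMod p)) X)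
    (S₁ : Sylow p X) (A : Set X) (g : X) (hA : A ⊆ (S₁ : Subgroup X))
    (hgA : ∀ a ∈ A, g * a * g⁻¹ ∈ (S₁ : Subgroup X)) :
    ∃ c ∈ Subgroup.normalizer ((Cfsg.centerThompsonAOf (S₁ : Subgroup X) : Subgroup X) : Set X),
      ∀ a ∈ A, c * a * c⁻¹ = g * a * g⁻¹ := by
  have h𝓦 : ∀ W' ∈ ({zjW} : Set (∀ (Q : Type u) [Group Q], Subgroup Q)),
      Cfsg.IsCharPFunctor.{u} p W' := by
    intro W' hW'
    rw [Set.mem_singleton_iff] at hW'
    rw [hW']; exact zjW_isChar p
  have hloc : ∀ (K R : Subgroup X) [hR : (R.subgroupOf K).Normal],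
      Subgroup.centralizer ((pCore p (↥K ⧸ R.subgroupOf K) : Subgroup (↥K ⧸ R.subgroupOf K)) :
        Set (↥K ⧸ R.subgroupOf K)) ≤ pCore p (↥K ⧸ R.subgroupOf K) →
      ∀ T : Sylow p (↥K ⧸ R.subgroupOf K),
        (Cfsg.inducedFunctor (G := (↥K ⧸ R.subgroupOf K)) zjW
          ((T : Subgroup (↥K ⧸ R.subgroupOf K)))).Normal := by
    intro K R hR hC T
    rw [inducedFunctor_zjW]
    have hst : Cfsg.IsNormalizerPStable p (↥K ⧸ R.subgroupOf K) := by
      apply normalizerPStable_of_free hp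
      intro Pb hPb hPbne hinv
      obtain ⟨P, hP, hPne, hinv'⟩ := involves_normalizer_of_section K R Pb hPb hPbne hinv
      exact hfree (involves_of_injective (Subgroup.normalizer (P : Set X)).subtype
        (Subgroup.subtype_injective _) hinv')
    exact zj_normal_ab hp T (T : Subgroup (↥K ⧸ R.subgroupOf K)) ⟨le_rfl, fun x hx g hg => hg⟩
      (zstab_of_normalizerPStable hst) hC
  have hcon : ∀ (K R : Subgroup X) [hR : (R.subgroupOf K).Normal],
      Subgroup.centralizer ((pCore p (↥K ⧸ R.subgroupOf K) : Subgroup (↥K ⧸ R.subgroupOf K)) :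
        Set (↥K ⧸ R.subgroupOf K)) ≤ pCore p (↥K ⧸ R.subgroupOf K) →
      FamilyControlsStrongFusionIn p
        ((fun W => inducedFunctor (G := ↥K ⧸ R.subgroupOf K) W) ''
          ({zjW} : Set (∀ (Q : Type u) [Group Q], Subgroup Q))) ⊤ := by
    intro K₁ R₁ hR₁ hC
    obtain ⟨S⟩ : Nonempty (Sylow p (↥K₁ ⧸ R₁.subgroupOf K₁)) := inferInstance
    apply control_of_chainGood _ S
    intro A g hA hgA
    refine ChainGood.single ⟨zjW, rfl, ?_⟩ hA hgA
    have hn := hloc K₁ R₁ hC S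
    rw [Subgroup.normalizer_eq_top_iff.mpr hn]
    exact Subgroup.mem_top _
  have hc := strong_fusion_sections ({zjW} : Set (∀ (Q : Type u) [Group Q], Subgroup Q)) h𝓦 hcon
  have hX := sf_control_of_top_bot ({zjW} : Set (∀ (Q : Type u) [Group Q], Subgroup Q)) h𝓦
    (fun K R hR => hc _ K R rfl)
  obtain ⟨c, hch, hca⟩ := chainGood_of_control _ h𝓦 S₁ ⊤ le_top hX A g (Subgroup.mem_top _) hA hgA
  refine ⟨c, Cfsg.Agent.S1969.fchain_mem_subgroup _ ?_ hch, hca⟩
  rintro z ⟨W', hW', hz⟩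
  rw [Set.mem_singleton_iff] at hW'
  rw [hW', inducedFunctor_zjW] at hz
  exact hz

/-- a section of a subgroup `M`, read inside the ambient group -/
theorem exists_section_of_involves_subgroup {G : Type*} [Group G] {Q : Type*} [Group Q]
    (M : Subgroup G) (h : Cfsg.Involves Q ↥M) :
    ∃ (H' K' : Subgroup G) (hK : (K'.subgroupOf H').Normal), H' ≤ M ∧
      Nonempty ((H' ⧸ K'.subgroupOf H') ≃* Q) := by
  obtain ⟨K₀, R₀, hn, ⟨e⟩⟩ := h
  obtain ⟨f, hf⟩ : ∃ f : ↥(K₀.map M.subtype) →* Q, Function.Surjective f :=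
    ⟨(e.toMonoidHom.comp (QuotientGroup.mk' (R₀.subgroupOf K₀))).comp
      (K₀.equivMapOfInjective M.subtype M.subtype_injective).symm.toMonoidHom,
     (e.surjective.comp (QuotientGroup.mk'_surjective _)).comp
      (K₀.equivMapOfInjective M.subtype M.subtype_injective).symm.surjective⟩
  have h1 : (f.ker.map (K₀.map M.subtype).subtype).subgroupOf (K₀.map M.subtype) = f.ker :=
    Subgroup.comap_map_eq_self_of_injective (Subgroup.subtype_injective _) _
  have hN : ((f.ker.map (K₀.map M.subtype).subtype).subgroupOf (K₀.map M.subtype)).Normal := by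
    rw [h1]; infer_instance
  exact ⟨K₀.map M.subtype, f.ker.map (K₀.map M.subtype).subtype, hN, Subgroup.map_subtype_le _,
    ⟨(QuotientGroup.quotientMulEquivOfEq h1).trans
      (QuotientGroup.quotientKerEquivOfSurjective f hf)⟩⟩

/-- **Local version.**  If `N_G(P)` is `SL₂(p)`-free for all `Z(S) ≤ P ≤ S` (`p` odd), then
`N(Z(J(S)))` controls strong fusion in `S`. -/
theorem zj_controls_strong_fusion_local {p : ℕ} [Fact p.Prime] (hp : p ≠ 2) {G : Type u} [Group G]
    [Finite G] (S : Sylow p G)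
    (hfree : ∀ P : Subgroup G,
      (S : Subgroup G) ⊓ Subgroup.centralizer ((S : Subgroup G) : Set G) ≤ P → P ≤ S →
      ¬ Cfsg.Involves (Matrix.SpecialLinearGroup (Fin 2) (ZMod p))
        ↥(Subgroup.normalizer (P : Set G))) :
    ∀ (A : Set G) (g : G), A ⊆ (S : Subgroup G) → (∀ a ∈ A, g * a * g⁻¹ ∈ (S : Subgroup G)) →
      ∃ n ∈ Subgroup.normalizer ((Cfsg.centerThompsonAOf (S : Subgroup G) : Subgroup G) : Set G),
        ∀ a ∈ A, n * a * n⁻¹ = g * a * g⁻¹ := by
  refine local_to_global_centric S (fun H : Subgroup G => Cfsg.centerThompsonAOf H)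
    (zj_isConjugacyFunctor p) (fun H _ => center_le_centerThompsonAOf H)
    (fun A g => ∃ n ∈ Subgroup.normalizer
      ((Cfsg.centerThompsonAOf (S : Subgroup G) : Subgroup G) : Set G),
        ∀ a ∈ A, n * a * n⁻¹ = g * a * g⁻¹) ?_ ?_ ?_ ?_ ?_ ?_ ?_
  · -- refl
    intro A _
    exact ⟨1, Subgroup.one_mem _, fun a _ => rfl⟩
  · -- congr
    rintro A g g' ⟨n, hn, hna⟩ hgg'
    exact ⟨n, hn, fun a ha => (hna a ha).trans (hgg' a ha)⟩
  · -- mono
    rintro A A' g ⟨n, hn, hna⟩ hAA'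
    exact ⟨n, hn, fun a ha => hna a (hAA' ha)⟩
  · -- trans
    rintro A g k ⟨n₁, hn₁, hna₁⟩ ⟨n₂, hn₂, hna₂⟩
    refine ⟨n₂ * n₁, Subgroup.mul_mem _ hn₂ hn₁, fun a ha => ?_⟩
    have h1 := hna₁ a ha
    have h2 := hna₂ (g * a * g⁻¹) ⟨a, ha, rfl⟩
    calc n₂ * n₁ * a * (n₂ * n₁)⁻¹ = n₂ * (n₁ * a * n₁⁻¹) * n₂⁻¹ := by group
      _ = n₂ * (g * a * g⁻¹) * n₂⁻¹ := by rw [h1]
      _ = k * (g * a * g⁻¹) * k⁻¹ := h2
      _ = k * g * a * (k * g)⁻¹ := by group
  · -- symm
    rintro A g ⟨n, hn, hna⟩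
    refine ⟨n⁻¹, Subgroup.inv_mem _ hn, ?_⟩
    rintro _ ⟨a, ha, rfl⟩
    have h1 := hna a ha
    calc n⁻¹ * (g * a * g⁻¹) * n⁻¹⁻¹ = n⁻¹ * (n * a * n⁻¹) * n⁻¹⁻¹ := by rw [h1]
      _ = a := by group
      _ = g⁻¹ * (g * a * g⁻¹) * g⁻¹⁻¹ := by group
  · -- base
    intro A y _ hy _
    exact ⟨y, hy, fun a _ => rfl⟩
  · -- local step
    intro T hTS hTne hTH hidx A x hA hx hxA IH
    obtain ⟨H, v, hZH, hHS, hHT⟩ := hTH
    have hNfree : ¬ Cfsg.Involves (Matrix.SpecialLinearGroup (Fin 2) (ZMod p))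
        ↥(Subgroup.normalizer (T : Set G)) := by
      intro hinv
      apply hfree H hZH hHS
      have hTH' : T.map (MulAut.conj v⁻¹).toMonoidHom = H := by
        rw [← hHT, Subgroup.map_map]
        have : (MulAut.conj v⁻¹).toMonoidHom.comp (MulAut.conj v).toMonoidHom = MonoidHom.id G := by
          ext y; simp; group
        rw [this, Subgroup.map_id]
      have hmem : ∀ n : ↥(Subgroup.normalizer (T : Set G)),
          ((MulAut.conj v⁻¹).toMonoidHom.comp (Subgroup.normalizer (T : Set G)).subtype) n ∈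
            Subgroup.normalizer (H : Set G) := by
        intro n
        have h1 := Subgroup.le_normalizer_map (MulAut.conj v⁻¹).toMonoidHom (H := T)
          ⟨(n : G), n.2, rfl⟩
        rw [hTH'] at h1
        exact h1
      refine involves_of_injective
        (((MulAut.conj v⁻¹).toMonoidHom.comp
          (Subgroup.normalizer (T : Set G)).subtype).codRestrict _ hmem) ?_ hinv
      intro a b hab
      have h3 := congrArg Subtype.val hab
      exact Subtype.ext ((MulAut.conj v⁻¹).injective h3)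
    have hle : nS (S : Subgroup G) T ≤ Subgroup.normalizer (T : Set G) := inf_le_right
    have hp1 : IsPGroup p ↥((nS (S : Subgroup G) T).subgroupOf (Subgroup.normalizer (T : Set G))) :=
      (S.2.to_le inf_le_left).comap_subtype
    obtain ⟨S₁, hS₁⟩ : ∃ S₁ : Sylow p ↥(Subgroup.normalizer (T : Set G)),
        (S₁ : Subgroup ↥(Subgroup.normalizer (T : Set G))) =
          (nS (S : Subgroup G) T).subgroupOf (Subgroup.normalizer (T : Set G)) :=
      ⟨hp1.toSylow hidx, hp1.toSylow_coe hidx⟩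
    have hmapS : (S₁ : Subgroup ↥(Subgroup.normalizer (T : Set G))).map
        (Subgroup.normalizer (T : Set G)).subtype = nS (S : Subgroup G) T := by
      rw [hS₁, Subgroup.map_subgroupOf_eq_of_le hle]
    obtain ⟨c', hc'N, hc'a⟩ := zj_strong_fusion_of_free hp hNfree S₁
      (Subtype.val ⁻¹' A) ⟨x, hx⟩
      (fun a' ha' => by
        rw [SetLike.mem_coe, hS₁, Subgroup.mem_subgroupOf]
        exact hA ha')
      (fun a' ha' => by
        rw [hS₁, Subgroup.mem_subgroupOf]
        exact hxA (a' : G) ha')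
    have hcN : (c' : G) ∈ Subgroup.normalizer
        ((Cfsg.centerThompsonAOf (nS (S : Subgroup G) T) : Subgroup G) : Set G) := by
      have h1 := Subgroup.le_normalizer_map (Subgroup.normalizer (T : Set G)).subtype
        (H := Cfsg.centerThompsonAOf (S₁ : Subgroup ↥(Subgroup.normalizer (T : Set G))))
        ⟨c', hc'N, rfl⟩
      rw [← centerThompsonAOf_map _ (Subgroup.subtype_injective _), hmapS] at h1
      exact h1
    have hca : ∀ a ∈ A, (c' : G) * a * (c' : G)⁻¹ = x * a * x⁻¹ := by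
      intro a ha
      have haN : a ∈ Subgroup.normalizer (T : Set G) := hle (hA ha)
      have h1 := hc'a ⟨a, haN⟩ ha
      exact congrArg Subtype.val h1
    obtain ⟨n, hn, hna⟩ := IH A (c' : G) hA c'.2 hcN (fun a ha => by rw [hca a ha]; exact hxA a ha)
    exact ⟨n, hn, fun a ha => (hna a ha).trans (hca a ha)⟩

end Cfsg.Agent.Lib.helper14
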