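import Cfsg.Agent.Lib.helper14.IsoCentral
import Cfsg.Agent.Lib.helper14.ParabolicSubnormal
import Cfsg.Agent.Lib.helper9.PPrimeCore
import Cfsg.Prelude.Def_IsolatedElements

set_option autoImplicit false
set_option linter.unusedSectionVars false
set_option linter.unusedVariables false

namespace Cfsg.Agent.Lib.helper14

open Cfsg
open scoped commutatorElement Pointwise

universe u

section zstar
variable {G : Type u} [Group G] [Finite G] {p : ℕ} [Fact p.Prime]

/-- a normal subgroup `K` that is `p'` modulo a central `p`-subgroup `N` equals `N` when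
`O_{p'}(G) = 1`. -/
theorem eq_of_central_coprime (hO : Cfsg.pPrimeCore p G = ⊥) (N K : Subgroup G) (hNK : N ≤ K)
    [hK : K.Normal] (hNc : ∀ n ∈ N, ∀ g : G, g * n = n * g) (hN : IsPGroup p N)
    (hcop : (N.relIndex K).Coprime p) : K = N := by
  classical
  have hp : p.Prime := Fact.out
  have hZle : N.subgroupOf K ≤ Subgroup.center K := by
    intro z hz
    rw [Subgroup.mem_center_iff]
    intro g
    apply Subtype.ext
    exact hNc (z : G) (Subgroup.mem_subgroupOf.1 hz) (g : G)
  set i : ℕ := (Subgroup.center K).index with hi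
  have hicop : i.Coprime p :=
    Nat.Coprime.coprime_dvd_left (Subgroup.index_dvd_of_le hZle) hcop
  -- a normal subgroup of `G` inside `K` all of whose elements are killed by a `p'`-number is trivial
  have hkill : ∀ (W : Subgroup G) (u : ℕ), u.Coprime p → W ≤ K →
      (∀ w ∈ W, w ^ u = 1) → (∀ k ∈ K, k ^ u = 1 → k ∈ W) → W = ⊥ := by
    intro W u hu hWK hW1 hW2
    have hWn : W.Normal := by
      constructor
      intro w hw g
      apply hW2 _ (hK.conj_mem w (hWK hw) g)
      rw [conj_pow, hW1 w hw]; group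
    have := Cfsg.Agent.Lib.helper9.le_pPrimeCore hWn
      (coprime_card_of_forall_pow_eq_one W u hu hW1)
    rw [hO] at this
    exact le_bot_iff.1 this
  have hψ : ∀ k : K, ((MonoidHom.transferCenterPow K k : Subgroup.center K) : K) = k ^ i :=
    fun k => MonoidHom.transferCenterPow_apply k
  have hA : ∀ k ∈ K, k ^ i = 1 → k = 1 := by
    set W : Subgroup G := ((MonoidHom.transferCenterPow K).ker).map K.subtype with hW
    have hWmem : ∀ w : G, w ∈ W ↔ w ∈ K ∧ w ^ i = 1 := by
      intro w
      constructor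
      · rintro ⟨k, hk, rfl⟩
        refine ⟨k.2, ?_⟩
        have h1 : ((MonoidHom.transferCenterPow K k : Subgroup.center K) : K) = 1 := by
          rw [MonoidHom.mem_ker.1 hk]; rfl
        rw [hψ] at h1
        have := congrArg Subtype.val h1
        simpa using this
      · rintro ⟨hwK, hw⟩
        refine ⟨⟨w, hwK⟩, MonoidHom.mem_ker.2 ?_, rfl⟩
        apply Subtype.ext
        rw [hψ]
        apply Subtype.ext
        simpa using hw
    have hWbot := hkill W i hicop (fun w hw => ((hWmem w).1 hw).1)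
      (fun w hw => ((hWmem w).1 hw).2) (fun k hk hk1 => (hWmem k).2 ⟨hk, hk1⟩)
    intro k hk hk1
    have : k ∈ W := (hWmem k).2 ⟨hk, hk1⟩
    rw [hWbot] at this
    exact Subgroup.mem_bot.1 this
  have hKcomm : ∀ a ∈ K, ∀ b ∈ K, a * b = b * a := by
    intro a ha b hb
    have hc : a * b * a⁻¹ * b⁻¹ ∈ K :=
      K.mul_mem (K.mul_mem (K.mul_mem ha hb) (K.inv_mem ha)) (K.inv_mem hb)
    have h1 : (a * b * a⁻¹ * b⁻¹) ^ i = 1 := by
      have h2 : MonoidHom.transferCenterPow K (⟨a, ha⟩ * ⟨b, hb⟩ * ⟨a, ha⟩⁻¹ * ⟨b, hb⟩⁻¹) = 1 := by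
        rw [map_mul, map_mul, map_mul, map_inv, map_inv]
        have hcm : ∀ u v : Subgroup.center K, u * v = v * u := fun u v =>
          Subtype.ext (Subgroup.mem_center_iff.1 v.2 (u : K))
        rw [hcm (MonoidHom.transferCenterPow K ⟨a, ha⟩)]
        group
      have h3 := hψ (⟨a, ha⟩ * ⟨b, hb⟩ * ⟨a, ha⟩⁻¹ * ⟨b, hb⟩⁻¹)
      rw [h2] at h3
      have := congrArg Subtype.val h3
      simpa using this.symm
    have h4 := hA _ hc h1
    calc a * b = (a * b * a⁻¹ * b⁻¹) * b * a := by group
      _ = b * a := by rw [h4, one_mul]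
  set m : ℕ := N.relIndex K with hm
  have hB : ∀ k ∈ K, k ^ m = 1 → k = 1 := by
    let W : Subgroup G :=
      { carrier := {k | k ∈ K ∧ k ^ m = 1}
        mul_mem' := by
          rintro a b ⟨ha, ha1⟩ ⟨hb, hb1⟩
          refine ⟨K.mul_mem ha hb, ?_⟩
          rw [(show Commute a b from hKcomm a ha b hb).mul_pow, ha1, hb1, one_mul]
        one_mem' := ⟨K.one_mem, one_pow m⟩
        inv_mem' := by
          rintro a ⟨ha, ha1⟩
          exact ⟨K.inv_mem ha, by rw [inv_pow, ha1, inv_one]⟩ }
    have hWbot := hkill W m hcop (fun w hw => hw.1) (fun w hw => hw.2)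
      (fun k hk hk1 => ⟨hk, hk1⟩)
    intro k hk hk1
    have : k ∈ W := ⟨hk, hk1⟩
    rw [hWbot] at this
    exact Subgroup.mem_bot.1 this
  apply le_antisymm _ hNK
  intro k hk
  have hkm : k ^ m ∈ N := by
    haveI : (N.subgroupOf K).Normal := by
      constructor
      intro n hn g
      have := hZle hn
      rw [Subgroup.mem_center_iff] at this
      rw [this g, mul_inv_cancel_right]
      exact hn
    have h1 := Subgroup.pow_index_mem (N.subgroupOf K) (⟨k, hk⟩ : K)
    rw [Subgroup.mem_subgroupOf] at h1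
    simp only [Subgroup.coe_pow] at h1
    exact h1
  obtain ⟨a, ha⟩ := IsPGroup.iff_card.mp hN
  have hkq : k ^ (p ^ a) = 1 := by
    apply hB _ (K.pow_mem hk _)
    rw [← pow_mul, mul_comm, pow_mul]
    have : (⟨k ^ m, hkm⟩ : N) ^ Nat.card N = 1 := pow_card_eq_one'
    rw [ha] at this
    have := congrArg Subtype.val this
    simpa using this
  have hord : orderOf k ∣ p ^ a := orderOf_dvd_of_pow_eq_one hkq
  have hc : m.Coprime (orderOf k) :=
    Nat.Coprime.coprime_dvd_right hord (Nat.Coprime.pow_right a hcop)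
  obtain ⟨j, hj⟩ := exists_pow_eq_self_of_coprime hc
  rw [← hj]
  exact N.pow_mem hkm j

/-- in the situation of an isolated element, every `p`-subgroup containing `x` centralizes `x`. -/
theorem isolated_central_in_pgroup (x : G) (hiso : Cfsg.IsIsolated x) (P : Subgroup G)
    (hP : IsPGroup p P) (hxP : x ∈ P) : ∀ s ∈ P, s * x * s⁻¹ = x := by
  set C : Subgroup G := P ⊓ Subgroup.centralizer ({x} : Set G) with hC
  have hCmem : ∀ g : G, g ∈ Subgroup.centralizer ({x} : Set G) ↔ x * g = g * x := by
    intro g; rw [Subgroup.mem_centralizer_iff]; simp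
  have hCP : C = P := by
    by_contra hne
    obtain ⟨k, hkP, hkC, hkN⟩ := exists_normalizer_not_mem' P C hP inf_le_left hne
    have hxC : x ∈ C := Subgroup.mem_inf.2 ⟨hxP, (hCmem x).2 rfl⟩
    have h1 : k * x * k⁻¹ ∈ C := (Subgroup.mem_normalizer_iff.1 hkN x).1 hxC
    have h2 : Commute x (k * x * k⁻¹) := (hCmem _).1 (Subgroup.mem_inf.1 h1).2
    have h3 := hiso k h2
    apply hkC
    refine Subgroup.mem_inf.2 ⟨hkP, (hCmem k).2 ?_⟩
    calc x * k = (k * x * k⁻¹) * k := by rw [h3]
      _ = k * x := by group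
  intro s hs
  have : s ∈ C := by rw [hCP]; exact hs
  have h1 := (hCmem s).1 (Subgroup.mem_inf.1 this).2
  calc s * x * s⁻¹ = (x * s) * s⁻¹ := by rw [h1]
    _ = x := by group

/-- **S2972**: minimal counterexample to the `Z*_p`-statement. -/
theorem zstar_min_counterexample (x : G) (hx : orderOf x = p) (hiso : Cfsg.IsIsolated x)
    (hnz : ¬ Cfsg.InZStar p x)
    (hmin : ∀ (H : Subgroup G) (hxH : x ∈ H), H ≠ ⊤ → Cfsg.InZStar p (⟨x, hxH⟩ : ↥H))
    (hquot : ∀ (N : Subgroup G) [N.Normal], N ≠ ⊥ →
      Cfsg.InZStar p (QuotientGroup.mk x : G ⧸ N)) :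
    IsSimpleGroup ↥(commutator G) ∧ ¬ IsMulCommutative ↥(commutator G) ∧
      commutator G ⊔ Subgroup.zpowers x = ⊤ := by
  classical
  have hp : p.Prime := Fact.out
  have hx1 : x ≠ 1 := by
    intro h; rw [h, orderOf_one] at hx; exact hp.one_lt.ne hx
  have hxp : x ^ p = 1 := by rw [← hx]; exact pow_orderOf_eq_one x
  -- Step 1: the p'-core is trivial
  have hO : Cfsg.pPrimeCore p G = ⊥ := by
    by_contra hne
    haveI := Cfsg.Agent.Lib.helper9.ppc_normal p G
    have h1 := hquot (Cfsg.pPrimeCore p G) hne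
    apply hnz
    intro g
    have h2 := h1 (QuotientGroup.mk g)
    rw [Cfsg.Agent.Lib.helper9.pPrimeCore_quotient_eq_bot, Subgroup.mem_bot] at h2
    have h3 : ((g * x * g⁻¹ * x⁻¹ : G) : G ⧸ Cfsg.pPrimeCore p G) = 1 := by
      simpa using h2
    exact (QuotientGroup.eq_one_iff _).1 h3
  -- Step 2: x is not central
  have hxc : ∃ g : G, g * x * g⁻¹ ≠ x := by
    by_contra hcon
    push Not at hcon
    apply hnz
    intro g
    rw [hcon g, mul_inv_cancel]
    exact Subgroup.one_mem _
  obtain ⟨g₀, hg₀⟩ := hxc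
  -- Step 4: normal subgroups containing x are everything
  have hM : ∀ M : Subgroup G, M.Normal → x ∈ M → M = ⊤ := by
    intro M hMn hxM
    by_contra hne
    have h1 := hmin M hxM hne
    have hbot : Cfsg.pPrimeCore p ↥M = ⊥ := by
      haveI := Cfsg.Agent.Lib.helper9.ppc_normal p ↥M
      have hsn : ((Cfsg.pPrimeCore p ↥M).map M.subtype).IsSubnormal := by
        refine Subgroup.IsSubnormal.step _ M (Subgroup.map_subtype_le _) hMn.isSubnormal ?_
        rw [Subgroup.normal_subgroupOf_iff_le_normalizer (Subgroup.map_subtype_le _)]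
        exact le_normalizer_map_subtype M _
      have hc : (Nat.card ((Cfsg.pPrimeCore p ↥M).map M.subtype)).Coprime p := by
        rw [Subgroup.card_map_of_injective M.subtype_injective]
        exact Cfsg.Agent.Lib.helper9.pPrimeCore_coprime p ↥M
      have h2 := Cfsg.Agent.Lib.helper9.subnormal_le_pPrimeCore hsn hc
      rw [hO, le_bot_iff, Subgroup.map_eq_bot_iff_of_injective _ M.subtype_injective] at h2
      exact h2
    apply hg₀
    apply hiso
    have h2 := h1 ⟨g₀ * x * g₀⁻¹, hMn.conj_mem x hxM g₀⟩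
    rw [hbot, Subgroup.mem_bot] at h2
    have h3 := congrArg Subtype.val h2
    simp only [Subgroup.coe_mul, Subgroup.coe_inv, Subgroup.coe_one] at h3
    -- h3 : (g₀ x g₀⁻¹) x (g₀ x g₀⁻¹)⁻¹ x⁻¹ = 1
    have h4 : (g₀ * x * g₀⁻¹) * x = x * (g₀ * x * g₀⁻¹) := by
      have := mul_inv_eq_one.1 h3
      calc (g₀ * x * g₀⁻¹) * x = ((g₀ * x * g₀⁻¹) * x * (g₀ * x * g₀⁻¹)⁻¹) * (g₀ * x * g₀⁻¹) := by
            group
        _ = x * (g₀ * x * g₀⁻¹) := by rw [this]
    exact h4.symm
  -- Step 5: a minimal normal subgroup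
  obtain ⟨N, ⟨hNn, hN1⟩, hNmin'⟩ := WellFounded.has_min
    (measure (fun K : Subgroup G => Nat.card K)).wf {K : Subgroup G | K.Normal ∧ K ≠ ⊥}
    ⟨⊤, inferInstance, fun h => hx1 (by
      have : x ∈ (⊤ : Subgroup G) := Subgroup.mem_top x
      rw [h] at this; exact Subgroup.mem_bot.1 this)⟩
  have hNmin : ∀ M : Subgroup G, M.Normal → M ≠ ⊥ → M ≤ N → M = N := by
    intro M hMn hM1 hMN
    have : ¬ (Nat.card M < Nat.card N) := hNmin' M ⟨hMn, hM1⟩
    exact Subgroup.eq_of_le_of_card_ge hMN (not_lt.1 this)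
  -- Step 6
  have hpN : p ∣ Nat.card N := by
    by_contra hnd
    have := Cfsg.Agent.Lib.helper9.le_pPrimeCore hNn ((hp.coprime_iff_not_dvd.mpr hnd).symm)
    rw [hO] at this
    exact hN1 (le_bot_iff.1 this)
  -- Step 7: G = N⟨x⟩
  have hsup : N ⊔ Subgroup.zpowers x = ⊤ := by
    by_contra hne
    have hxH : x ∈ N ⊔ Subgroup.zpowers x := Subgroup.mem_sup_right (Subgroup.mem_zpowers x)
    have h1 := hmin _ hxH hne
    set H : Subgroup G := N ⊔ Subgroup.zpowers x with hH
    haveI := Cfsg.Agent.Lib.helper9.ppc_normal p ↥H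
    set W : Subgroup G := (Cfsg.pPrimeCore p ↥H).map H.subtype with hW
    have hWc : (Nat.card W).Coprime p := by
      rw [hW, Subgroup.card_map_of_injective H.subtype_injective]
      exact Cfsg.Agent.Lib.helper9.pPrimeCore_coprime p ↥H
    have hHW : H ≤ Subgroup.normalizer (W : Set G) := le_normalizer_map_subtype H _
    have hNH : N ≤ H := le_sup_left
    have hD : W ⊓ N = ⊥ := by
      have hsn : (W ⊓ N).IsSubnormal := by
        refine Subgroup.IsSubnormal.step _ N inf_le_right hNn.isSubnormal ?_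
        rw [Subgroup.normal_subgroupOf_iff_le_normalizer inf_le_right]
        exact le_normalizer_inf W N N (hNH.trans hHW) Subgroup.le_normalizer
      have hc : (Nat.card ↥(W ⊓ N)).Coprime p :=
        Nat.Coprime.coprime_dvd_left (Subgroup.card_dvd_of_le inf_le_left) hWc
      have h2 := Cfsg.Agent.Lib.helper9.subnormal_le_pPrimeCore hsn hc
      rw [hO] at h2
      exact le_bot_iff.1 h2
    -- x centralizes N
    have hxN : ∀ n ∈ N, n * x * n⁻¹ = x := by
      intro n hn
      have h2 := h1 ⟨n, hNH hn⟩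
      have h3 : n * x * n⁻¹ * x⁻¹ ∈ W := ⟨_, h2, rfl⟩
      have h4 : n * x * n⁻¹ * x⁻¹ ∈ N := by
        have : n * x * n⁻¹ * x⁻¹ = n * (x * n⁻¹ * x⁻¹) := by group
        rw [this]
        exact N.mul_mem hn (hNn.conj_mem _ (N.inv_mem hn) x)
      have h5 : n * x * n⁻¹ * x⁻¹ ∈ W ⊓ N := Subgroup.mem_inf.2 ⟨h3, h4⟩
      rw [hD, Subgroup.mem_bot] at h5
      exact mul_inv_eq_one.1 h5
    -- N is central
    have hNZ : ∀ n ∈ N, ∀ g : G, g * n = n * g := by
      have h2 : Subgroup.centralizer (N : Set G) = ⊤ := by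
        apply hM _ inferInstance
        rw [Subgroup.mem_centralizer_iff]
        intro n hn
        have := hxN n hn
        calc n * x = (n * x * n⁻¹) * n := by group
          _ = x * n := by rw [this]
      intro n hn g
      have h3 : g ∈ Subgroup.centralizer (N : Set G) := by rw [h2]; trivial
      exact ((Subgroup.mem_centralizer_iff.1 h3) n hn).symm
    -- N has order p
    have hNp : IsPGroup p N := by
      haveI : Fact p.Prime := ⟨hp⟩
      obtain ⟨y, hy⟩ := exists_prime_orderOf_dvd_card' p hpN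
      have hy1 : (y : G) ≠ 1 := by
        intro h
        have : y = 1 := Subtype.ext h
        rw [this, orderOf_one] at hy
        exact hp.one_lt.ne hy
      have hyn : (Subgroup.zpowers (y : G)).Normal := by
        constructor
        intro n hn g
        have hnN : n ∈ N := (Subgroup.zpowers_le.2 y.2) hn
        have := hNZ n hnN g
        rw [this, mul_inv_cancel_right]
        exact hn
      have h2 := hNmin _ hyn (by
        intro h
        apply hy1
        have : (y : G) ∈ Subgroup.zpowers (y : G) := Subgroup.mem_zpowers _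
        rw [h] at this
        exact Subgroup.mem_bot.1 this) (Subgroup.zpowers_le.2 y.2)
      apply IsPGroup.of_card (n := 1)
      rw [← h2, Nat.card_zpowers, Subgroup.orderOf_coe, hy, pow_one]
    -- the preimage of the p'-core of G/N
    set K : Subgroup G := (Cfsg.pPrimeCore p (G ⧸ N)).comap (QuotientGroup.mk' N) with hKdef
    haveI hKn : K.Normal := (Cfsg.Agent.Lib.helper9.ppc_normal p (G ⧸ N)).comap _
    have hNK : N ≤ K := by
      intro n hn
      rw [hKdef, Subgroup.mem_comap, QuotientGroup.mk'_apply, (QuotientGroup.eq_one_iff n).2 hn]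
      exact Subgroup.one_mem _
    have hrel : (N.relIndex K).Coprime p := by
      have h2 := Subgroup.relIndex_comap (⊥ : Subgroup (G ⧸ N)) (QuotientGroup.mk' N) K
      rw [MonoidHom.comap_bot, QuotientGroup.ker_mk', hKdef,
        Subgroup.map_comap_eq_self_of_surjective (QuotientGroup.mk'_surjective N),
        Subgroup.relIndex_bot_left] at h2
      rw [hKdef, h2]
      exact Cfsg.Agent.Lib.helper9.pPrimeCore_coprime p (G ⧸ N)
    have hKN : K = N := eq_of_central_coprime hO N K hNK hNZ hNp hrel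
    -- commutators with x lie in N
    have hcomm : ∀ g : G, g * x * g⁻¹ * x⁻¹ ∈ N := by
      intro g
      have h2 := hquot N hN1 (QuotientGroup.mk g)
      rw [← hKN, hKdef, Subgroup.mem_comap, QuotientGroup.mk'_apply]
      simpa using h2
    apply hne
    apply hM
    · constructor
      intro y hy g
      rw [hH, ← SetLike.mem_coe, Subgroup.normal_mul, Set.mem_mul] at hy ⊢
      obtain ⟨n, hn, z, hz, rfl⟩ := hy
      obtain ⟨k, rfl⟩ := Subgroup.mem_zpowers_iff.1 hz
      refine ⟨g * (n * x ^ k) * g⁻¹ * (x ^ k)⁻¹, ?_, x ^ k, hz, by group⟩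
      have h3 : g * (n * x ^ k) * g⁻¹ * (x ^ k)⁻¹ =
          (g * n * g⁻¹) * ((g * x * g⁻¹) ^ k * (x ^ k)⁻¹) := by
        rw [conj_zpow]; group
      have h4 : g * x * g⁻¹ = (g * x * g⁻¹ * x⁻¹) * x := by group
      have hc := hcomm g
      have hcc : Commute (g * x * g⁻¹ * x⁻¹) x := (hNZ _ hc x).symm
      have h5 : (g * x * g⁻¹) ^ k * (x ^ k)⁻¹ = (g * x * g⁻¹ * x⁻¹) ^ k := by
        nth_rewrite 1 [h4]
        rw [hcc.mul_zpow, mul_inv_cancel_right]
      rw [h3, h5]
      exact N.mul_mem (hNn.conj_mem n hn g) (N.zpow_mem hc k)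
    · exact hxH
  -- a Sylow subgroup containing x
  have hxpg : IsPGroup p (Subgroup.zpowers x) :=
    IsPGroup.of_card (n := 1) (by rw [Nat.card_zpowers, hx, pow_one])
  obtain ⟨S, hS⟩ := hxpg.exists_le_sylow
  have hxS : x ∈ (S : Subgroup G) := hS (Subgroup.mem_zpowers x)
  have hSx : ∀ s ∈ (S : Subgroup G), s * x * s⁻¹ = x :=
    isolated_central_in_pgroup x hiso S S.isPGroup' hxS
  -- Step 8: N is not abelian
  have hNab : ¬ ∀ a ∈ N, ∀ b ∈ N, a * b = b * a := by
    intro hab
    -- the elements of order dividing p form a normal subgroup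
    let Np : Subgroup G :=
      { carrier := {n | n ∈ N ∧ n ^ p = 1}
        mul_mem' := by
          rintro a b ⟨ha, ha1⟩ ⟨hb, hb1⟩
          refine ⟨N.mul_mem ha hb, ?_⟩
          rw [(show Commute a b from hab a ha b hb).mul_pow, ha1, hb1, one_mul]
        one_mem' := ⟨N.one_mem, one_pow p⟩
        inv_mem' := by
          rintro a ⟨ha, ha1⟩
          exact ⟨N.inv_mem ha, by rw [inv_pow, ha1, inv_one]⟩ }
    have hNpn : Np.Normal := by
      constructor
      rintro n ⟨hn, hn1⟩ g
      exact ⟨hNn.conj_mem n hn g, by rw [conj_pow, hn1]; group⟩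
    have hNp1 : Np ≠ ⊥ := by
      obtain ⟨y, hy⟩ := exists_prime_orderOf_dvd_card' p hpN
      intro h
      have hmem : (y : G) ∈ Np := ⟨y.2, by
        have := pow_orderOf_eq_one y
        rw [hy] at this
        have := congrArg Subtype.val this
        simpa using this⟩
      rw [h, Subgroup.mem_bot] at hmem
      have : y = 1 := Subtype.ext hmem
      rw [this, orderOf_one] at hy
      exact hp.one_lt.ne hy
    have hNpN : Np = N := hNmin Np hNpn hNp1 (fun n hn => hn.1)
    have hNpg : IsPGroup p N := by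
      intro n
      refine ⟨1, ?_⟩
      have : (n : G) ∈ Np := by rw [hNpN]; exact n.2
      apply Subtype.ext
      rw [pow_one]
      simpa using this.2
    have hGp : IsPGroup p (⊤ : Subgroup G) := by
      rw [← hsup, sup_comm]
      exact IsPGroup.to_sup_of_normal_right hxpg hNpg
    exact hg₀ (isolated_central_in_pgroup x hiso ⊤ hGp (Subgroup.mem_top x) g₀ (Subgroup.mem_top g₀))
  -- Step 9: the commutator subgroup is N
  have hcommN : commutator G = N := by
    apply le_antisymm
    · rw [commutator_def, Subgroup.commutator_le]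
      intro g₁ _ g₂ _
      have hdec : ∀ g : G, ∃ n ∈ N, ∃ k : ℤ, g = n * x ^ k := by
        intro g
        have : g ∈ N ⊔ Subgroup.zpowers x := by rw [hsup]; trivial
        rw [← SetLike.mem_coe, Subgroup.normal_mul, Set.mem_mul] at this
        obtain ⟨n, hn, z, hz, rfl⟩ := this
        obtain ⟨k, rfl⟩ := Subgroup.mem_zpowers_iff.1 hz
        exact ⟨n, hn, k, rfl⟩
      obtain ⟨n₁, hn₁, k₁, rfl⟩ := hdec g₁
      obtain ⟨n₂, hn₂, k₂, rfl⟩ := hdec g₂
      rw [← QuotientGroup.eq_one_iff (N := N), commutatorElement_def]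
      have e1 : ((n₁ : G) : G ⧸ N) = 1 := (QuotientGroup.eq_one_iff n₁).2 hn₁
      have e2 : ((n₂ : G) : G ⧸ N) = 1 := (QuotientGroup.eq_one_iff n₂).2 hn₂
      simp only [QuotientGroup.mk_mul, QuotientGroup.mk_inv, e1, e2, one_mul, QuotientGroup.mk_zpow]
      have hc : Commute ((x : G ⧸ N) ^ k₁) ((x : G ⧸ N) ^ k₂) :=
        (Commute.refl (x : G ⧸ N)).zpow_zpow k₁ k₂
      rw [hc.eq]; group
    · have h1 : ⁅N, N⁆ ≤ commutator G := by
        rw [commutator_def]; exact Subgroup.commutator_mono le_top le_top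
      have h2 : ⁅N, N⁆ = N := by
        apply hNmin _ (Subgroup.commutator_normal N N) _ (Subgroup.commutator_le_left N N)
        intro hbot
        apply hNab
        intro a ha b hb
        have := (Subgroup.commutator_eq_bot_iff_le_centralizer.1 hbot) ha
        exact ((Subgroup.mem_centralizer_iff.1 this) b hb).symm
      rw [← h2]; exact h1
  rw [hcommN]
  refine ⟨?_, ?_, hsup⟩
  · -- Step 10: N is simple
    haveI : Nontrivial N := (Subgroup.nontrivial_iff_ne_bot N).2 hN1
    refine IsSimpleGroup.mk ?_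
    intro H hHn
    by_cases hH1 : H = ⊥
    · exact Or.inl hH1
    right
    set M : Subgroup G := H.map N.subtype with hMdef
    have hMN : M ≤ N := Subgroup.map_subtype_le H
    have hM1 : M ≠ ⊥ := by
      intro h
      apply hH1
      rwa [hMdef, Subgroup.map_eq_bot_iff_of_injective _ N.subtype_injective] at h
    have hNM : N ≤ Subgroup.normalizer (M : Set G) := le_normalizer_map_subtype N H
    obtain ⟨T, ⟨hTM, hT1, hNT⟩, hTmin'⟩ := WellFounded.has_min
      (measure (fun K : Subgroup G => Nat.card K)).wf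
      {T : Subgroup G | T ≤ M ∧ T ≠ ⊥ ∧ N ≤ Subgroup.normalizer (T : Set G)} ⟨M, le_rfl, hM1, hNM⟩
    have hTmin : ∀ T' : Subgroup G, T' ≤ T → T' ≠ ⊥ → N ≤ Subgroup.normalizer (T' : Set G) →
        T' = T := by
      intro T' hT'T hT'1 hNT'
      have : ¬ (Nat.card T' < Nat.card T) := hTmin' T' ⟨hT'T.trans hTM, hT'1, hNT'⟩
      exact Subgroup.eq_of_le_of_card_ge hT'T (not_lt.1 this)
    have hTN : T ≤ N := hTM.trans hMN
    have hTsn : T.IsSubnormal := by
      refine Subgroup.IsSubnormal.step _ N hTN hNn.isSubnormal ?_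
      rw [Subgroup.normal_subgroupOf_iff_le_normalizer hTN]
      exact hNT
    have hpT : p ∣ Nat.card T := by
      by_contra hnd
      have := Cfsg.Agent.Lib.helper9.subnormal_le_pPrimeCore hTsn
        ((hp.coprime_iff_not_dvd.mpr hnd).symm)
      rw [hO] at this
      exact hT1 (le_bot_iff.1 this)
    have hsyl := sylIn_inf_subnormal S T hTsn
    have hST1 : (S : Subgroup G) ⊓ T ≠ ⊥ := by
      intro h
      have h2 := hsyl.2
      rw [h, Subgroup.card_bot] at h2
      have h3 : 0 < (Nat.card T).factorization p :=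
        hp.factorization_pos_of_dvd Nat.card_pos.ne' hpT
      have h4 : 1 < p ^ (Nat.card T).factorization p := Nat.one_lt_pow h3.ne' hp.one_lt
      omega
    obtain ⟨t, ht1⟩ := (Subgroup.ne_bot_iff_exists_ne_one.1 hST1)
    have htS : (t : G) ∈ (S : Subgroup G) := (Subgroup.mem_inf.1 t.2).1
    have htT : (t : G) ∈ T := (Subgroup.mem_inf.1 t.2).2
    have htx : x * (t : G) * x⁻¹ = (t : G) := by
      have h0 := hSx _ htS
      have h1 : (t : G) * x = x * (t : G) := by
        calc (t : G) * x = ((t : G) * x * (t : G)⁻¹) * (t : G) := by group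
          _ = x * (t : G) := by rw [h0]
      rw [← h1]; group
    set T' : Subgroup G := T.map (MulAut.conj x).toMonoidHom with hT'
    have hNT' : N ≤ Subgroup.normalizer (T' : Set G) := by
      intro n hn
      have h1 : x⁻¹ * n * x ∈ N := by
        have := hNn.conj_mem n hn x⁻¹
        simpa using this
      have h2 := conj_mem_normalizer_map_conj T (hNT h1) x
      have e : x * (x⁻¹ * n * x) * x⁻¹ = n := by group
      rwa [e] at h2
    have hinf : T ⊓ T' = T := by
      apply hTmin _ inf_le_left _ (le_normalizer_inf T T' N hNT hNT')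
      intro h
      have : (t : G) ∈ T ⊓ T' := Subgroup.mem_inf.2 ⟨htT, (mem_map_conj T x _).2 (by
        have e : x⁻¹ * (t : G) * x = (t : G) := by
          calc x⁻¹ * (t : G) * x = x⁻¹ * (x * (t : G) * x⁻¹) * x := by rw [htx]
            _ = (t : G) := by group
        rw [e]; exact htT)⟩
      rw [h, Subgroup.mem_bot] at this
      exact ht1 (Subtype.ext this)
    have hTT' : T' = T := by
      have hle : T ≤ T' := inf_eq_left.1 hinf
      exact (Subgroup.eq_of_le_of_card_ge hle (by rw [hT', card_map_conj])).symm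
    have hxT : x ∈ Subgroup.normalizer (T : Set G) := mem_normalizer_of_map_conj_eq T hTT'
    have hTn : T.Normal := by
      rw [← Subgroup.normalizer_eq_top_iff, eq_top_iff, ← hsup]
      exact sup_le hNT (Subgroup.zpowers_le.2 hxT)
    have hTeq : T = N := hNmin T hTn hT1 hTN
    have hMeq : M = N := le_antisymm hMN (hTeq ▸ hTM)
    rw [eq_top_iff]
    intro h _
    have : (h : G) ∈ M := by rw [hMeq]; exact h.2
    obtain ⟨h', hh', e⟩ := this
    have : h' = h := Subtype.ext e
    rw [← this]; exact hh'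
  · -- Step 11
    intro hc
    apply hNab
    intro a ha b hb
    have := hc.is_comm.comm (⟨a, ha⟩ : N) ⟨b, hb⟩
    exact congrArg Subtype.val this

end zstar

end Cfsg.Agent.Lib.helper14
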